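import Cfsg.Agent.Lib.SL2Char.Table
import Cfsg.Agent.Lib.CharTheory.Linear
import Cfsg.Prelude.Def_DegreeGraph

/-!
The set of character degrees of `SL₂(q)` and `PSL₂(q)`, and the shape of their degree graphs.
-/

set_option autoImplicit false

namespace CfsgLib.SL2Char

open Matrix Cfsg CfsgLib.CharTheory
open scoped Classical

section Abstract

variable {S : Type*} [Group S]

/-- Every degree divides one of `q`, `q + 1`, `q - 1`, and these three are degrees. -/
def HasSL2Degrees (S : Type*) [Group S] (q : ℕ) : Prop :=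
  (∀ d ∈ charDegrees S, d ∣ q ∨ d ∣ q + 1 ∨ d ∣ q - 1) ∧
    q ∈ charDegrees S ∧ q + 1 ∈ charDegrees S ∧ q - 1 ∈ charDegrees S

theorem prime_dvd_sq_sub_one {q r : ℕ} (hr : r.Prime) :
    r ∣ q ^ 2 - 1 ↔ r ∣ q + 1 ∨ r ∣ q - 1 := by
  rw [show q ^ 2 - 1 = (q + 1) * (q - 1) by simpa using Nat.sq_sub_sq q 1]
  exact hr.dvd_mul

theorem HasSL2Degrees.primes {q : ℕ} (h : HasSL2Degrees S q) :
    degreePrimes S = {r : ℕ | r.Prime ∧ r ∣ q * (q ^ 2 - 1)} := by
  ext r
  constructor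
  · rintro ⟨hr, d, hd, hrd⟩
    refine ⟨hr, hr.dvd_mul.mpr ?_⟩
    rcases h.1 d hd with e | e | e
    · exact Or.inl (hrd.trans e)
    · exact Or.inr ((prime_dvd_sq_sub_one hr).mpr (Or.inl (hrd.trans e)))
    · exact Or.inr ((prime_dvd_sq_sub_one hr).mpr (Or.inr (hrd.trans e)))
  · rintro ⟨hr, hd⟩
    rcases hr.dvd_mul.mp hd with e | e
    · exact ⟨hr, q, h.2.1, e⟩
    · rcases (prime_dvd_sq_sub_one hr).mp e with e | e
      · exact ⟨hr, _, h.2.2.1, e⟩
      · exact ⟨hr, _, h.2.2.2, e⟩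

theorem HasSL2Degrees.adj {q t a : ℕ} (ht : t.Prime) (hq : q = t ^ a) (h : HasSL2Degrees S q)
    (r s : ℕ) : (degreeGraph S).Adj r s ↔ r ≠ s ∧ r.Prime ∧ s.Prime ∧
      ((r ∣ q + 1 ∧ s ∣ q + 1) ∨ (r ∣ q - 1 ∧ s ∣ q - 1)) := by
  constructor
  · rintro ⟨hne, hr, hs, d, hd, hrs⟩
    refine ⟨hne, hr, hs, ?_⟩
    rcases h.1 d hd with e | e | e
    · exfalso
      have h1 : r ∣ t ^ a := hq ▸ (dvd_mul_right r s).trans (hrs.trans e)
      have h2 : s ∣ t ^ a := hq ▸ (dvd_mul_left s r).trans (hrs.trans e)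
      exact hne (((Nat.prime_dvd_prime_iff_eq hr ht).mp (hr.dvd_of_dvd_pow h1)).trans
        ((Nat.prime_dvd_prime_iff_eq hs ht).mp (hs.dvd_of_dvd_pow h2)).symm)
    · exact Or.inl ⟨(dvd_mul_right r s).trans (hrs.trans e), (dvd_mul_left s r).trans (hrs.trans e)⟩
    · exact Or.inr ⟨(dvd_mul_right r s).trans (hrs.trans e), (dvd_mul_left s r).trans (hrs.trans e)⟩
  · rintro ⟨hne, hr, hs, h'⟩
    have hcop := (Nat.coprime_primes hr hs).mpr hne
    rcases h' with ⟨e1, e2⟩ | ⟨e1, e2⟩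
    · exact ⟨hne, hr, hs, _, h.2.2.1, hcop.mul_dvd_of_dvd_of_dvd e1 e2⟩
    · exact ⟨hne, hr, hs, _, h.2.2.2, hcop.mul_dvd_of_dvd_of_dvd e1 e2⟩

theorem charDegree_of_eq {χ : S → ℂ} {d : ℕ} (h : χ 1 = d) : charDegree χ = d := by
  simp [charDegree, h]

/-- Transfer along an isomorphism. -/
theorem charDegrees_subset {T : Type*} [Group T] (f : S →* T) (hf : Function.Surjective f) :
    charDegrees T ⊆ charDegrees S := by
  rintro d ⟨χ, rfl⟩
  exact ⟨⟨fun x => (χ : T → ℂ) (f x), isIrrCharacter_comp_surjective χ.2 f hf⟩, by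
    simp [charDegree]⟩

theorem charDegrees_mulEquiv {T : Type*} [Group T] (e : S ≃* T) : charDegrees S = charDegrees T :=
  Set.Subset.antisymm (charDegrees_subset e.symm.toMonoidHom e.symm.surjective)
    (charDegrees_subset e.toMonoidHom e.surjective)

theorem HasSL2Degrees.of_equiv {T : Type*} [Group T] (e : S ≃* T) {q : ℕ}
    (h : HasSL2Degrees T q) : HasSL2Degrees S q := by
  unfold HasSL2Degrees
  rw [charDegrees_mulEquiv e]
  exact h

end Abstract

variable {F : Type*} [Field F] [Fintype F] [DecidableEq F]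

local notation "SL2" => Matrix.SpecialLinearGroup (Fin 2) F
local notation "qC" => (Fintype.card F : ℂ)

/-- The degree of an irreducible character, as a natural number. -/
theorem charDegree_cases {χ : SL2 → ℂ} (hχ : IsIrrCharacter SL2 χ) :
    charDegree χ = 1 ∨ (χ = st ∧ charDegree χ = Fintype.card F) ∨
      charDegree χ = Fintype.card F + 1 ∨ charDegree χ + 1 = Fintype.card F ∨
      2 * charDegree χ = Fintype.card F + 1 ∨ 2 * charDegree χ + 1 = Fintype.card F := by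
  obtain ⟨C, hC, hcard⟩ := exists_torus (F := F)
  obtain ⟨d, -, hd⟩ := irr_degree_pos hχ
  rw [charDegree_of_eq hd]
  rcases degree_cases C hC hcard hχ with ⟨-, h⟩ | ⟨e, h⟩ | ⟨α, -, -, h⟩ | ⟨θ, -, -, h⟩ |
    ⟨-, H, -, h⟩ | ⟨-, H, -, h⟩ <;> rw [hd] at h
  · exact Or.inl (by exact_mod_cast h)
  · exact Or.inr (Or.inl ⟨e, by exact_mod_cast h⟩)
  · exact Or.inr (Or.inr (Or.inl (by exact_mod_cast h)))
  · refine Or.inr (Or.inr (Or.inr (Or.inl ?_)))
    exact natCast_inj' (by push_cast; linear_combination h)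
  · refine Or.inr (Or.inr (Or.inr (Or.inr (Or.inl ?_))))
    exact natCast_inj' (by push_cast; linear_combination h)
  · refine Or.inr (Or.inr (Or.inr (Or.inr (Or.inr ?_))))
    exact natCast_inj' (by push_cast; linear_combination h)

theorem charDegree_dvd {χ : SL2 → ℂ} (hχ : IsIrrCharacter SL2 χ) :
    charDegree χ ∣ Fintype.card F ∨ charDegree χ ∣ Fintype.card F + 1 ∨
      charDegree χ ∣ Fintype.card F - 1 := by
  rcases charDegree_cases hχ with h | ⟨-, h⟩ | h | h | h | h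
  · exact Or.inl (by rw [h]; exact one_dvd _)
  · exact Or.inl (by rw [h])
  · exact Or.inr (Or.inl (by rw [h]))
  · exact Or.inr (Or.inr (by rw [← h]; simp))
  · exact Or.inr (Or.inl (by rw [← h]; exact dvd_mul_left _ _))
  · exact Or.inr (Or.inr (by rw [← h]; simp))

omit [Fintype F] [DecidableEq F] in
theorem center_eq_bor {z : SL2} (hz : z ∈ Subgroup.center SL2) :
    ∃ e : Fˣ, e ^ 2 = 1 ∧ z = bor e 0 := by
  obtain ⟨r, hr, hA⟩ := Matrix.SpecialLinearGroup.mem_center_iff.mp hz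
  rw [Fintype.card_fin] at hr
  have h10 : z.1 1 0 = 0 := by
    have := congrArg (fun M : Matrix (Fin 2) (Fin 2) F => M 1 0) hA
    simpa using this.symm
  obtain ⟨a, x, ea, -, ex, hz'⟩ := eq_bor_of_lower h10
  have h00 : z.1 0 0 = r := by rw [← hA]; simp
  have h01 : z.1 0 1 = 0 := by rw [← hA]; simp
  rw [h01] at ex
  subst ex
  refine ⟨a, Units.ext ?_, hz'⟩
  rw [Units.val_pow_eq_pow_val, ea, h00, hr, Units.val_one]

theorem st_center {z : SL2} (hz : z ∈ Subgroup.center SL2) : st z = st (1 : SL2) := by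
  obtain ⟨e, he, rfl⟩ := center_eq_bor hz
  rw [st_bor_scalar he, st_one]

theorem exists_mulChar_good (hq : ((2 : F) = 0 ∧ 4 ≤ Fintype.card F) ∨ 5 < Fintype.card F) :
    ∃ α : MulChar F ℂ, α ^ 2 ≠ 1 ∧ ∀ e : Fˣ, e ^ 2 = 1 → α (e : F) = 1 := by
  obtain ⟨φ⟩ := (MulChar.mulEquiv_units F ℂ)
  have hcy : IsCyclic (MulChar F ℂ) := isCyclic_of_surjective φ.symm.toMonoidHom φ.symm.surjective
  obtain ⟨β, hβ⟩ := hcy.exists_generator
  have hord : orderOf β = Fintype.card F - 1 := by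
    rw [orderOf_eq_card_of_forall_mem_zpowers hβ, Nat.card_eq_fintype_card, card_mulChar]
  rcases hq with ⟨h2, hq⟩ | hq
  · refine ⟨β, fun h => ?_, fun e he => ?_⟩
    · have := Nat.le_of_dvd (by norm_num) (orderOf_dvd_of_pow_eq_one h)
      omega
    · have : (e : F) = 1 := by
        have h' : (e : F) ^ 2 = 1 := by rw [← Units.val_pow_eq_pow_val, he, Units.val_one]
        have : ((e : F) - 1) ^ 2 = 0 := by linear_combination h' + (1 - (e : F)) * h2
        exact sub_eq_zero.mp (pow_eq_zero_iff two_ne_zero |>.mp this)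
      rw [this, map_one]
  · refine ⟨β ^ 2, fun h => ?_, fun e he => ?_⟩
    · rw [← pow_mul] at h
      have := Nat.le_of_dvd (by norm_num) (orderOf_dvd_of_pow_eq_one h)
      omega
    · rw [MulChar.pow_apply_coe, ← map_pow, ← Units.val_pow_eq_pow_val, he, Units.val_one, map_one]

theorem exists_torus_good (C : Subgroup SL2) (hC : IsCyclic C)
    (hcard : Nat.card C = Fintype.card F + 1)
    (hq : ((2 : F) = 0 ∧ 4 ≤ Fintype.card F) ∨ 5 < Fintype.card F) :
    ∃ θ : C →* ℂˣ, θ ^ 2 ≠ 1 ∧ ∀ c : C, c ^ 2 = 1 → θ c = 1 := by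
  obtain ⟨φ⟩ := finite_torus_dual C hC
  haveI := hC
  obtain ⟨c₀, hc₀⟩ := IsCyclic.exists_generator (α := C)
  let β : C →* ℂˣ := φ.symm c₀
  have hord : orderOf β = Fintype.card F + 1 := by
    have h1 : orderOf β = orderOf c₀ := by
      let f : C →* (C →* ℂˣ) := MonoidHom.mk' (fun c => φ.symm c) (fun a b => φ.symm.map_mul a b)
      exact orderOf_injective f φ.symm.injective c₀
    rw [h1, orderOf_eq_card_of_forall_mem_zpowers hc₀, hcard]
  rcases hq with ⟨h2, hq⟩ | hq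
  · refine ⟨β, fun h => ?_, fun c hc => ?_⟩
    · have := Nat.le_of_dvd (by norm_num) (orderOf_dvd_of_pow_eq_one h)
      omega
    · have hodd : ¬ 2 ∣ Nat.card C := by
        rw [hcard]
        obtain ⟨p, hp⟩ := CharP.exists F
        haveI := hp
        have hp2 : p = 2 := by
          have h20 : ((2 : ℕ) : F) = 0 := by simpa using h2
          exact (Nat.prime_dvd_prime_iff_eq (CharP.char_is_prime F p) Nat.prime_two).mp
            ((CharP.cast_eq_zero_iff F p 2).mp h20)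
        obtain ⟨n, -, hn⟩ := FiniteField.card F p
        have : 2 ∣ Fintype.card F := by
          rw [hn, hp2]
          exact dvd_pow_self 2 n.ne_zero
        omega
      have h1 : orderOf c ∣ 2 := orderOf_dvd_of_pow_eq_one hc
      have h2' : orderOf c ∣ Nat.card C := orderOf_dvd_natCard c
      have : orderOf c = 1 := by
        rcases (Nat.dvd_prime Nat.prime_two).mp h1 with e | e
        · exact e
        · exact absurd (e.symm.dvd.trans h2') hodd
      rw [orderOf_eq_one_iff.mp this, map_one]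
  · refine ⟨β ^ 2, fun h => ?_, fun c hc => ?_⟩
    · rw [← pow_mul] at h
      have := Nat.le_of_dvd (by norm_num) (orderOf_dvd_of_pow_eq_one h)
      omega
    · rw [MonoidHom.pow_apply, ← map_pow, hc, map_one]

theorem exists_deg_center (hq : ((2 : F) = 0 ∧ 4 ≤ Fintype.card F) ∨ 5 < Fintype.card F) :
    ∀ d ∈ ({Fintype.card F, Fintype.card F + 1, Fintype.card F - 1} : Set ℕ),
      ∃ χ : IrrCharacter SL2, (∀ z ∈ Subgroup.center SL2, (χ : SL2 → ℂ) z = (χ : SL2 → ℂ) 1) ∧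
        charDegree (χ : SL2 → ℂ) = d := by
  obtain ⟨C, hC, hcard⟩ := exists_torus (F := F)
  intro d hd
  simp only [Set.mem_insert_iff, Set.mem_singleton_iff] at hd
  rcases hd with rfl | rfl | rfl
  · exact ⟨⟨st, isIrr_st⟩, fun z hz => st_center hz, charDegree_of_eq st_one⟩
  · obtain ⟨α, hα, hα1⟩ := exists_mulChar_good hq
    refine ⟨⟨ps α, isIrr_ps hα⟩, fun z hz => ?_, charDegree_of_eq ?_⟩
    · obtain ⟨e, he, rfl⟩ := center_eq_bor hz
      show ps α (bor e 0) = ps α 1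
      rw [ps_bor_scalar α he, hα1 e he, mul_one, ps_one]
    · show ps α 1 = _
      rw [ps_one]; push_cast; rfl
  · obtain ⟨θ, hθ, hθ1⟩ := exists_torus_good C hC hcard hq
    refine ⟨⟨ds C θ, isIrr_ds C hC hcard hθ⟩, fun z hz => ?_, charDegree_of_eq ?_⟩
    · obtain ⟨e, he, rfl⟩ := center_eq_bor hz
      show ds C θ (bor e 0) = ds C θ 1
      rw [ds_bor_scalar C hC hcard θ he, ds_one C hC hcard, hθ1 _ ?_, Units.val_one, mul_one]
      refine Subtype.ext ?_
      show bor e 0 ^ 2 = 1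
      rw [sq, bor_mul, ← sq, he]
      simpa using bor_one (F := F)
    · show ds C θ 1 = _
      rw [ds_one C hC hcard, Nat.cast_sub Fintype.card_pos]; push_cast; rfl

theorem hasSL2Degrees (hq : ((2 : F) = 0 ∧ 4 ≤ Fintype.card F) ∨ 5 < Fintype.card F) :
    HasSL2Degrees SL2 (Fintype.card F) ∧
      HasSL2Degrees (Matrix.ProjectiveSpecialLinearGroup (Fin 2) F) (Fintype.card F) := by
  have hsub : charDegrees (Matrix.ProjectiveSpecialLinearGroup (Fin 2) F) ⊆ charDegrees SL2 :=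
    charDegrees_subset (QuotientGroup.mk' _) (QuotientGroup.mk'_surjective _)
  have hall : ∀ d ∈ charDegrees SL2, d ∣ Fintype.card F ∨ d ∣ Fintype.card F + 1 ∨
      d ∣ Fintype.card F - 1 := by
    rintro d ⟨χ, rfl⟩
    exact charDegree_dvd χ.2
  have hP : ∀ d ∈ ({Fintype.card F, Fintype.card F + 1, Fintype.card F - 1} : Set ℕ),
      d ∈ charDegrees (Matrix.ProjectiveSpecialLinearGroup (Fin 2) F) := by
    intro d hd
    obtain ⟨χ, hk, e⟩ := exists_deg_center hq d hd
    obtain ⟨ψ, hψ, eχ⟩ := exists_quotient_irr (Subgroup.center SL2) χ.2 hk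
    refine ⟨⟨ψ, hψ⟩, ?_⟩
    rw [← e, eχ]
    simp [charDegree]
  exact ⟨⟨hall, hsub (hP _ (by simp)), hsub (hP _ (by simp)), hsub (hP _ (by simp))⟩,
    fun d hd => hall d (hsub hd), hP _ (by simp), hP _ (by simp), hP _ (by simp)⟩

end CfsgLib.SL2Char
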