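import Mathlib
import Cfsg.Prelude.Def_ParabolicCharacters
import Cfsg.Agent.Lib.SL2Borel
import Cfsg.Agent.Lib.SL2Centralizer
import Cfsg.Agent.Lib.PSL2.ClassProduct
import Cfsg.Agent.Lib.TwoByTwo
import Cfsg.Agent.Lib.SLCard

/-!
Elements of `SL₂(q)` for the character table: every element is elliptic or conjugate to an upper
triangular one; the cyclic subgroup of order `q + 1`.
-/

set_option autoImplicit false

namespace CfsgLib.SL2Char

open Matrix
open scoped Classical

variable {F : Type*} [Field F]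

local notation "M2" => Matrix (Fin 2) (Fin 2) F
local notation "SL2" => Matrix.SpecialLinearGroup (Fin 2) F

/-- The Borel subgroup. -/
abbrev borel (F : Type*) [Field F] : Subgroup (Matrix.SpecialLinearGroup (Fin 2) F) :=
  (Cfsg.upperTriangularGL 2 F).comap Matrix.SpecialLinearGroup.toGL

/-- The element `(a x; 0 a⁻¹)`. -/
def bor (a : Fˣ) (x : F) : SL2 :=
  ⟨!![(a : F), x; 0, ((a⁻¹ : Fˣ) : F)], by simp [Matrix.det_fin_two]⟩

@[simp] theorem bor_coe (a : Fˣ) (x : F) : (bor a x).1 = !![(a : F), x; 0, ((a⁻¹ : Fˣ) : F)] := rfl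

theorem bor_mem (a : Fˣ) (x : F) : bor a x ∈ borel F :=
  CfsgLib.SL2Borel.mem_borel.mpr (by simp)

theorem bor_mul (a b : Fˣ) (x y : F) :
    bor a x * bor b y = bor (a * b) ((a : F) * y + x * ((b⁻¹ : Fˣ) : F)) := by
  apply Subtype.ext
  show (bor a x).1 * (bor b y).1 = _
  simp [Matrix.mul_fin_two, mul_comm, _root_.mul_inv_rev]

theorem bor_one : bor (1 : Fˣ) (0 : F) = 1 := Subtype.ext (by simp [Matrix.one_fin_two])

theorem bor_injective {a b : Fˣ} {x y : F} (h : bor a x = bor b y) : a = b ∧ x = y := by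
  have h' := congrArg Subtype.val h
  exact ⟨Units.ext (by simpa using congrFun (congrFun h' 0) 0),
    by simpa using congrFun (congrFun h' 0) 1⟩

/-- Sum over the Borel subgroup in coordinates. -/
theorem sum_borel [Fintype F] [Fintype (borel F)] {M : Type*} [AddCommMonoid M] (h : SL2 → M) :
    ∑ b : borel F, h b = ∑ a : Fˣ, ∑ x : F, h (bor a x) := by
  rw [← Fintype.sum_prod_type']
  refine Fintype.sum_equiv CfsgLib.SL2Borel.equivBorel _ _ fun b => ?_
  congr 1
  have h' := CfsgLib.SL2Borel.equivBorel.symm_apply_apply b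
  conv_lhs => rw [← h']
  rfl

/-- No eigenvalue in `F`. -/
def Ell (g : SL2) : Prop := ∀ s : F, s * s - g.1.trace * s + 1 ≠ 0

theorem det_sub_smul (g : SL2) (s : F) :
    (g.1 - s • (1 : M2)).det = s * s - g.1.trace * s + 1 := by
  have hd := CfsgLib.SL2Borel.det_eq g
  simp [Matrix.det_fin_two, Matrix.trace_fin_two]
  linear_combination hd

theorem noEigen_iff (g : SL2) :
    (∀ (c : F) (v : Fin 2 → F), v ≠ 0 → g.1.mulVec v ≠ c • v) ↔ Ell g := by
  constructor
  · intro h s hs
    rw [← det_sub_smul] at hs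
    obtain ⟨v, hv, hv'⟩ := Matrix.exists_mulVec_eq_zero_iff.mpr hs
    refine h s v hv ?_
    rwa [Matrix.sub_mulVec, Matrix.smul_mulVec, Matrix.one_mulVec, sub_eq_zero] at hv'
  · intro h c v hv e
    apply h c
    rw [← det_sub_smul]
    refine Matrix.exists_mulVec_eq_zero_iff.mp ⟨v, hv, ?_⟩
    rw [Matrix.sub_mulVec, Matrix.smul_mulVec, Matrix.one_mulVec, sub_eq_zero, e]

theorem trace_bor (a : Fˣ) (x : F) : (bor a x).1.trace = (a : F) + ((a⁻¹ : Fˣ) : F) := by
  simp [Matrix.trace_fin_two]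

theorem not_ell_bor (a : Fˣ) (x : F) : ¬ Ell (bor a x) := fun h => h (a : F) (by
  rw [trace_bor]; linear_combination -(a.mul_inv))

theorem trace_conj (g h : SL2) : (h * g * h⁻¹).1.trace = g.1.trace := by
  calc (h * g * h⁻¹).1.trace = ((h * g).1 * (h⁻¹).1).trace := rfl
    _ = ((h⁻¹).1 * (h * g).1).trace := Matrix.trace_mul_comm _ _
    _ = (h⁻¹ * (h * g)).1.trace := rfl
    _ = g.1.trace := by rw [inv_mul_cancel_left]

theorem ell_of_isConj {g g' : SL2} (h : IsConj g g') (hg : Ell g) : Ell g' := by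
  obtain ⟨x, rfl⟩ := isConj_iff.mp h
  intro s
  rw [trace_conj]
  exact hg s

theorem ell_iff_of_isConj {g g' : SL2} (h : IsConj g g') : Ell g ↔ Ell g' :=
  ⟨ell_of_isConj h, ell_of_isConj h.symm⟩

theorem ell_trace {g : SL2} (hg : Ell g) : g.1.trace ^ 2 ≠ 4 := by
  intro h
  by_cases h2 : (2 : F) = 0
  · have ht : g.1.trace = 0 := by
      refine pow_eq_zero_iff two_ne_zero |>.mp ?_
      rw [h]; linear_combination 2 * h2
    exact hg 1 (by rw [ht]; linear_combination h2)
  · refine hg (g.1.trace / 2) ?_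
    field_simp
    linear_combination -h

theorem sq_ne_one_iff (a : Fˣ) : a ^ 2 ≠ 1 ↔ (a : F) ≠ ((a⁻¹ : Fˣ) : F) := by
  rw [not_iff_not, sq]
  constructor
  · intro h
    rw [← mul_eq_one_iff_eq_inv.mp h]
  · intro h
    exact mul_eq_one_iff_eq_inv.mpr (Units.ext h)

theorem inv_eq_self {e : Fˣ} (he : e ^ 2 = 1) : e⁻¹ = e :=
  (mul_eq_one_iff_eq_inv.mp (by rwa [← sq])).symm

theorem bor_trace_sq (a : Fˣ) (ha : a ^ 2 ≠ 1) (x : F) : (bor a x).1.trace ^ 2 ≠ 4 := by
  rw [trace_bor]
  intro h
  refine (sq_ne_one_iff a).mp ha ?_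
  have : ((a : F) - ((a⁻¹ : Fˣ) : F)) ^ 2 = 0 := by
    linear_combination h - 4 * a.mul_inv
  exact sub_eq_zero.mp (pow_eq_zero_iff two_ne_zero |>.mp this)

theorem isConj_bor_zero [Fintype F] (a : Fˣ) (ha : a ^ 2 ≠ 1) (x : F) :
    IsConj (bor a x) (bor a 0) :=
  CfsgLib.PSL2Product.isConj_of_trace (bor_trace_sq a ha x) (by rw [trace_bor, trace_bor])

theorem isConj_bor_inv [Fintype F] (a : Fˣ) (ha : a ^ 2 ≠ 1) :
    IsConj (bor a 0) (bor a⁻¹ 0) :=
  CfsgLib.PSL2Product.isConj_of_trace (bor_trace_sq a ha 0)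
    (by rw [trace_bor, trace_bor, inv_inv, add_comm])

/-- Squares act on the unipotent parts. -/
theorem isConj_bor_sq (e c : Fˣ) (x : F) : IsConj (bor e x) (bor e ((c : F) ^ 2 * x)) := by
  refine isConj_iff.mpr ⟨bor c 0, ?_⟩
  rw [mul_inv_eq_iff_eq_mul, bor_mul, bor_mul, mul_comm c e]
  congr 1
  simp only [mul_zero, zero_mul, add_zero, zero_add]
  linear_combination (-((c : F) * x)) * c.mul_inv

theorem isConj_bor_of_eigen {g : SL2} (hg : ¬ Ell g) : ∃ (a : Fˣ) (x : F), IsConj g (bor a x) := by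
  rw [← noEigen_iff] at hg
  push Not at hg
  obtain ⟨c, v, hv, e⟩ := hg
  obtain ⟨P, hP⟩ : ∃ P : SL2, ∀ i, P.1 i 0 = v i := by
    by_cases h0 : v 0 = 0
    · have h1 : v 1 ≠ 0 := fun h1 => hv (funext fun i => by fin_cases i <;> simp [h0, h1])
      refine ⟨⟨!![v 0, -(v 1)⁻¹; v 1, 0], by simp [Matrix.det_fin_two, h1]⟩, fun i => ?_⟩
      fin_cases i <;> simp
    · refine ⟨⟨!![v 0, 0; v 1, (v 0)⁻¹], by simp [Matrix.det_fin_two, h0]⟩, fun i => ?_⟩
      fin_cases i <;> simp
  have hB : P⁻¹ * g * P ∈ borel F := by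
    rw [CfsgLib.SL2Borel.mem_borel]
    have e0 : g.1 0 0 * v 0 + g.1 0 1 * v 1 = c * v 0 := by
      simpa [Matrix.mulVec, dotProduct, Fin.sum_univ_two] using congrFun e 0
    have e1 : g.1 1 0 * v 0 + g.1 1 1 * v 1 = c * v 1 := by
      simpa [Matrix.mulVec, dotProduct, Fin.sum_univ_two] using congrFun e 1
    rw [← hP 0, ← hP 1] at e0 e1
    show ((P⁻¹).1 * g.1 * P.1) 1 0 = 0
    rw [show (P⁻¹).1 = !![P.1 1 1, -P.1 0 1; -P.1 1 0, P.1 0 0] from Matrix.adjugate_fin_two P.1]
    simp [Matrix.mul_apply, Fin.sum_univ_two, Matrix.vecMul, dotProduct]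
    linear_combination (-(P.1 1 0)) * e0 + P.1 0 0 * e1
  refine ⟨(CfsgLib.SL2Borel.equivBorel ⟨_, hB⟩).1, (CfsgLib.SL2Borel.equivBorel ⟨_, hB⟩).2, ?_⟩
  have h' : bor (CfsgLib.SL2Borel.equivBorel ⟨_, hB⟩).1 (CfsgLib.SL2Borel.equivBorel ⟨_, hB⟩).2 =
      P⁻¹ * g * P :=
    congrArg Subtype.val (CfsgLib.SL2Borel.equivBorel.symm_apply_apply ⟨_, hB⟩)
  rw [h']
  exact isConj_iff.mpr ⟨P⁻¹, by rw [inv_inv]⟩

theorem elem_cases (g : SL2) : Ell g ∨ ∃ (a : Fˣ) (x : F), IsConj g (bor a x) :=
  (em (Ell g)).imp id isConj_bor_of_eigen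

/-- The scalar elements are central. -/
theorem scalar_comm (e : Fˣ) (he : e ^ 2 = 1) (g : SL2) : Commute (bor e 0) g := by
  apply Subtype.ext
  show (bor e 0).1 * g.1 = g.1 * (bor e 0).1
  simp only [bor_coe, inv_eq_self he]
  ext i j
  fin_cases i <;> fin_cases j <;> simp [Matrix.mul_apply, Fin.sum_univ_two, mul_comm]

theorem scalar_conj_eq {e : Fˣ} (he : e ^ 2 = 1) {g : SL2} (h : IsConj (bor e 0) g) :
    g = bor e 0 := by
  obtain ⟨x, rfl⟩ := isConj_iff.mp h
  rw [← (scalar_comm e he x).eq, mul_inv_cancel_right]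

section Count

/-- Images of a map whose fibres are the orbits of an involution. -/
theorem two_mul_card_image {α β : Type*} [DecidableEq β] [DecidableEq α] (s : Finset α) (f : α → β)
    (ι : α → α) (hι : ∀ a ∈ s, ι a ∈ s) (hf : ∀ a ∈ s, ∀ b ∈ s, (f a = f b ↔ b = a ∨ b = ι a)) :
    2 * (s.image f).card = s.card + (s.filter fun a => ι a = a).card := by
  rw [Finset.card_eq_sum_card_image f s, Finset.card_eq_sum_card_fiberwise
    (f := f) (t := s.image f) (s := s.filter fun a => ι a = a)
    (fun a ha => Finset.mem_coe.mpr (Finset.mem_image_of_mem f (Finset.mem_filter.mp ha).1)),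
    ← Finset.sum_add_distrib, mul_comm, Finset.card_eq_sum_ones, Finset.sum_mul]
  refine Finset.sum_congr rfl fun b hb => ?_
  obtain ⟨a, ha, rfl⟩ := Finset.mem_image.mp hb
  have e : s.filter (fun x => f x = f a) = {a, ι a} := by
    ext x
    simp only [Finset.mem_filter, Finset.mem_insert, Finset.mem_singleton]
    constructor
    · rintro ⟨hx, h⟩; exact (hf a ha x hx).mp h.symm
    · rintro (rfl | rfl)
      · exact ⟨ha, rfl⟩
      · exact ⟨hι a ha, ((hf a ha _ (hι a ha)).mpr (Or.inr rfl)).symm⟩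
  rw [Finset.filter_comm, e]
  have hiι : ι (ι a) = a := by
    rcases (hf (ι a) (hι a ha) a ha).mp ((hf a ha _ (hι a ha)).mpr (Or.inr rfl)).symm with h | h
    · rw [← h, ← h]
    · exact h.symm
  by_cases h : ι a = a
  · simp [h, Finset.filter_singleton]
  · rw [Finset.card_pair (Ne.symm h), Finset.filter_eq_empty_iff.mpr]
    · simp
    · intro x hx
      rcases Finset.mem_insert.mp hx with rfl | hx
      · exact h
      · rw [Finset.mem_singleton.mp hx, hiι]; exact Ne.symm h

/-- Summing over such an image, when there are no fixed points. -/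
theorem two_mul_sum_image {α β : Type*} [DecidableEq β] [DecidableEq α] (s : Finset α) (f : α → β)
    (ι : α → α) (hι : ∀ a ∈ s, ι a ∈ s) (hne : ∀ a ∈ s, ι a ≠ a)
    (hf : ∀ a ∈ s, ∀ b ∈ s, (f a = f b ↔ b = a ∨ b = ι a)) (w : β → ℂ) :
    2 * ∑ b ∈ s.image f, w b = ∑ a ∈ s, w (f a) := by
  rw [← Finset.sum_fiberwise_of_maps_to (fun a ha => Finset.mem_image_of_mem f ha) (fun a => w (f a)),
    Finset.mul_sum]
  refine Finset.sum_congr rfl fun b hb => ?_
  obtain ⟨a, ha, rfl⟩ := Finset.mem_image.mp hb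
  have e : s.filter (fun x => f x = f a) = {a, ι a} := by
    ext x
    simp only [Finset.mem_filter, Finset.mem_insert, Finset.mem_singleton]
    constructor
    · rintro ⟨hx, h⟩; exact (hf a ha x hx).mp h.symm
    · rintro (rfl | rfl)
      · exact ⟨ha, rfl⟩
      · exact ⟨hι a ha, ((hf a ha _ (hι a ha)).mpr (Or.inr rfl)).symm⟩
  rw [e, Finset.sum_pair (Ne.symm (hne a ha)), ← (hf a ha _ (hι a ha)).mpr (Or.inr rfl), two_mul]

end Count

section Fin

variable [Fintype F]

/-- The scalar parameters. -/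
noncomputable def scal (F : Type*) [Field F] [Fintype F] : Finset Fˣ :=
  Finset.univ.filter fun a => a ^ 2 = 1

theorem mem_scal {a : Fˣ} : a ∈ scal F ↔ a ^ 2 = 1 := by simp [scal]

theorem card_scal_odd (h2 : (2 : F) ≠ 0) : (scal F).card = 2 := by
  rw [scal, ← Fintype.card_subtype, ← Nat.card_eq_fintype_card, CfsgLib.SL2Borel.card_sq_eq_one h2]

theorem card_scal_even (h2 : (2 : F) = 0) : (scal F).card = 1 := by
  have : scal F = {1} := by
    ext a
    rw [mem_scal, Finset.mem_singleton, CfsgLib.SL2Borel.units_sq_eq_one]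
    refine ⟨fun h => h.elim id fun h' => h'.trans (Units.ext ?_), Or.inl⟩
    rw [Units.val_neg, Units.val_one]; linear_combination -h2
  rw [this, Finset.card_singleton]

theorem card_scal_le : (scal F).card ≤ 2 := by
  by_cases h2 : (2 : F) = 0
  · rw [card_scal_even h2]; norm_num
  · rw [card_scal_odd h2]

theorem card_centralizer_ell {g : SL2} (hg : Ell g) :
    Nat.card (Subgroup.centralizer ({g} : Set SL2)) = Fintype.card F + 1 := by
  have h := CfsgLib.SL2Centralizer.card_centralizer (ell_trace hg)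
  have : IsEmpty {s : F // s * s + g.1.trace * s + 1 = 0} :=
    ⟨fun s => hg (-s.1) (by linear_combination s.2)⟩
  rwa [Nat.card_of_isEmpty (α := {s : F // s * s + g.1.trace * s + 1 = 0}), add_zero] at h

theorem card_centralizer_bor {a : Fˣ} (ha : a ^ 2 ≠ 1) (x : F) :
    Nat.card (Subgroup.centralizer ({bor a x} : Set SL2)) = Fintype.card F - 1 := by
  have h := CfsgLib.SL2Centralizer.card_centralizer (bor_trace_sq a ha x)
  have hs : -(a : F) * -(a : F) + (bor a x).1.trace * -(a : F) + 1 = 0 := by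
    rw [trace_bor]; linear_combination -(a.mul_inv)
  haveI : Nonempty {s : F // s * s + (bor a x).1.trace * s + 1 = 0} := ⟨⟨_, hs⟩⟩
  rcases CfsgLib.SL2Centralizer.card_roots (bor_trace_sq a ha x) with e | e
  · exact absurd e Nat.card_pos.ne'
  · omega

variable (C : Subgroup (Matrix.SpecialLinearGroup (Fin 2) F)) (hC : IsCyclic C) (hcard : Nat.card C = Fintype.card F + 1)

include hcard in
theorem torus_cases {c : SL2} (hc : c ∈ C) : Ell c ∨ ∃ e : Fˣ, e ^ 2 = 1 ∧ c = bor e 0 := by
  refine (em (Ell c)).imp id fun hn => ?_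
  obtain ⟨a, x, hconj⟩ := isConj_bor_of_eigen hn
  have hpow : (bor a x) ^ (Fintype.card F + 1) = 1 := by
    obtain ⟨y, hy⟩ := isConj_iff.mp hconj
    rw [← hy, conj_pow, ← hcard]
    have : c ^ Nat.card C = 1 := congrArg Subtype.val (pow_card_eq_one' (G := C) (x := ⟨c, hc⟩))
    rw [this, mul_one, mul_inv_cancel]
  have hdiag : ∀ n : ℕ, ∃ y, (bor a x) ^ n = bor (a ^ n) y := by
    intro n
    induction n with
    | zero => exact ⟨0, by simp [bor_one]⟩
    | succ n ih => obtain ⟨y, hy⟩ := ih; exact ⟨_, by rw [pow_succ, hy, bor_mul, ← pow_succ]⟩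
  have ha2 : a ^ 2 = 1 := by
    obtain ⟨y, hy⟩ := hdiag (Fintype.card F + 1)
    rw [hpow, ← bor_one] at hy
    have h := congrArg Units.val (bor_injective hy).1
    rw [Units.val_pow_eq_pow_val, pow_succ, FiniteField.pow_card, Units.val_one] at h
    refine Units.ext ?_
    rw [Units.val_pow_eq_pow_val, sq, ← h, Units.val_one]
  have hsplit : ∀ n : ℕ, (bor a x) ^ n = bor (a ^ n) ((n : F) * ((a ^ n : Fˣ) : F) * (a : F) * x) := by
    intro n
    induction n with
    | zero => simp [bor_one]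
    | succ n ih =>
      rw [pow_succ, ih, bor_mul, ← pow_succ]
      congr 1
      have ha' : (a : F) * (a : F) = 1 := by
        rw [← Units.val_mul, ← sq, ha2, Units.val_one]
      rw [inv_eq_self ha2, pow_succ, Units.val_mul]
      push_cast
      linear_combination (-(((a : F) ^ n) * x)) * ha'
  rw [hsplit] at hpow
  have hx : x = 0 := by
    have h := (bor_injective (hpow.trans bor_one.symm)).2
    simpa [FiniteField.cast_card_eq_zero] using h
  refine ⟨a, ha2, ?_⟩
  rw [hx] at hconj
  exact scalar_conj_eq ha2 hconj.symm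

include hcard in
theorem exists_ell : ∃ c ∈ C, Ell c := by
  by_contra h
  push Not at h
  have hle : Nat.card C ≤ (scal F).card := by
    rw [← Nat.card_eq_finsetCard]
    have hch : ∀ c : C, ∃ e : Fˣ, e ^ 2 = 1 ∧ c.1 = bor e 0 := fun c =>
      (torus_cases C hcard c.2).resolve_left (h c.1 c.2)
    choose e he hce using hch
    refine Nat.card_le_card_of_injective (fun c => (⟨e c, mem_scal.mpr (he c)⟩ : scal F)) ?_
    intro c d hcd
    apply Subtype.ext
    rw [hce c, hce d, show e c = e d from congrArg Subtype.val hcd]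
  have := card_scal_le (F := F)
  have := Fintype.one_lt_card (α := F)
  omega

include hC hcard in
theorem centralizer_eq {c : SL2} (hc : c ∈ C) (he : Ell c) :
    Subgroup.centralizer ({c} : Set SL2) = C := by
  refine (Subgroup.eq_of_le_of_card_ge (fun y hy => ?_) (by rw [card_centralizer_ell he, hcard])).symm
  rw [Subgroup.mem_centralizer_singleton_iff]
  letI := hC.commGroup
  exact congrArg Subtype.val (mul_comm (⟨y, hy⟩ : C) ⟨c, hc⟩)

include hC hcard in
theorem bor_scalar_mem (e : Fˣ) (he : e ^ 2 = 1) : bor e 0 ∈ C := by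
  obtain ⟨c, hc, hc'⟩ := exists_ell C hcard
  rw [← centralizer_eq C hC hcard hc hc', Subgroup.mem_centralizer_singleton_iff]
  exact (scalar_comm e he c).eq

theorem inv_coe_eq (c : SL2) : (c⁻¹).1 = c.1.trace • (1 : M2) - c.1 := by
  show c.1.adjugate = _
  rw [Matrix.adjugate_fin_two]
  ext i j
  fin_cases i <;> fin_cases j <;> simp [Matrix.trace_fin_two]

theorem trace_inv (c : SL2) : (c⁻¹).1.trace = c.1.trace := by
  rw [inv_coe_eq]
  simp only [Matrix.trace_sub, Matrix.trace_smul, Matrix.trace_one, Fintype.card_fin, smul_eq_mul]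
  push_cast; ring

include hC hcard in
theorem eq_or_inv_of_trace {c c' : SL2} (hc : c ∈ C) (he : Ell c) (hc' : c' ∈ C)
    (ht : c'.1.trace = c.1.trace) : c' = c ∨ c' = c⁻¹ := by
  have hns : ∀ a : F, c.1 ≠ a • (1 : M2) :=
    CfsgLib.SL2Centralizer.not_scalar_of_trace (ell_trace he)
  have hcomm : Commute c'.1 c.1 := by
    have h := centralizer_eq C hC hcard hc he
    rw [← h, Subgroup.mem_centralizer_singleton_iff] at hc'
    exact congrArg Subtype.val hc'
  obtain ⟨x, y, hxy⟩ := CfsgLib.SL2Centralizer.exists_of_commute hns hcomm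
  set t := c.1.trace with htdef
  have htr : x * 2 + y * t = t := by
    conv_rhs => rw [← ht, hxy]
    rw [Matrix.trace_add, Matrix.trace_smul, Matrix.trace_smul, Matrix.trace_one, Fintype.card_fin,
      smul_eq_mul, smul_eq_mul]
    push_cast; rfl
  have hdet : x * x + t * x * y + y * y = 1 := by
    rw [← CfsgLib.SL2Centralizer.det_lin, ← hxy]; exact c'.2
  have ht4 := ell_trace he
  have key : (x = 0 ∧ y = 1) ∨ (x = t ∧ y = -1) := by
    by_cases h0 : t = 0
    · have h2 : (2 : F) ≠ 0 := fun h2 => ht4 (by rw [← htdef, h0]; linear_combination -(2 : F) * h2)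
      have hx : x = 0 := by
        rw [h0, mul_zero, add_zero] at htr
        exact (mul_eq_zero.mp htr).resolve_right h2
      rw [hx] at hdet
      have : (y - 1) * (y + 1) = 0 := by linear_combination hdet
      rcases mul_eq_zero.mp this with h | h
      · exact Or.inl ⟨hx, sub_eq_zero.mp h⟩
      · exact Or.inr ⟨by rw [hx, h0], eq_neg_of_add_eq_zero_left h⟩
    · have hy : t * (1 - y) = 2 * x := by linear_combination -htr
      have : (4 - t ^ 2) * (x * (x - t)) = 0 := by
        linear_combination (t ^ 2) * hdet + (t ^ 2 * x + t * (1 + y) - 2 * x) * hy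
      rcases mul_eq_zero.mp this with h | h
      · exact absurd (sub_eq_zero.mp h).symm ht4
      rcases mul_eq_zero.mp h with h | h
      · refine Or.inl ⟨h, mul_left_cancel₀ h0 ?_⟩
        rw [h] at hy; linear_combination -hy
      · have hx : x = t := sub_eq_zero.mp h
        refine Or.inr ⟨hx, mul_left_cancel₀ h0 ?_⟩
        rw [hx] at hy; linear_combination -hy
  rcases key with ⟨hx, hy⟩ | ⟨hx, hy⟩
  · exact Or.inl (Subtype.ext (by rw [hxy, hx, hy]; simp))
  · refine Or.inr (Subtype.ext ?_)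
    rw [hxy, inv_coe_eq, hx, hy, sub_eq_add_neg, neg_one_smul]

theorem ell_ne_inv {c : SL2} (he : Ell c) : c⁻¹ ≠ c := by
  intro h
  have h' := congrArg Subtype.val h
  rw [inv_coe_eq] at h'
  have hns := CfsgLib.SL2Centralizer.not_scalar_of_trace (ell_trace he)
  by_cases h2 : (2 : F) = 0
  · have ht : c.1.trace ≠ 0 := fun ht => ell_trace he (by rw [ht]; linear_combination -(2 : F) * h2)
    have e00 := congrFun (congrFun h' 0) 0
    simp at e00
    exact ht (by linear_combination e00 + c.1 0 0 * h2)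
  · refine hns (c.1.trace / 2) ?_
    ext i j
    have e := congrFun (congrFun h' i) j
    simp only [Matrix.sub_apply, Matrix.smul_apply, smul_eq_mul] at e ⊢
    field_simp
    linear_combination -e

include hC hcard in
/-- Every elliptic element is conjugate into `C`. -/
theorem exists_conj_mem {g : SL2} (hg : Ell g) : ∃ c ∈ C, Ell c ∧ IsConj g c := by
  set s1 : Finset F := (Finset.univ : Finset Fˣ).image (fun a : Fˣ => (a : F) + ((a⁻¹ : Fˣ) : F)) with hs1
  set s2 : Finset F := (Finset.univ : Finset C).image (fun c : C => c.1.1.trace) with hs2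
  set d := (scal F).card with hd
  have h1 : 2 * s1.card = (Fintype.card F - 1) + d := by
    rw [hs1, two_mul_card_image (Finset.univ : Finset Fˣ) _ (fun a => a⁻¹) (fun a _ => Finset.mem_univ _),
      Finset.card_univ, Fintype.card_units]
    · congr 2
      ext a
      rw [Finset.mem_filter, mem_scal, sq, mul_eq_one_iff_eq_inv]
      simp [eq_comm]
    intro a _ b _
    constructor
    · intro h
      have : ((b : F) - a) * ((b : F) - ((a⁻¹ : Fˣ) : F)) = 0 := by
        linear_combination (-(b : F)) * h - b.mul_inv + a.mul_inv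
      rcases mul_eq_zero.mp this with e | e
      · exact Or.inl (Units.ext (sub_eq_zero.mp e))
      · exact Or.inr (Units.ext (sub_eq_zero.mp e))
    · rintro (rfl | rfl)
      · rfl
      · rw [inv_inv, add_comm]
  have hCs : ∀ c : C, c⁻¹ = c ↔ ∃ e : Fˣ, e ^ 2 = 1 ∧ c.1 = bor e 0 := by
    intro c
    constructor
    · intro h
      exact (torus_cases C hcard c.2).resolve_left fun he => ell_ne_inv he (congrArg Subtype.val h)
    · rintro ⟨e, he, hce⟩
      apply Subtype.ext
      rw [Subgroup.coe_inv, hce]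
      refine inv_eq_of_mul_eq_one_right ?_
      rw [bor_mul, ← sq, he]; simp [bor_one]
  have h2 : 2 * s2.card = (Fintype.card F + 1) + d := by
    rw [hs2, two_mul_card_image (Finset.univ : Finset C) _ (fun c => c⁻¹) (fun a _ => Finset.mem_univ _),
      Finset.card_univ, ← Nat.card_eq_fintype_card, hcard]
    · congr 1
      refine (Finset.card_bij (fun e he => (⟨bor e 0, bor_scalar_mem C hC hcard e (mem_scal.mp he)⟩ : C))
        (fun e he => Finset.mem_filter.mpr ⟨Finset.mem_univ _, (hCs _).mpr ⟨e, mem_scal.mp he, rfl⟩⟩)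
        (fun a _ b _ h => (bor_injective (congrArg Subtype.val h)).1) (fun c hc => ?_)).symm
      obtain ⟨e, he, hce⟩ := (hCs c).mp (Finset.mem_filter.mp hc).2
      exact ⟨e, mem_scal.mpr he, Subtype.ext hce.symm⟩
    intro a _ b _
    constructor
    · intro h
      rcases torus_cases C hcard a.2 with he | ⟨e, he, hae⟩
      · rcases eq_or_inv_of_trace C hC hcard a.2 he b.2 h.symm with r | r
        · exact Or.inl (Subtype.ext r)
        · exact Or.inr (Subtype.ext r)
      rcases torus_cases C hcard b.2 with he' | ⟨e', he', hbe⟩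
      · rcases eq_or_inv_of_trace C hC hcard b.2 he' a.2 h with r | r
        · exact Or.inl (Subtype.ext r).symm
        · exact Or.inr (Subtype.ext (by rw [Subgroup.coe_inv, r, inv_inv]))
      · left
        apply Subtype.ext
        rw [hae, hbe, trace_bor, trace_bor, inv_eq_self he, inv_eq_self he'] at h
        rw [hae, hbe]
        by_cases h2 : (2 : F) = 0
        · have key : ∀ u : Fˣ, u ^ 2 = 1 → u = 1 := fun u hu =>
            Finset.card_le_one.mp (card_scal_even h2).le u (mem_scal.mpr hu) 1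
              (mem_scal.mpr (one_pow 2))
          rw [key e he, key e' he']
        · rw [Units.ext (mul_left_cancel₀ h2 (by linear_combination h) : (e : F) = e')]
    · rintro (rfl | rfl)
      · rfl
      · exact (trace_inv a.1).symm
  have h12 : (s1 ∩ s2).card ≤ d := by
    refine le_trans (Finset.card_le_card fun t ht => ?_)
      (Finset.card_image_le (s := scal F) (f := fun e : Fˣ => (e : F) + ((e⁻¹ : Fˣ) : F)))
    obtain ⟨ht1, ht2⟩ := Finset.mem_inter.mp ht
    obtain ⟨a, -, rfl⟩ := Finset.mem_image.mp ht1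
    obtain ⟨c, -, hct⟩ := Finset.mem_image.mp ht2
    rcases torus_cases C hcard c.2 with he | ⟨e, he, hce⟩
    · exact absurd (show (a : F) * a - c.1.1.trace * a + 1 = 0 by
        rw [hct]; linear_combination -(a.mul_inv)) (he a)
    · exact Finset.mem_image.mpr ⟨e, mem_scal.mpr he, by rw [← trace_bor e 0, ← hce, hct]⟩
  have hu : s1 ∪ s2 = Finset.univ := by
    refine Finset.eq_univ_of_card _ (le_antisymm (Finset.card_le_univ _) ?_)
    have := Finset.card_union_add_card_inter s1 s2
    have := Fintype.one_lt_card (α := F)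
    omega
  have hmem : g.1.trace ∈ s1 ∪ s2 := by rw [hu]; exact Finset.mem_univ _
  rcases Finset.mem_union.mp hmem with h | h
  · obtain ⟨a, -, ha⟩ := Finset.mem_image.mp h
    exact absurd (show (a : F) * a - g.1.trace * a + 1 = 0 by
      rw [← ha]; linear_combination -(a.mul_inv)) (hg a)
  · obtain ⟨c, -, hc⟩ := Finset.mem_image.mp h
    refine ⟨c.1, c.2, fun s => ?_, CfsgLib.PSL2Product.isConj_of_trace (ell_trace hg) hc⟩
    rw [hc]; exact hg s

end Fin

end CfsgLib.SL2Char
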