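import Cfsg.Agent.Lib.SL2Char.Elements
import Cfsg.Agent.Lib.SL2Orders
import Cfsg.Agent.Lib.NonSplitTorus

/-!
Centralisers of semisimple elements of `SL₂(q)`, `q` odd, their normalisers, and the local structure
at the primes different from the characteristic.
-/

set_option autoImplicit false

namespace CfsgLib.SL2Tori

open Matrix
open CfsgLib.SL2Char

variable {F : Type*} [Field F] [Fintype F]

local notation "M2" => Matrix (Fin 2) (Fin 2) F
local notation "SL2" => Matrix.SpecialLinearGroup (Fin 2) F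

/-- Not a scalar matrix. -/
def NS (g : SL2) : Prop := ∀ a : F, g.1 ≠ a • (1 : M2)

theorem ns_of_trace {g : SL2} (h : g.1.trace ^ 2 ≠ 4) : NS g := SL2Centralizer.not_scalar_of_trace h

theorem mem_center_iff {g : SL2} : g ∈ Subgroup.center SL2 ↔ ¬ NS g := by
  constructor
  · intro hg hns
    have h := Subgroup.mem_center_iff.mp hg
    have hcomm : ∀ y : SL2, Commute y.1 g.1 := fun y => congrArg Subtype.val (h y)
    let u : SL2 := ⟨!![1, 1; 0, 1], by simp [Matrix.det_fin_two]⟩
    let l : SL2 := ⟨!![1, 0; 1, 1], by simp [Matrix.det_fin_two]⟩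
    have hu : (!![1, 1; 0, 1] : M2) * g.1 = g.1 * !![1, 1; 0, 1] := hcomm u
    have hl : (!![1, 0; 1, 1] : M2) * g.1 = g.1 * !![1, 0; 1, 1] := hcomm l
    have u00 := congrFun (congrFun hu 0) 0
    have u01 := congrFun (congrFun hu 0) 1
    have l00 := congrFun (congrFun hl 0) 0
    simp [Matrix.mul_apply, Fin.sum_univ_two] at u00 u01 l00
    apply hns (g.1 0 0)
    ext i j
    fin_cases i <;> fin_cases j <;> simp
    · exact l00
    · exact u00
    · linear_combination u01
  · intro h
    simp only [NS, ne_eq, not_forall, not_not] at h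
    obtain ⟨a, ha⟩ := h
    exact Subgroup.mem_center_iff.mpr fun y => Subtype.ext (by
      show y.1 * g.1 = g.1 * y.1
      rw [ha]; simp)

/-- Elements commuting with a non-scalar element commute with each other. -/
theorem commute_of_commute {x y z : SL2} (hx : NS x) (hy : Commute y x) (hz : Commute z x) :
    Commute y z := by
  obtain ⟨a, b, ha⟩ := SL2Centralizer.exists_of_commute hx
    (show Commute y.1 x.1 from congrArg Subtype.val hy.eq)
  obtain ⟨c, d, hc⟩ := SL2Centralizer.exists_of_commute hx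
    (show Commute z.1 x.1 from congrArg Subtype.val hz.eq)
  apply Subtype.ext
  show y.1 * z.1 = z.1 * y.1
  rw [ha, hc]
  simp only [add_mul, mul_add, smul_mul_assoc, mul_smul_comm, one_mul, mul_one, smul_add, smul_smul]
  rw [mul_comm a c, mul_comm a d, mul_comm b c, mul_comm b d]
  abel

theorem mem_centralizer {x y : SL2} : y ∈ Subgroup.centralizer ({x} : Set SL2) ↔ Commute y x :=
  Subgroup.mem_centralizer_singleton_iff

theorem centralizer_eq_of_mem {x a : SL2} (hx : NS x) (ha : NS a)
    (hax : a ∈ Subgroup.centralizer ({x} : Set SL2)) :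
    Subgroup.centralizer ({a} : Set SL2) = Subgroup.centralizer ({x} : Set SL2) := by
  ext y
  rw [mem_centralizer, mem_centralizer]
  exact ⟨fun hy => commute_of_commute ha hy (mem_centralizer.mp hax).symm,
    fun hy => commute_of_commute hx hy (mem_centralizer.mp hax)⟩

theorem trace_conj' (g x : SL2) : (g * x * g⁻¹).1.trace = x.1.trace := trace_conj x g

/-- An element of `C(x)` with the trace of `x` is `x` or `x⁻¹`. -/
theorem eq_or_inv (h2 : (2 : F) ≠ 0) {x x' : SL2} (hx : x.1.trace ^ 2 ≠ 4)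
    (hc : x' ∈ Subgroup.centralizer ({x} : Set SL2)) (ht : x'.1.trace = x.1.trace) :
    x' = x ∨ x' = x⁻¹ := by
  obtain ⟨a, b, hab⟩ := SL2Centralizer.exists_of_commute (ns_of_trace hx)
    (show Commute x'.1 x.1 from congrArg Subtype.val (mem_centralizer.mp hc).eq)
  set t := x.1.trace with htdef
  have htr : a * 2 + b * t = t := by
    conv_rhs => rw [← ht, hab]
    rw [Matrix.trace_add, Matrix.trace_smul, Matrix.trace_smul, Matrix.trace_one, Fintype.card_fin,
      smul_eq_mul, smul_eq_mul]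
    push_cast; rfl
  have hdet : a * a + t * a * b + b * b = 1 := by
    rw [← CfsgLib.SL2Centralizer.det_lin, ← hab]; exact x'.2
  have key : (1 - b * b) * (t * t - 4) = 0 := by
    linear_combination 4 * hdet - (2 * a + t + t * b) * htr
  have hb : b * b = 1 := by
    rcases mul_eq_zero.mp key with h | h
    · linear_combination -h
    · exact absurd (by linear_combination h) hx
  rcases mul_self_eq_one_iff.mp hb with rfl | rfl
  · left
    have ha : a = 0 := by
      have : a * 2 = 0 := by linear_combination htr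
      exact (mul_eq_zero.mp this).resolve_right h2
    subst ha
    exact Subtype.ext (by rw [hab]; simp)
  · right
    have ha : a = t := by
      have : (a - t) * 2 = 0 := by linear_combination htr
      exact sub_eq_zero.mp ((mul_eq_zero.mp this).resolve_right h2)
    subst ha
    exact Subtype.ext (by rw [hab, inv_coe_eq, neg_one_smul, ← sub_eq_add_neg])

theorem ne_inv (h2 : (2 : F) ≠ 0) {x : SL2} (hx : x.1.trace ^ 2 ≠ 4) : x ≠ x⁻¹ := by
  intro h
  have hsq : x * x = 1 := mul_eq_one_iff_eq_inv.mpr h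
  rcases SL2Orders.eq_one_or_neg_one_of_sq h2 x hsq with rfl | rfl
  · exact hx (by simp; norm_num)
  · exact hx (by simp; norm_num)

theorem conj_mem_cases (h2 : (2 : F) ≠ 0) {x g : SL2} (hx : x.1.trace ^ 2 ≠ 4)
    (hg : g * x * g⁻¹ ∈ Subgroup.centralizer ({x} : Set SL2)) :
    g * x * g⁻¹ = x ∨ g * x * g⁻¹ = x⁻¹ :=
  eq_or_inv h2 hx hg (trace_conj' g x)

theorem mem_normalizer_centralizer {x g : SL2} (h : g * x * g⁻¹ = x ∨ g * x * g⁻¹ = x⁻¹) :
    g ∈ Subgroup.normalizer (Subgroup.centralizer ({x} : Set SL2) : Set SL2) := by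
  rw [Subgroup.mem_normalizer_iff]
  intro y
  simp only [SetLike.mem_coe, mem_centralizer]
  have hiff : Commute y x ↔ Commute (g * y * g⁻¹) (g * x * g⁻¹) := by
    constructor
    · exact fun hy => hy.map (MulAut.conj g)
    · intro hy
      have := hy.map (MulAut.conj g⁻¹)
      simpa [MulAut.conj_apply, mul_assoc] using this
  rw [hiff]
  rcases h with h | h <;> rw [h]
  exact Commute.inv_right_iff

section Fin

theorem exists_inverting {x : SL2} (hx : x.1.trace ^ 2 ≠ 4) : ∃ w : SL2, w * x * w⁻¹ = x⁻¹ :=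
  isConj_iff.mp (PSL2Product.isConj_of_trace hx (trace_inv x))

theorem card_normalizer (h2 : (2 : F) ≠ 0) {x : SL2} (hx : x.1.trace ^ 2 ≠ 4) :
    Nat.card (Subgroup.normalizer (Subgroup.centralizer ({x} : Set SL2) : Set SL2)) =
      2 * Nat.card (Subgroup.centralizer ({x} : Set SL2)) := by
  set A := Subgroup.centralizer ({x} : Set SL2) with hA
  set N := Subgroup.normalizer (A : Set SL2) with hN
  obtain ⟨w, hw⟩ := exists_inverting hx
  have hAN : A ≤ N := Subgroup.le_normalizer
  have hwN : w ∈ N := mem_normalizer_centralizer (Or.inr hw)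
  have hidx : (A.subgroupOf N).index = 2 := by
    rw [Subgroup.index_eq_two_iff_exists_notMem_and]
    refine ⟨⟨w, hwN⟩, fun h => ?_, fun b => ?_⟩
    · have hc : Commute w x := mem_centralizer.mp (Subgroup.mem_subgroupOf.mp h)
      rw [hc.eq, mul_inv_cancel_right] at hw
      exact ne_inv h2 hx hw
    · have hbx : (b : SL2) * x * (b : SL2)⁻¹ ∈ A :=
        (Subgroup.mem_normalizer_iff.mp b.2 x).mp (mem_centralizer.mpr (Commute.refl x))
      rcases conj_mem_cases h2 hx hbx with h | h
      · right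
        rw [Subgroup.mem_subgroupOf, hA, mem_centralizer]
        exact mul_inv_eq_iff_eq_mul.mp h
      · left
        rw [Subgroup.mem_subgroupOf, hA, mem_centralizer]
        refine mul_inv_eq_iff_eq_mul.mp ?_
        show (b : SL2) * w * x * ((b : SL2) * w)⁻¹ = x
        rw [_root_.mul_inv_rev, show (b : SL2) * w * x * (w⁻¹ * (b : SL2)⁻¹) =
          (b : SL2) * (w * x * w⁻¹) * (b : SL2)⁻¹ by group, hw]
        rw [← conj_inv, h, inv_inv]
  have h := (A.subgroupOf N).card_mul_index
  rw [hidx, Nat.card_congr (Subgroup.subgroupOfEquivOfLe hAN).toEquiv] at h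
  omega

/-- The diagonal embedding of the units. -/
def diagHom : Fˣ →* SL2 where
  toFun a := bor a 0
  map_one' := bor_one
  map_mul' a b := by rw [bor_mul]; simp

theorem isCyclic_centralizer {x : SL2} (hx : x.1.trace ^ 2 ≠ 4) :
    IsCyclic (Subgroup.centralizer ({x} : Set SL2)) ∧
      (Nat.card (Subgroup.centralizer ({x} : Set SL2)) = Fintype.card F - 1 ∨
        Nat.card (Subgroup.centralizer ({x} : Set SL2)) = Fintype.card F + 1) := by
  classical
  have key : ∀ (c : SL2) (A : Subgroup SL2), IsConj c x → Subgroup.centralizer ({c} : Set SL2) = A →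
      IsCyclic A → IsCyclic (Subgroup.centralizer ({x} : Set SL2)) ∧
        Nat.card (Subgroup.centralizer ({x} : Set SL2)) = Nat.card A := by
    intro c A hc hA hcyc
    obtain ⟨g, hg⟩ := isConj_iff.mp hc
    subst hg
    have hmap : A.map (MulAut.conj g).toMonoidHom = Subgroup.centralizer ({g * c * g⁻¹} : Set SL2) := by
      rw [← hA]
      ext y
      rw [Subgroup.mem_map, mem_centralizer]
      constructor
      · rintro ⟨z, hz, rfl⟩
        exact (mem_centralizer.mp hz).map (MulAut.conj g)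
      · intro hy
        refine ⟨g⁻¹ * y * g, mem_centralizer.mpr ?_, by simp [MulAut.conj_apply, mul_assoc]⟩
        have := hy.map (MulAut.conj g⁻¹)
        simpa [MulAut.conj_apply, mul_assoc] using this
    let e : A ≃* A.map (MulAut.conj g).toMonoidHom :=
      A.equivMapOfInjective _ (MulAut.conj g).injective
    exact ⟨hmap ▸ isCyclic_of_surjective e e.surjective, hmap ▸ (Nat.card_congr e.toEquiv).symm⟩
  rcases elem_cases x with he | ⟨a, z, hconj⟩
  · obtain ⟨C, hC, hcard⟩ : ∃ C : Subgroup SL2, IsCyclic C ∧ Nat.card C = Fintype.card F + 1 := by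
      obtain ⟨p, hp⟩ := CharP.exists F
      haveI := hp
      haveI : Fact p.Prime := ⟨CharP.char_is_prime F p⟩
      obtain ⟨g, hg⟩ := CfsgLib.NonSplitTorus.exists_orderOf_card_add_one (F := F) p
      exact ⟨Subgroup.zpowers g, inferInstance, by rw [Nat.card_zpowers, hg]⟩
    obtain ⟨c, hc, hce, hxc⟩ := SL2Char.exists_conj_mem C hC hcard he
    obtain ⟨h1, h2⟩ := key c C hxc.symm (SL2Char.centralizer_eq C hC hcard hc hce) hC
    exact ⟨h1, Or.inr (h2.trans hcard)⟩
  · have ha : a ^ 2 ≠ 1 := by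
      intro ha
      obtain ⟨g, hg⟩ := isConj_iff.mp hconj
      apply hx
      rw [← trace_conj x g, hg, trace_bor, inv_eq_self ha]
      have : (a : F) * (a : F) = 1 := by rw [← Units.val_mul, ← sq, ha, Units.val_one]
      linear_combination 4 * this
    have hconj' := hconj.trans (isConj_bor_zero a ha z)
    have hle : (diagHom (F := F)).range ≤ Subgroup.centralizer ({bor a 0} : Set SL2) := by
      rintro _ ⟨b, rfl⟩
      rw [mem_centralizer]
      show diagHom b * diagHom a = diagHom a * diagHom b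
      rw [← map_mul, ← map_mul, mul_comm]
    have hinj : Function.Injective (diagHom (F := F)) := fun b c h => (bor_injective h).1
    have heq : (diagHom (F := F)).range = Subgroup.centralizer ({bor a 0} : Set SL2) :=
      Subgroup.eq_of_le_of_card_ge hle (by
        rw [← Nat.card_congr (MonoidHom.ofInjective hinj).toEquiv, Nat.card_units,
          card_centralizer_bor ha, Nat.card_eq_fintype_card])
    obtain ⟨h1, h2⟩ := key (bor a 0) _ hconj'.symm heq.symm
      (isCyclic_of_surjective (diagHom (F := F)).rangeRestrict (diagHom (F := F)).rangeRestrict_surjective)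
    refine ⟨h1, Or.inl (h2.trans ?_)⟩
    rw [heq, card_centralizer_bor ha]

theorem pow_two_mul_char (p : ℕ) [Fact p.Prime] [CharP F p] {g : SL2} (h : g.1.trace ^ 2 = 4) :
    g ^ (2 * p) = 1 := by
  haveI : ExpChar M2 p := ExpChar.prime (Fact.out : p.Prime)
  have hd : g.1 * g.1 = g.1.trace • g.1 - 1 := SL2Orders.sq_eq g
  set t := g.1.trace with ht
  have hN : (g.1 * g.1 - 1) * (g.1 * g.1 - 1) = 0 := by
    have e1 : g.1 * g.1 - 1 = t • g.1 - (2 : F) • (1 : M2) := by
      rw [hd, two_smul]; abel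
    rw [e1]
    simp only [sub_mul, mul_sub, smul_mul_assoc, mul_smul_comm, one_mul, mul_one, hd, smul_sub,
      smul_smul]
    ext i j
    simp only [Matrix.sub_apply, Matrix.smul_apply, Matrix.zero_apply, smul_eq_mul]
    linear_combination (t * g.1 i j - (1 : M2) i j) * h
  refine Subtype.ext ?_
  show (g ^ (2 * p)).1 = 1
  rw [Matrix.SpecialLinearGroup.coe_pow, pow_mul, sq,
    show g.1 * g.1 = 1 + (g.1 * g.1 - 1) by rw [add_sub_cancel],
    add_pow_expChar_of_commute p (Commute.one_left _), one_pow]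
  have h0 : (g.1 * g.1 - 1) ^ p = 0 := by
    obtain ⟨k, hk⟩ := Nat.exists_eq_add_of_le (Fact.out : p.Prime).two_le
    rw [hk, pow_add, sq, hN, zero_mul]
  rw [h0, add_zero]

theorem not_dvd_char (p ℓ : ℕ) [Fact p.Prime] [CharP F p] (hℓ : ℓ.Prime)
    (h : ℓ ∣ Fintype.card F - 1 ∨ ℓ ∣ Fintype.card F + 1) : ℓ ≠ p := by
  rintro rfl
  obtain ⟨n, -, hn⟩ := FiniteField.card F ℓ
  have hdq : ℓ ∣ Fintype.card F := by rw [hn]; exact dvd_pow_self _ n.ne_zero
  have h1 := hℓ.two_le
  rcases h with h | h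
  · have h3 := Nat.dvd_sub hdq h
    have := Fintype.card_pos (α := F)
    rw [show Fintype.card F - (Fintype.card F - 1) = 1 by omega, Nat.dvd_one] at h3
    omega
  · have h3 := Nat.dvd_sub h hdq
    rw [show Fintype.card F + 1 - Fintype.card F = 1 by omega, Nat.dvd_one] at h3
    omega

/-- A nontrivial element of odd prime power order `ℓ^k`, `ℓ` prime to `q`, is semisimple. -/
theorem trace_ne_of_odd (p : ℕ) [Fact p.Prime] [CharP F p] {ℓ : ℕ} (hℓ : ℓ.Prime) (hℓ2 : ℓ ≠ 2)
    (hne : ℓ ≠ p) {x : SL2} {k : ℕ} (hx : x ^ ℓ ^ k = 1) (hx1 : x ≠ 1) : x.1.trace ^ 2 ≠ 4 := by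
  intro h
  apply hx1
  have hp : p.Prime := Fact.out
  have hco : Nat.Coprime (ℓ ^ k) (2 * p) :=
    Nat.Coprime.pow_left k (Nat.Coprime.mul_right ((Nat.coprime_primes hℓ Nat.prime_two).mpr hℓ2)
      ((Nat.coprime_primes hℓ hp).mpr hne))
  have hg := pow_gcd_eq_one.mpr ⟨hx, pow_two_mul_char p h⟩
  rwa [hco.gcd_eq_one, pow_one] at hg

/-- Sylow subgroups at odd primes dividing `q ± 1`. -/
theorem sylow_odd (hodd : Odd (Fintype.card F)) {ℓ : ℕ} [Fact ℓ.Prime] (hℓ : ℓ ≠ 2)
    (hdvd : ℓ ∣ Fintype.card F - 1 ∨ ℓ ∣ Fintype.card F + 1) (P : Sylow ℓ SL2) :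
    ∃ x : SL2, x.1.trace ^ 2 ≠ 4 ∧
      Subgroup.centralizer ((P : Subgroup SL2) : Set SL2) = Subgroup.centralizer ({x} : Set SL2) ∧
      Subgroup.normalizer ((P : Subgroup SL2) : Set SL2) =
        Subgroup.normalizer (Subgroup.centralizer ({x} : Set SL2) : Set SL2) ∧
      ℓ ∣ Nat.card (Subgroup.centralizer ({x} : Set SL2)) := by
  classical
  obtain ⟨p, hp⟩ := CharP.exists F
  haveI := hp
  haveI : Fact p.Prime := ⟨CharP.char_is_prime F p⟩
  have h2 := SL2Orders.two_ne_zero_of_odd hodd
  have hℓp : ℓ.Prime := Fact.out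
  have hdG : ℓ ∣ Nat.card SL2 := by
    rw [SLCard.card_SL_two]
    have e : Fintype.card F ^ 2 - 1 = (Fintype.card F + 1) * (Fintype.card F - 1) := by
      simpa using Nat.sq_sub_sq (Fintype.card F) 1
    rw [e]
    rcases hdvd with h | h
    · exact Dvd.dvd.mul_left (Dvd.dvd.mul_left h _) _
    · exact Dvd.dvd.mul_left (Dvd.dvd.mul_right h _) _
  haveI : Nontrivial (P : Subgroup SL2) :=
    (Subgroup.nontrivial_iff_ne_bot _).mpr (P.ne_bot_of_dvd_card hdG)
  obtain ⟨z, hz, hz1⟩ : ∃ z : (P : Subgroup SL2), z ∈ Subgroup.center (P : Subgroup SL2) ∧ z ≠ 1 := by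
    haveI := P.2.center_nontrivial
    obtain ⟨⟨z, hz⟩, hne⟩ := exists_ne (1 : Subgroup.center (P : Subgroup SL2))
    exact ⟨z, hz, fun h => hne (Subtype.ext h)⟩
  obtain ⟨k, hk⟩ := P.2 z
  have hx1 : (z : SL2) ≠ 1 := fun h => hz1 (Subtype.ext h)
  have hx : (z : SL2).1.trace ^ 2 ≠ 4 :=
    trace_ne_of_odd p hℓp hℓ (not_dvd_char p ℓ hℓp hdvd) (k := k) (congrArg Subtype.val hk) hx1
  set A := Subgroup.centralizer ({(z : SL2)} : Set SL2) with hA
  have hPA : (P : Subgroup SL2) ≤ A := fun y hy => mem_centralizer.mpr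
    (congrArg Subtype.val (Subgroup.mem_center_iff.mp hz ⟨y, hy⟩))
  have hzP : (z : SL2) ∈ (P : Subgroup SL2) := z.2
  have hCP : Subgroup.centralizer ((P : Subgroup SL2) : Set SL2) = A := by
    refine le_antisymm (fun y hy => mem_centralizer.mpr ?_) (fun y hy => ?_)
    · exact ((Subgroup.mem_centralizer_iff.mp hy) _ hzP).symm
    · rw [Subgroup.mem_centralizer_iff]
      intro u hu
      exact (commute_of_commute (ns_of_trace hx) (mem_centralizer.mp (hPA hu))
        (mem_centralizer.mp hy)).eq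
  refine ⟨z, hx, hCP, le_antisymm (fun g hg => ?_) (fun g hg => ?_), ?_⟩
  · have hgz : g * z * g⁻¹ ∈ A := hPA ((Subgroup.mem_normalizer_iff.mp hg z).mp hzP)
    exact mem_normalizer_centralizer (conj_mem_cases h2 hx hgz)
  · have hin : ∀ g ∈ Subgroup.normalizer (A : Set SL2), ∀ u ∈ (P : Subgroup SL2),
        g * u * g⁻¹ ∈ (P : Subgroup SL2) := by
      intro g hg u hu
      set v := g * u * g⁻¹ with hv
      have hvA : v ∈ A := (Subgroup.mem_normalizer_iff.mp hg u).mp (hPA hu)
      have hvp : IsPGroup ℓ (Subgroup.zpowers v) := by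
        obtain ⟨j, hj⟩ := P.2 ⟨u, hu⟩
        have hjv : v ^ ℓ ^ j = 1 := by
          rw [hv, conj_pow, show u ^ ℓ ^ j = 1 from congrArg Subtype.val hj, mul_one, mul_inv_cancel]
        rintro ⟨y, hy⟩
        obtain ⟨n, rfl⟩ := Subgroup.mem_zpowers_iff.mp hy
        refine ⟨j, Subtype.ext ?_⟩
        show (v ^ n) ^ (ℓ ^ j) = 1
        rw [← zpow_natCast, ← _root_.zpow_mul, mul_comm, _root_.zpow_mul, zpow_natCast, hjv, _root_.one_zpow]
      have hnorm : Subgroup.zpowers v ≤ Subgroup.normalizer ((P : Subgroup SL2) : Set SL2) := by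
        rw [Subgroup.zpowers_le]
        rw [← hCP] at hvA
        exact Subgroup.centralizer_le_normalizer _ hvA
      have hsup := P.3 (hvp.to_sup_of_normal_right' P.2 hnorm) le_sup_right
      rw [← hsup]
      exact Subgroup.mem_sup_left (Subgroup.mem_zpowers v)
    rw [Subgroup.mem_normalizer_iff]
    refine fun u => ⟨fun hu => hin g hg u hu, fun hu => ?_⟩
    have := hin g⁻¹ (inv_mem hg) _ hu
    simpa [mul_assoc] using this
  · calc ℓ ∣ orderOf (z : SL2) := by
          obtain ⟨j, -, hj⟩ := (Nat.dvd_prime_pow hℓp).mp (orderOf_dvd_of_pow_eq_one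
            (show (z : SL2) ^ ℓ ^ k = 1 from congrArg Subtype.val hk))
          rw [hj]
          refine dvd_pow_self ℓ fun h0 => hx1 ?_
          rw [h0, pow_zero] at hj
          exact orderOf_eq_one_iff.mp hj
      _ ∣ Nat.card A := by
          rw [← Subgroup.orderOf_mk (z : SL2) (mem_centralizer.mpr (Commute.refl _) : (z : SL2) ∈ A)]
          exact orderOf_dvd_natCard _

end Fin

end CfsgLib.SL2Tori
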