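import Cfsg.Agent.Lib.SL2Char.Tori

/-!
A Sylow 2-subgroup of `SL₂(q)`, `q` odd: it is generated by an element `x` of order `2^k` spanning
the 2-part of a maximal torus `A` and elements inverting `A`; its centraliser and normaliser.
-/

set_option autoImplicit false

namespace CfsgLib.SL2Tori

open Matrix
open CfsgLib.SL2Char

variable {F : Type*} [Field F] [Fintype F]

local notation "SL2" => Matrix.SpecialLinearGroup (Fin 2) F

/-- The arithmetic of `q ± 1`. -/
theorem torus_arith {q : ℕ} (hodd : Odd q) (h1 : 1 < q) :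
    ∃ n n' k r r' : ℕ, ((q % 4 = 1 ∧ n = q - 1 ∧ n' = q + 1) ∨ (q % 4 = 3 ∧ n = q + 1 ∧ n' = q - 1)) ∧
      n = 2 ^ k * r ∧ Odd r ∧ n' = 2 * r' ∧ Odd r' ∧ 2 ≤ k ∧
      (3 ≤ k ↔ q % 8 = 1 ∨ q % 8 = 7) := by
  have hq2 : q % 2 = 1 := Nat.odd_iff.mp hodd
  obtain ⟨n, n', hn, hn4, hn'⟩ : ∃ n n', ((q % 4 = 1 ∧ n = q - 1 ∧ n' = q + 1) ∨
      (q % 4 = 3 ∧ n = q + 1 ∧ n' = q - 1)) ∧ n % 4 = 0 ∧ n' % 4 = 2 := by
    by_cases h : q % 4 = 1
    · exact ⟨_, _, Or.inl ⟨h, rfl, rfl⟩, by omega, by omega⟩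
    · exact ⟨_, _, Or.inr ⟨by omega, rfl, rfl⟩, by omega, by omega⟩
  have hn0 : n ≠ 0 := by rcases hn with ⟨_, e, _⟩ | ⟨_, e, _⟩ <;> omega
  obtain ⟨k, r, hr, hnr⟩ := Nat.exists_eq_two_pow_mul_odd hn0
  have hr2 : r % 2 = 1 := Nat.odd_iff.mp hr
  refine ⟨n, n', k, r, n' / 2, hn, hnr, hr, by omega, Nat.odd_iff.mpr (by omega), ?_, ?_⟩
  · by_contra hlt
    interval_cases k <;> simp at hnr <;> omega
  · constructor
    · intro hk
      obtain ⟨j, rfl⟩ := Nat.exists_eq_add_of_le hk
      rw [pow_add, mul_assoc] at hnr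
      rcases hn with ⟨_, e, _⟩ | ⟨_, e, _⟩ <;> omega
    · intro hq
      by_contra hlt
      interval_cases k <;> simp at hnr <;> rcases hn with ⟨_, e, _⟩ | ⟨_, e, _⟩ <;> omega

theorem exists_orderOf_torus {n : ℕ} (h : n = Fintype.card F - 1 ∨ n = Fintype.card F + 1) :
    ∃ g : SL2, orderOf g = n := by
  rcases h with rfl | rfl
  · obtain ⟨a, ha⟩ := IsCyclic.exists_generator (α := Fˣ)
    refine ⟨diagHom a, ?_⟩
    rw [orderOf_injective diagHom (fun b c h => (bor_injective h).1) a,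
      orderOf_eq_card_of_forall_mem_zpowers ha, Nat.card_units, Nat.card_eq_fintype_card]
  · obtain ⟨p, hp⟩ := CharP.exists F
    haveI := hp
    haveI : Fact p.Prime := ⟨CharP.char_is_prime F p⟩
    exact CfsgLib.NonSplitTorus.exists_orderOf_card_add_one (F := F) p

/-- The frame of a Sylow 2-subgroup. -/
structure TwoFrame (S : Subgroup (Matrix.SpecialLinearGroup (Fin 2) F)) where
  x : Matrix.SpecialLinearGroup (Fin 2) F
  k : ℕ
  r : ℕ
  hk : 2 ≤ k
  hr : Odd r
  hk8 : 3 ≤ k ↔ Fintype.card F % 8 = 1 ∨ Fintype.card F % 8 = 7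
  hxS : x ∈ S
  hx : x.1.trace ^ 2 ≠ 4
  hord : orderOf x = 2 ^ k
  hS : Nat.card S = 2 ^ (k + 1)
  hA : Nat.card (Subgroup.centralizer ({x} : Set (Matrix.SpecialLinearGroup (Fin 2) F))) = 2 ^ k * r

theorem exists_frame (hodd : Odd (Fintype.card F)) (S : Sylow 2 SL2) :
    Nonempty (TwoFrame (S : Subgroup SL2)) := by
  classical
  obtain ⟨p, hp⟩ := CharP.exists F
  haveI := hp
  haveI : Fact p.Prime := ⟨CharP.char_is_prime F p⟩
  have h1 := Fintype.one_lt_card (α := F)
  obtain ⟨n, n', k, r, r', hn, hnr, hr, hnr', hr', hk, hk8⟩ := torus_arith hodd h1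
  have hnor : n = Fintype.card F - 1 ∨ n = Fintype.card F + 1 := by
    rcases hn with ⟨_, e, _⟩ | ⟨_, e, _⟩
    · exact Or.inl e
    · exact Or.inr e
  have hG : Nat.card SL2 = 2 ^ (k + 1) * (Fintype.card F * r * r') := by
    have e : Fintype.card F ^ 2 - 1 = (Fintype.card F + 1) * (Fintype.card F - 1) := by
      simpa using Nat.sq_sub_sq (Fintype.card F) 1
    rw [SLCard.card_SL_two, e]
    rcases hn with ⟨_, e1, e2⟩ | ⟨_, e1, e2⟩ <;>
    · rw [← e1, ← e2, hnr, hnr']; ring
  have hS : Nat.card (S : Subgroup SL2) = 2 ^ (k + 1) := by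
    rw [Sylow.card_eq_multiplicity, hG]
    congr 1
    have hm : Odd (Fintype.card F * r * r') := (hodd.mul hr).mul hr'
    rw [Nat.factorization_mul (by positivity) (Nat.pos_iff_ne_zero.mp hm.pos), Finsupp.add_apply,
      Nat.Prime.factorization_pow Nat.prime_two, Finsupp.single_eq_same,
      Nat.factorization_eq_zero_of_not_dvd (fun h => Nat.not_even_iff_odd.mpr hm (even_iff_two_dvd.mpr h)),
      add_zero]
  obtain ⟨g, hg⟩ := exists_orderOf_torus hnor
  have hx0 : orderOf (g ^ r) = 2 ^ k := by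
    rw [orderOf_pow' _ (Nat.pos_iff_ne_zero.mp hr.pos), hg, hnr, Nat.gcd_eq_right (dvd_mul_left r _),
      Nat.mul_div_cancel _ hr.pos]
  have hpg : IsPGroup 2 (Subgroup.zpowers (g ^ r)) := IsPGroup.of_card (by rw [Nat.card_zpowers, hx0])
  obtain ⟨S0, hS0⟩ := hpg.exists_le_sylow
  obtain ⟨h, hh⟩ := MulAction.exists_smul_eq SL2 S0 S
  set x := h * g ^ r * h⁻¹ with hxdef
  have hxS : x ∈ (S : Subgroup SL2) := by
    rw [← hh, Sylow.coe_subgroup_smul, Subgroup.mem_pointwise_smul_iff_inv_smul_mem]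
    rw [← map_inv, MulAut.smul_def, MulAut.conj_apply, inv_inv, hxdef,
      show h⁻¹ * (h * g ^ r * h⁻¹) * h = g ^ r by group]
    exact hS0 (Subgroup.mem_zpowers _)
  have hord : orderOf x = 2 ^ k := by
    rw [hxdef, ← hx0]
    exact orderOf_injective (MulAut.conj h).toMonoidHom (MulAut.conj h).injective (g ^ r)
  have hxp : x ^ 2 ^ k = 1 := by rw [← hord]; exact pow_orderOf_eq_one x
  have hx : x.1.trace ^ 2 ≠ 4 := by
    intro h4
    have hd : orderOf x ∣ 2 * p := orderOf_dvd_of_pow_eq_one (pow_two_mul_char p h4)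
    rw [hord] at hd
    have h4d : 4 ∣ 2 * p := (show 4 ∣ 2 ^ k by
      obtain ⟨j, rfl⟩ := Nat.exists_eq_add_of_le hk
      exact ⟨2 ^ j, by rw [pow_add]; norm_num⟩).trans hd
    have hp2 : p ≠ 2 := by
      rintro rfl
      obtain ⟨m, -, hm⟩ := FiniteField.card F 2
      rw [hm] at hodd
      exact Nat.not_even_iff_odd.mpr hodd (Nat.even_pow.mpr ⟨even_two, m.ne_zero⟩)
    have := (Fact.out : p.Prime).odd_of_ne_two hp2
    rw [Nat.odd_iff] at this
    omega
  have hA : Nat.card (Subgroup.centralizer ({x} : Set SL2)) = 2 ^ k * r := by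
    have hdA : 2 ^ k ∣ Nat.card (Subgroup.centralizer ({x} : Set SL2)) := by
      rw [← hord, ← Subgroup.orderOf_mk x (mem_centralizer.mpr (Commute.refl _) :
        x ∈ Subgroup.centralizer ({x} : Set SL2))]
      exact orderOf_dvd_natCard _
    have h4 : 4 ∣ Nat.card (Subgroup.centralizer ({x} : Set SL2)) := (show 4 ∣ 2 ^ k by
      obtain ⟨j, rfl⟩ := Nat.exists_eq_add_of_le hk
      exact ⟨2 ^ j, by rw [pow_add]; norm_num⟩).trans hdA
    have hc := (isCyclic_centralizer hx).2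
    have h2 : Fintype.card F % 2 = 1 := Nat.odd_iff.mp hodd
    rw [← hnr]
    rcases hn with ⟨_, e, _⟩ | ⟨_, e, _⟩ <;> rcases hc with hc | hc <;> omega
  exact ⟨⟨x, k, r, hk, hr, hk8, hxS, hx, hord, hS, hA⟩⟩

variable {S : Subgroup (Matrix.SpecialLinearGroup (Fin 2) F)}

namespace TwoFrame

variable (T : TwoFrame S)

theorem xpow : T.x ^ 2 ^ T.k = 1 := by rw [← T.hord]; exact pow_orderOf_eq_one _

theorem x_mem_A : T.x ∈ Subgroup.centralizer ({T.x} : Set SL2) := mem_centralizer.mpr (Commute.refl _)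

theorem mem_zpowers_of {z : SL2} (hz : z ∈ Subgroup.centralizer ({T.x} : Set SL2)) {e : ℕ}
    (he : z ^ 2 ^ e = 1) : z ∈ Subgroup.zpowers T.x := by
  classical
  set A := Subgroup.centralizer ({T.x} : Set SL2) with hA
  haveI : IsCyclic A := (isCyclic_centralizer T.hx).1
  have hzA : z ^ (2 ^ T.k * T.r) = 1 := by
    rw [← T.hA]
    exact congrArg Subtype.val (pow_card_eq_one' (G := A) (x := ⟨z, hz⟩))
  have hg := pow_gcd_eq_one.mpr ⟨he, hzA⟩
  have hdvd : Nat.gcd (2 ^ e) (2 ^ T.k * T.r) ∣ 2 ^ T.k :=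
    Nat.Coprime.dvd_of_dvd_mul_right
      (Nat.Coprime.coprime_dvd_left (Nat.gcd_dvd_left _ _)
        (Nat.Coprime.pow_left e ((Nat.coprime_two_left).mpr T.hr)))
      (Nat.gcd_dvd_right _ _)
  have hzk : z ^ 2 ^ T.k = 1 := by
    obtain ⟨c, hc⟩ := hdvd
    rw [hc, pow_mul, hg, one_pow]
  let X : A := ⟨T.x, T.x_mem_A⟩
  have hX : orderOf X = 2 ^ T.k := (Subgroup.orderOf_mk T.x T.x_mem_A).trans T.hord
  have hsub : (Finset.univ.filter fun w : A => w ∈ Subgroup.zpowers X) ⊆
      Finset.univ.filter fun w : A => w ^ 2 ^ T.k = 1 := by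
    intro w hw
    obtain ⟨j, rfl⟩ := Subgroup.mem_zpowers_iff.mp (Finset.mem_filter.mp hw).2
    refine Finset.mem_filter.mpr ⟨Finset.mem_univ _, ?_⟩
    rw [← zpow_natCast, ← _root_.zpow_mul, mul_comm, _root_.zpow_mul, zpow_natCast, ← hX,
      pow_orderOf_eq_one, _root_.one_zpow]
  have heq := Finset.eq_of_subset_of_card_le hsub (by
    refine (IsCyclic.card_pow_eq_one_le (α := A) (n := 2 ^ T.k) (by positivity)).trans ?_
    rw [← hX, ← Nat.card_zpowers, Nat.card_eq_fintype_card, Fintype.card_subtype])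
  have hm : (⟨z, hz⟩ : A) ∈ Finset.univ.filter fun w : A => w ^ 2 ^ T.k = 1 :=
    Finset.mem_filter.mpr ⟨Finset.mem_univ _, Subtype.ext hzk⟩
  rw [← heq] at hm
  obtain ⟨j, hj⟩ := Subgroup.mem_zpowers_iff.mp (Finset.mem_filter.mp hm).2
  exact Subgroup.mem_zpowers_iff.mpr ⟨j, congrArg Subtype.val hj⟩

theorem pow_of_mem {z : SL2} (hz : z ∈ S) : z ^ 2 ^ (T.k + 1) = 1 := by
  rw [← T.hS]
  exact congrArg Subtype.val (pow_card_eq_one' (G := S) (x := ⟨z, hz⟩))

theorem zpowers_le : Subgroup.zpowers T.x ≤ S := Subgroup.zpowers_le.mpr T.hxS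

theorem zpowers_le_A : Subgroup.zpowers T.x ≤ Subgroup.centralizer ({T.x} : Set SL2) :=
  Subgroup.zpowers_le.mpr T.x_mem_A

theorem mem_A_iff {z : SL2} (hz : z ∈ S) :
    z ∈ Subgroup.centralizer ({T.x} : Set SL2) ↔ z ∈ Subgroup.zpowers T.x :=
  ⟨fun h => T.mem_zpowers_of h (T.pow_of_mem hz), fun h => T.zpowers_le_A h⟩

theorem index_two : ((Subgroup.zpowers T.x).subgroupOf S).index = 2 := by
  have h := ((Subgroup.zpowers T.x).subgroupOf S).card_mul_index
  rw [Nat.card_congr (Subgroup.subgroupOfEquivOfLe T.zpowers_le).toEquiv, Nat.card_zpowers, T.hord,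
    T.hS, pow_succ] at h
  exact Nat.eq_of_mul_eq_mul_left (by positivity) h

theorem exists_outside : ∃ y ∈ S, y ∉ Subgroup.centralizer ({T.x} : Set SL2) := by
  by_contra h
  push Not at h
  have htop : (Subgroup.zpowers T.x).subgroupOf S = ⊤ :=
    eq_top_iff.mpr fun z _ => (T.mem_A_iff z.2).mp (h _ z.2)
  have h2 := T.index_two
  rw [htop, Subgroup.index_top] at h2
  omega

theorem mul_mem_zpowers {z w : SL2} (hz : z ∈ S) (hw : w ∈ S) (hz' : z ∉ Subgroup.zpowers T.x)
    (hw' : w ∉ Subgroup.zpowers T.x) : z * w ∈ Subgroup.zpowers T.x :=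
  (Subgroup.mul_mem_iff_of_index_two T.index_two (a := ⟨z, hz⟩) (b := ⟨w, hw⟩)).mpr
    ⟨fun h => absurd h hz', fun h => absurd h hw'⟩

theorem inv_x (h2 : (2 : F) ≠ 0) {z : SL2} (hz : z ∈ S)
    (hzA : z ∉ Subgroup.centralizer ({T.x} : Set SL2)) : z * T.x * z⁻¹ = T.x⁻¹ := by
  haveI := Subgroup.normal_of_index_eq_two T.index_two
  have hm : z * T.x * z⁻¹ ∈ Subgroup.zpowers T.x :=
    Subgroup.Normal.conj_mem (inferInstance : ((Subgroup.zpowers T.x).subgroupOf S).Normal)
      ⟨T.x, T.hxS⟩ (Subgroup.mem_zpowers T.x) ⟨z, hz⟩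
  rcases conj_mem_cases h2 T.hx (T.zpowers_le_A hm) with h | h
  · exact absurd (mem_centralizer.mpr (mul_inv_eq_iff_eq_mul.mp h)) hzA
  · exact h

theorem inv_A (hodd : Odd (Fintype.card F)) {z : SL2} (hz : z ∈ S)
    (hzA : z ∉ Subgroup.centralizer ({T.x} : Set SL2)) {a : SL2}
    (ha : a ∈ Subgroup.centralizer ({T.x} : Set SL2)) : z * a * z⁻¹ = a⁻¹ := by
  obtain ⟨p, hp⟩ := CharP.exists F
  haveI := hp
  haveI : Fact p.Prime := ⟨CharP.char_is_prime F p⟩
  have h2 := SL2Orders.two_ne_zero_of_odd hodd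
  set A := Subgroup.centralizer ({T.x} : Set SL2) with hA
  have hzN : z ∈ Subgroup.normalizer (A : Set SL2) := mem_normalizer_centralizer (Or.inr (T.inv_x h2 hz hzA))
  have hconj : z * a * z⁻¹ ∈ A := (Subgroup.mem_normalizer_iff.mp hzN a).mp ha
  by_cases h4 : a.1.trace ^ 2 = 4
  · have hcardp : ¬ p ∣ Nat.card A := by
      intro hd
      refine not_dvd_char (F := F) p p (Fact.out : p.Prime) ?_ rfl
      rcases (isCyclic_centralizer T.hx).2 with h | h
      · exact Or.inl (h ▸ hd)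
      · exact Or.inr (h ▸ hd)
    have haA : a ^ Nat.card A = 1 := congrArg Subtype.val (pow_card_eq_one' (G := A) (x := ⟨a, ha⟩))
    have hg := pow_gcd_eq_one.mpr ⟨haA, pow_two_mul_char p h4⟩
    rw [Nat.Coprime.gcd_mul_right_cancel_right 2
      ((Fact.out : p.Prime).coprime_iff_not_dvd.mpr hcardp)] at hg
    have ha2 : a ^ 2 = 1 :=
      orderOf_dvd_iff_pow_eq_one.mp ((orderOf_dvd_of_pow_eq_one hg).trans (Nat.gcd_dvd_right _ 2))
    rcases SL2Orders.eq_one_or_neg_one_of_sq h2 a (by rw [← sq, ha2]) with rfl | rfl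
    · simp
    · rw [inv_eq_of_mul_eq_one_right (show (-1 : SL2) * -1 = 1 by simp)]
      simp
  · have hAa : Subgroup.centralizer ({a} : Set SL2) = A :=
      centralizer_eq_of_mem (ns_of_trace T.hx) (ns_of_trace h4) ha
    rcases conj_mem_cases h2 h4 (g := z) (hAa.symm ▸ hconj) with h | h
    · exact absurd (hAa ▸ mem_centralizer.mpr (mul_inv_eq_iff_eq_mul.mp h) : z ∈ A) hzA
    · exact h

theorem sq_outside (hodd : Odd (Fintype.card F)) {z : SL2} (hz : z ∈ S)
    (hzA : z ∉ Subgroup.centralizer ({T.x} : Set SL2)) : z * z = -1 ∧ orderOf z = 4 := by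
  have h2 := SL2Orders.two_ne_zero_of_odd hodd
  have hz' : z ∉ Subgroup.zpowers T.x := fun h => hzA (T.zpowers_le_A h)
  have hm := T.zpowers_le_A (T.mul_mem_zpowers hz hz hz' hz')
  have h := T.inv_A hodd hz hzA hm
  rw [show z * (z * z) * z⁻¹ = z * z by group] at h
  have hne1 : (-1 : SL2) ≠ 1 := fun e => h2 (by
    have e' := congrArg (fun g : SL2 => g.1 0 0) e
    simp at e'
    linear_combination -e')
  rcases SL2Orders.eq_one_or_neg_one_of_sq h2 (z * z) (mul_eq_one_iff_eq_inv.mpr h) with h1 | h1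
  · exfalso
    rcases SL2Orders.eq_one_or_neg_one_of_sq h2 z h1 with rfl | rfl
    · exact hzA (one_mem _)
    · exact hzA (mem_centralizer.mpr (Commute.neg_one_left _))
  · refine ⟨h1, orderOf_eq_prime_pow (p := 2) (n := 1) ?_ ?_⟩
    · rw [pow_one, sq, h1]; exact hne1
    · rw [show (2 : ℕ) ^ (1 + 1) = 2 * 2 by norm_num, pow_mul, sq z, h1, sq]; simp

include T in
theorem centralizer_eq_center (hodd : Odd (Fintype.card F)) :
    Subgroup.centralizer (S : Set SL2) = Subgroup.center SL2 := by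
  have h2 := SL2Orders.two_ne_zero_of_odd hodd
  refine le_antisymm (fun g hg => ?_) (Subgroup.center_le_centralizer _)
  rw [mem_center_iff]
  intro hns
  obtain ⟨y, hy, hyA⟩ := T.exists_outside
  exact hyA (mem_centralizer.mpr (commute_of_commute hns (Subgroup.mem_centralizer_iff.mp hg y hy)
    (Subgroup.mem_centralizer_iff.mp hg T.x T.hxS)))

theorem mem_of_normalizer_A (hodd : Odd (Fintype.card F)) {g : SL2}
    (hg : g ∈ Subgroup.normalizer (S : Set SL2))
    (hx : g * T.x * g⁻¹ = T.x ∨ g * T.x * g⁻¹ = T.x⁻¹) : g ∈ S := by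
  obtain ⟨y, hy, hyA⟩ := T.exists_outside
  have key : ∀ a : SL2, a ∈ Subgroup.normalizer (S : Set SL2) →
      a ∈ Subgroup.centralizer ({T.x} : Set SL2) → a ∈ S := by
    intro a haN haA
    have h1 : a * y * a⁻¹ ∈ S := (Subgroup.mem_normalizer_iff.mp haN y).mp hy
    have h2' := S.mul_mem h1 (S.inv_mem hy)
    rw [show a * y * a⁻¹ * y⁻¹ = a * (y * a⁻¹ * y⁻¹) by group,
      T.inv_A hodd hy hyA (inv_mem haA), inv_inv] at h2'
    have hp := T.pow_of_mem h2'
    rw [← sq, ← pow_mul, ← pow_succ'] at hp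
    exact T.zpowers_le (T.mem_zpowers_of haA hp)
  rcases hx with h | h
  · exact key g hg (mem_centralizer.mpr (mul_inv_eq_iff_eq_mul.mp h))
  · have hyx : y⁻¹ * T.x⁻¹ * y = T.x := by
      rw [← T.inv_x (SL2Orders.two_ne_zero_of_odd hodd) hy hyA]; group
    have hyg : y⁻¹ * g ∈ Subgroup.centralizer ({T.x} : Set SL2) := by
      rw [mem_centralizer]
      refine mul_inv_eq_iff_eq_mul.mp ?_
      show y⁻¹ * g * T.x * (y⁻¹ * g)⁻¹ = T.x
      rw [show y⁻¹ * g * T.x * (y⁻¹ * g)⁻¹ = y⁻¹ * (g * T.x * g⁻¹) * y by group, h, hyx]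
    have := S.mul_mem hy (key (y⁻¹ * g)
      (mul_mem (inv_mem (Subgroup.le_normalizer hy)) hg) hyg)
    rwa [mul_inv_cancel_left] at this

theorem normalizer_eq_of_big (hodd : Odd (Fintype.card F)) (hk3 : 3 ≤ T.k) :
    Subgroup.normalizer (S : Set SL2) = S := by
  have h2 := SL2Orders.two_ne_zero_of_odd hodd
  refine le_antisymm (fun g hg => T.mem_of_normalizer_A hodd hg ?_) Subgroup.le_normalizer
  have hxg : g * T.x * g⁻¹ ∈ S := (Subgroup.mem_normalizer_iff.mp hg T.x).mp T.hxS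
  refine conj_mem_cases h2 T.hx ?_
  by_contra hnA
  have h4 := (T.sq_outside hodd hxg hnA).2
  have he : orderOf (g * T.x * g⁻¹) = 2 ^ T.k := by
    rw [← T.hord]
    exact orderOf_injective (MulAut.conj g).toMonoidHom (MulAut.conj g).injective T.x
  rw [h4] at he
  obtain ⟨j, hj⟩ := Nat.exists_eq_add_of_le hk3
  rw [hj, pow_add] at he
  have := Nat.one_le_two_pow (n := j)
  omega

/-- The cyclic subgroups of order four inside `S`. -/
def Cyc4 (S : Subgroup (Matrix.SpecialLinearGroup (Fin 2) F)) : Type _ :=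
  {H : Subgroup (Matrix.SpecialLinearGroup (Fin 2) F) // ∃ z ∈ S, orderOf z = 4 ∧ H = Subgroup.zpowers z}

theorem card_cyc4 (hodd : Odd (Fintype.card F)) (hk2 : T.k = 2) : Nat.card (Cyc4 S) ≤ 3 := by
  classical
  obtain ⟨y, hy, hyA⟩ := T.exists_outside
  have hy' : y ∉ Subgroup.zpowers T.x := fun h => hyA (T.zpowers_le_A h)
  have hxy : T.x * y ∈ S := S.mul_mem T.hxS hy
  have hxyA : T.x * y ∉ Subgroup.centralizer ({T.x} : Set SL2) := fun h =>
    hyA (by simpa using mul_mem (inv_mem T.x_mem_A) h)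
  have hx4 : orderOf T.x = 4 := by rw [T.hord, hk2]; norm_num
  let L : Fin 3 → Cyc4 S := ![⟨_, T.x, T.hxS, hx4, rfl⟩, ⟨_, y, hy, (T.sq_outside hodd hy hyA).2, rfl⟩,
    ⟨_, T.x * y, hxy, (T.sq_outside hodd hxy hxyA).2, rfl⟩]
  have hinv : ∀ w ∈ S, w ∉ Subgroup.centralizer ({T.x} : Set SL2) → w⁻¹ = -w := fun w hw hwA =>
    inv_eq_of_mul_eq_one_right (by rw [mul_neg, (T.sq_outside hodd hw hwA).1, neg_neg])
  have hsurj : Function.Surjective L := by
    rintro ⟨H, z, hz, hz4, rfl⟩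
    by_cases hzA : z ∈ Subgroup.centralizer ({T.x} : Set SL2)
    · refine ⟨0, Subtype.ext ?_⟩
      show Subgroup.zpowers T.x = Subgroup.zpowers z
      exact (Subgroup.eq_of_le_of_card_ge (Subgroup.zpowers_le.mpr ((T.mem_A_iff hz).mp hzA))
        (by rw [Nat.card_zpowers, Nat.card_zpowers, hx4, hz4])).symm
    · have hzy : z * y⁻¹ ∈ Subgroup.zpowers T.x :=
        T.mul_mem_zpowers hz (S.inv_mem hy) (fun h => hzA (T.zpowers_le_A h))
          (fun h => hy' (by simpa using inv_mem h))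
      have hfin : IsOfFinOrder T.x := isOfFinOrder_of_finite _
      obtain ⟨i, hi⟩ := (hfin.mem_powers_iff_mem_zpowers.mpr hzy)
      simp only at hi
      have hzi : z = T.x ^ (i % 4) * y := by
        rw [← hx4, pow_mod_orderOf, hi, inv_mul_cancel_right]
      have hx2 : T.x ^ 2 = -1 := by
        have h2 := SL2Orders.two_ne_zero_of_odd hodd
        rcases SL2Orders.eq_one_or_neg_one_of_sq h2 (T.x ^ 2) (by
          rw [← pow_add, show 2 + 2 = orderOf T.x from hx4.symm, pow_orderOf_eq_one]) with h | h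
        · have := orderOf_dvd_of_pow_eq_one h; rw [hx4] at this; omega
        · exact h
      have : i % 4 < 4 := Nat.mod_lt _ (by norm_num)
      rcases (show i % 4 = 0 ∨ i % 4 = 1 ∨ i % 4 = 2 ∨ i % 4 = 3 by omega) with h | h | h | h <;>
        rw [h] at hzi
      · exact ⟨1, Subtype.ext (by show Subgroup.zpowers y = Subgroup.zpowers z; rw [hzi, pow_zero, one_mul])⟩
      · exact ⟨2, Subtype.ext (by show Subgroup.zpowers (T.x * y) = Subgroup.zpowers z; rw [hzi, pow_one])⟩
      · refine ⟨1, Subtype.ext ?_⟩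
        show Subgroup.zpowers y = Subgroup.zpowers z
        rw [hzi, hx2, neg_one_mul, ← hinv y hy hyA, Subgroup.zpowers_inv]
      · refine ⟨2, Subtype.ext ?_⟩
        show Subgroup.zpowers (T.x * y) = Subgroup.zpowers z
        rw [hzi, pow_succ, hx2, neg_one_mul, neg_mul, ← hinv _ hxy hxyA, Subgroup.zpowers_inv]
  exact (Nat.card_le_card_of_surjective L hsurj).trans (by simp)

end TwoFrame

theorem normalizer_index_three (hodd : Odd (Fintype.card F)) (S : Sylow 2 SL2)
    (T : TwoFrame (S : Subgroup SL2)) (hk2 : T.k = 2) :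
    Nat.card (Subgroup.normalizer ((S : Subgroup SL2) : Set SL2)) = 3 * Nat.card S := by
  classical
  have h2 := SL2Orders.two_ne_zero_of_odd hodd
  set N := Subgroup.normalizer ((S : Subgroup SL2) : Set SL2) with hN
  set X := TwoFrame.Cyc4 (S : Subgroup SL2)
  have hact : ∀ g ∈ N, ∀ H : X, ∃ H' : X, H'.1 = H.1.map (MulAut.conj g).toMonoidHom := by
    rintro g hg ⟨H, z, hz, hz4, rfl⟩
    refine ⟨⟨_, g * z * g⁻¹, (Subgroup.mem_normalizer_iff.mp hg z).mp hz, ?_, rfl⟩, ?_⟩
    · rw [← hz4]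
      exact orderOf_injective (MulAut.conj g).toMonoidHom (MulAut.conj g).injective z
    · rw [MonoidHom.map_zpowers]
      rfl
  choose act hact using hact
  have hmm : ∀ (g h : SL2) (H : Subgroup SL2),
      (H.map (MulAut.conj h).toMonoidHom).map (MulAut.conj g).toMonoidHom =
        H.map (MulAut.conj (g * h)).toMonoidHom := fun g h H => by
    rw [Subgroup.map_map]
    congr 1
    ext w
    simp [MulAut.conj_apply, mul_assoc]
  have hone : ∀ H : Subgroup SL2, H.map (MulAut.conj (1 : SL2)).toMonoidHom = H := fun H => by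
    ext w
    simp [MulAut.conj_apply]
  let σ : N →* Function.End X :=
    { toFun := fun g => act g.1 g.2
      map_one' := funext fun H => Subtype.ext ((hact _ _ H).trans (hone H.1))
      map_mul' := fun g h => funext fun H => Subtype.ext (by
        show (act (g * h : N).1 (g * h).2 H).1 = (act g.1 g.2 (act h.1 h.2 H)).1
        rw [hact, hact, hact, hmm]
        rfl) }
  let ρ : N →* Equiv.Perm X :=
    { toFun := fun g => ⟨σ g, σ g⁻¹, fun H => by
        show (σ g⁻¹ * σ g) H = H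
        rw [← map_mul, inv_mul_cancel, map_one]; rfl, fun H => by
        show (σ g * σ g⁻¹) H = H
        rw [← map_mul, mul_inv_cancel, map_one]; rfl⟩
      map_one' := Equiv.ext fun H => by show σ 1 H = H; rw [map_one]; rfl
      map_mul' := fun g h => Equiv.ext fun H => by show σ (g * h) H = σ g (σ h H); rw [map_mul]; rfl }
  have hx4 : orderOf T.x = 4 := by rw [T.hord, hk2]; norm_num
  let Hx : X := ⟨_, T.x, T.hxS, hx4, rfl⟩
  obtain ⟨y, hy, hyA⟩ := T.exists_outside
  have hker : ρ.ker = (S : Subgroup SL2).subgroupOf N := by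
    ext g
    rw [MonoidHom.mem_ker, Subgroup.mem_subgroupOf]
    constructor
    · intro h
      refine T.mem_of_normalizer_A hodd g.2 ?_
      have h' : (act g.1 g.2 Hx).1 = Hx.1 := congrArg Subtype.val (DFunLike.congr_fun h Hx)
      rw [hact] at h'
      have hm : (g : SL2) * T.x * (g : SL2)⁻¹ ∈ Subgroup.zpowers T.x := by
        show _ ∈ Hx.1
        rw [← h']
        exact Subgroup.mem_map_of_mem _ (Subgroup.mem_zpowers T.x)
      exact conj_mem_cases h2 T.hx (T.zpowers_le_A hm)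
    · intro hg
      refine Equiv.ext fun H => Subtype.ext ?_
      show (act g.1 g.2 H).1 = H.1
      rw [hact]
      obtain ⟨_, z, hz, hz4, rfl⟩ := H
      have hidx : ((Subgroup.zpowers z).subgroupOf (S : Subgroup SL2)).index = 2 := by
        have h := ((Subgroup.zpowers z).subgroupOf (S : Subgroup SL2)).card_mul_index
        rw [Nat.card_congr (Subgroup.subgroupOfEquivOfLe (Subgroup.zpowers_le.mpr hz)).toEquiv,
          Nat.card_zpowers, hz4, T.hS, hk2] at h
        omega
      haveI := Subgroup.normal_of_index_eq_two hidx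
      refine Subgroup.eq_of_le_of_card_ge ?_ ?_
      · rintro _ ⟨w, hw, rfl⟩
        have hwS : w ∈ (S : Subgroup SL2) := (Subgroup.zpowers_le.mpr hz) hw
        exact Subgroup.Normal.conj_mem
          (inferInstance : ((Subgroup.zpowers z).subgroupOf (S : Subgroup SL2)).Normal)
          ⟨w, hwS⟩ hw ⟨g.1, hg⟩
      · exact le_of_eq (Nat.card_congr ((Subgroup.zpowers z).equivMapOfInjective _
          (MulAut.conj g.1).injective).toEquiv)
  haveI : Finite X := Subtype.finite
  have hd6 : ((S : Subgroup SL2).subgroupOf N).index ∣ 6 := by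
    rw [← hker, Subgroup.index_ker]
    refine (Subgroup.card_subgroup_dvd_card ρ.range).trans ?_
    rw [Nat.card_perm]
    exact Nat.factorial_dvd_factorial (T.card_cyc4 hodd hk2)
  have hcard : Nat.card N = ((S : Subgroup SL2).subgroupOf N).index * Nat.card S := by
    rw [← ((S : Subgroup SL2).subgroupOf N).card_mul_index,
      Nat.card_congr (Subgroup.subgroupOfEquivOfLe (Subgroup.le_normalizer)).toEquiv, mul_comm]
  have hodd' : ¬ 2 ∣ ((S : Subgroup SL2).subgroupOf N).index := fun h =>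
    S.not_dvd_index (h.trans (Dvd.intro N.index
      (Subgroup.relIndex_mul_index (Subgroup.le_normalizer : (S : Subgroup SL2) ≤ N))))
  have hne : ((S : Subgroup SL2).subgroupOf N).index ≠ 1 := by
    rw [Ne, Subgroup.index_eq_one]
    intro htop
    have hyord := (T.sq_outside hodd hy hyA).1
    have ht0 : ∀ w : SL2, w * w = -1 → w.1.trace = 0 := by
      intro w hw
      have e := SL2Orders.sq_eq w
      have hw' : w.1 * w.1 = -1 := congrArg Subtype.val hw
      rw [hw'] at e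
      by_contra h0
      have e' : w.1.trace • w.1 = (0 : Matrix (Fin 2) (Fin 2) F) := by
        have := congrArg (· + 1) e
        simpa using this.symm
      have hw0 := (smul_eq_zero.mp e').resolve_left h0
      rw [hw0] at hw'
      simp at hw'
    have hx2 : T.x * T.x = -1 := by
      rcases SL2Orders.eq_one_or_neg_one_of_sq h2 (T.x * T.x) (by
        rw [show T.x * T.x * (T.x * T.x) = T.x ^ orderOf T.x by rw [hx4]; simp [pow_succ, mul_assoc],
          pow_orderOf_eq_one]) with h | h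
      · have := orderOf_dvd_of_pow_eq_one (show T.x ^ 2 = 1 by rw [sq, h]); rw [hx4] at this; omega
      · exact h
    obtain ⟨g, hg⟩ := isConj_iff.mp (PSL2Product.isConj_of_trace T.hx
      ((ht0 y hyord).trans (ht0 T.x hx2).symm))
    have hty : y.1.trace ^ 2 ≠ 4 := by rw [← hg, trace_conj']; exact T.hx
    set N' := Subgroup.normalizer (Subgroup.centralizer ({y} : Set SL2) : Set SL2)
    have hSN' : (S : Subgroup SL2) ≤ N' := by
      intro s hs
      refine mem_normalizer_centralizer ?_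
      have key : ∀ w ∈ (S : Subgroup SL2), w * y * w⁻¹ ∈ Subgroup.zpowers y := by
        intro w hw
        have hidx : ((Subgroup.zpowers y).subgroupOf (S : Subgroup SL2)).index = 2 := by
          have h := ((Subgroup.zpowers y).subgroupOf (S : Subgroup SL2)).card_mul_index
          rw [Nat.card_congr (Subgroup.subgroupOfEquivOfLe (Subgroup.zpowers_le.mpr hy)).toEquiv,
            Nat.card_zpowers, (T.sq_outside hodd hy hyA).2, T.hS, hk2] at h
          omega
        haveI := Subgroup.normal_of_index_eq_two hidx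
        exact Subgroup.Normal.conj_mem
          (inferInstance : ((Subgroup.zpowers y).subgroupOf (S : Subgroup SL2)).Normal)
          ⟨y, hy⟩ (Subgroup.mem_zpowers y) ⟨w, hw⟩
      exact conj_mem_cases h2 hty
        ((Subgroup.zpowers_le.mpr (mem_centralizer.mpr (Commute.refl y))) (key s hs))
    have hgSN' : ((g • S : Sylow 2 SL2) : Subgroup SL2) ≤ N' := by
      intro v hv
      rw [Sylow.coe_subgroup_smul, Subgroup.mem_pointwise_smul_iff_inv_smul_mem] at hv
      have hv' : g⁻¹ * v * g ∈ (S : Subgroup SL2) := by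
        simpa [MulAut.smul_def, MulAut.conj_apply] using hv
      refine mem_normalizer_centralizer ?_
      by_cases hvA : g⁻¹ * v * g ∈ Subgroup.centralizer ({T.x} : Set SL2)
      · left
        rw [← hg]
        have hc : g⁻¹ * v * g * T.x = T.x * (g⁻¹ * v * g) := (mem_centralizer.mp hvA).eq
        calc v * (g * T.x * g⁻¹) * v⁻¹ = g * (g⁻¹ * v * g * T.x) * (g⁻¹ * v⁻¹) := by group
          _ = g * (T.x * (g⁻¹ * v * g)) * (g⁻¹ * v⁻¹) := by rw [hc]
          _ = g * T.x * g⁻¹ := by group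
      · right
        rw [← hg, show (g * T.x * g⁻¹)⁻¹ = g * T.x⁻¹ * g⁻¹ by group, ← T.inv_x h2 hv' hvA]
        group
    obtain ⟨a, ha⟩ := MulAction.exists_smul_eq N' ((g • S).subtype hgSN') (S.subtype hSN')
    have hmap : ∀ w ∈ (S : Subgroup SL2), (a : SL2) * (g * w * g⁻¹) * (a : SL2)⁻¹ ∈ (S : Subgroup SL2) := by
      intro w hw
      have hgw : g * w * g⁻¹ ∈ ((g • S : Sylow 2 SL2) : Subgroup SL2) := by
        rw [Sylow.coe_subgroup_smul, Subgroup.mem_pointwise_smul_iff_inv_smul_mem]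
        simpa [MulAut.smul_def, MulAut.conj_apply, mul_assoc] using hw
      have hmem : MulAut.conj a (⟨g * w * g⁻¹, hgSN' hgw⟩ : N') ∈
          ((S.subtype hSN' : Sylow 2 N') : Subgroup N') := by
        rw [← ha, Sylow.coe_subgroup_smul]
        exact Subgroup.smul_mem_pointwise_smul _ _ _ hgw
      exact hmem
    have hag : (a : SL2) * g ∈ N := by
      rw [hN]
      refine Subgroup.mem_normalizer_fintype fun w hw => ?_
      have := hmap w hw
      show (a : SL2) * g * w * ((a : SL2) * g)⁻¹ ∈ (S : Subgroup SL2)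
      rw [_root_.mul_inv_rev]
      simpa [mul_assoc] using this
    have hagS : (a : SL2) * g ∈ (S : Subgroup SL2) := by
      have h := Subgroup.mem_subgroupOf.mp (htop ▸ Subgroup.mem_top (⟨_, hag⟩ : N) :
        (⟨_, hag⟩ : N) ∈ (S : Subgroup SL2).subgroupOf N)
      exact h
    have e1 : (a : SL2) * g * T.x * ((a : SL2) * g)⁻¹ = (a : SL2) * y * (a : SL2)⁻¹ := by
      rw [← hg]; group
    have hay : (a : SL2) * y * (a : SL2)⁻¹ = y ∨ (a : SL2) * y * (a : SL2)⁻¹ = y⁻¹ :=
      conj_mem_cases h2 hty ((Subgroup.mem_normalizer_iff.mp a.2 y).mp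
        (mem_centralizer.mpr (Commute.refl y)))
    have hsx : (a : SL2) * y * (a : SL2)⁻¹ ∈ Subgroup.centralizer ({T.x} : Set SL2) := by
      rw [← e1]
      by_cases h : (a : SL2) * g ∈ Subgroup.centralizer ({T.x} : Set SL2)
      · rw [(mem_centralizer.mp h).eq, mul_inv_cancel_right]; exact T.x_mem_A
      · rw [T.inv_x h2 hagS h]; exact inv_mem T.x_mem_A
    rcases hay with h | h <;> rw [h] at hsx
    · exact hyA hsx
    · exact hyA (by simpa using inv_mem hsx)
  rw [hcard]
  set d := ((S : Subgroup SL2).subgroupOf N).index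
  have hd : d ≤ 6 := Nat.le_of_dvd (by norm_num) hd6
  congr 1
  interval_cases d <;> omega

end CfsgLib.SL2Tori
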