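import Cfsg.Agent.Lib.SL2Char.Series
import Cfsg.Agent.Lib.NonSplitTorus

/-!
The two families of irreducible characters of `SL₂(q)`, their number, and their contribution to
the orthogonality relations.
-/

set_option autoImplicit false

namespace CfsgLib.SL2Char

open Matrix Cfsg CfsgLib.CharTheory
open scoped ComplexConjugate Classical

section General

variable {G : Type*} [Group G] [Fintype G]

/-- A finite set of irreducible characters whose squared degrees add up to the order is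
complete. -/
theorem mem_of_sum_sq (L : Finset (G → ℂ)) (hL : ∀ f ∈ L, IsIrrCharacter G f)
    (hsum : ∑ f ∈ L, f 1 ^ 2 = (Nat.card G : ℂ)) {χ : G → ℂ} (hχ : IsIrrCharacter G χ) : χ ∈ L := by
  classical
  set S : Finset (IrrCharacter G) := Finset.univ.filter fun ψ => (ψ : G → ℂ) ∈ L with hS
  have hSL : ∑ ψ ∈ S, (ψ : G → ℂ) 1 ^ 2 = ∑ f ∈ L, f 1 ^ 2 := by
    refine Finset.sum_bij (fun ψ _ => (ψ : G → ℂ)) (fun ψ hψ => (Finset.mem_filter.mp hψ).2)
      (fun _ _ _ _ h => Subtype.ext h)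
      (fun f hf => ⟨⟨f, hL f hf⟩, Finset.mem_filter.mpr ⟨Finset.mem_univ _, hf⟩, rfl⟩) (fun _ _ => rfl)
  by_contra hnot
  have h0 := sum_irr_degree_sq (G := G)
  rw [← Finset.sum_filter_add_sum_filter_not Finset.univ (fun ψ : IrrCharacter G => (ψ : G → ℂ) ∈ L),
    ← hS, hSL, hsum, add_eq_left] at h0
  have hre := congrArg Complex.re h0
  rw [Complex.re_sum, Complex.zero_re] at hre
  have hd : ∀ ψ : IrrCharacter G, 0 < ((ψ : G → ℂ) 1 ^ 2).re := by
    intro ψ
    obtain ⟨d, hd, e⟩ := irr_degree_pos ψ.2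
    rw [e, ← Nat.cast_pow, Complex.natCast_re]
    exact_mod_cast pow_pos hd 2
  have hmem : (⟨χ, hχ⟩ : IrrCharacter G) ∈
      Finset.univ.filter fun ψ : IrrCharacter G => ¬ (ψ : G → ℂ) ∈ L :=
    Finset.mem_filter.mpr ⟨Finset.mem_univ _, hnot⟩
  exact (Finset.sum_pos (fun ψ _ => hd ψ) ⟨_, hmem⟩).ne' hre

/-- The irreducible characters as such a set. -/
theorem sum_irr_eq (L : Finset (G → ℂ)) (hL : ∀ f ∈ L, IsIrrCharacter G f)
    (hall : ∀ χ : G → ℂ, IsIrrCharacter G χ → χ ∈ L) (w : (G → ℂ) → ℂ) :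
    ∑ ψ : IrrCharacter G, w (ψ : G → ℂ) = ∑ f ∈ L, w f :=
  Finset.sum_bij (fun ψ _ => (ψ : G → ℂ)) (fun ψ _ => hall _ ψ.2) (fun _ _ _ _ h => Subtype.ext h)
    (fun f hf => ⟨⟨f, hL f hf⟩, Finset.mem_univ _, rfl⟩) (fun _ _ => rfl)

theorem card_irr_filter (L : Finset (G → ℂ)) (hL : ∀ f ∈ L, IsIrrCharacter G f)
    (hall : ∀ χ : G → ℂ, IsIrrCharacter G χ → χ ∈ L) (P : (G → ℂ) → Prop) :
    Nat.card {χ : IrrCharacter G // P (χ : G → ℂ)} = (L.filter P).card := by
  rw [← Nat.card_eq_finsetCard]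
  exact Nat.card_congr
    { toFun := fun χ => ⟨χ.1.1, Finset.mem_filter.mpr ⟨hall _ χ.1.2, χ.2⟩⟩
      invFun := fun f => ⟨⟨f.1, hL _ (Finset.mem_filter.mp f.2).1⟩, (Finset.mem_filter.mp f.2).2⟩
      left_inv := fun χ => rfl
      right_inv := fun f => rfl }

/-- A virtual character of norm two. -/
theorem exists_pair_of_norm_two {θ : G → ℂ} (h : IsGeneralizedCharacter G θ)
    (h2 : classInner θ θ = 2) :
    ∃ (χ₁ χ₂ : G → ℂ) (e₁ e₂ : ℤ), IsIrrCharacter G χ₁ ∧ IsIrrCharacter G χ₂ ∧ χ₁ ≠ χ₂ ∧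
      e₁ ^ 2 = 1 ∧ e₂ ^ 2 = 1 ∧ θ = (e₁ : ℂ) • χ₁ + (e₂ : ℂ) • χ₂ ∧
      classInner θ χ₁ = e₁ ∧ classInner θ χ₂ = e₂ := by
  classical
  obtain ⟨c, hθ, hc, hsq⟩ := classInner_self_eq_sum_sq h
  rw [h2] at hsq
  have hs : ∑ ψ : IrrCharacter G, c ψ ^ 2 = 2 := by exact_mod_cast hsq.symm
  set S := Finset.univ.filter fun ψ => c ψ ≠ 0 with hS
  have hSsum : ∑ ψ ∈ S, c ψ ^ 2 = 2 := by
    refine (Finset.sum_subset (Finset.subset_univ S) fun ψ _ hψ => ?_).trans hs
    have h0 : c ψ = 0 := by simpa [hS] using hψ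
    rw [h0]; norm_num
  have hle : ∀ ψ ∈ S, 1 ≤ c ψ ^ 2 := fun ψ hψ => by
    have hne := (Finset.mem_filter.mp hψ).2
    have : 0 < c ψ ^ 2 := lt_of_le_of_ne (sq_nonneg _) (Ne.symm (pow_ne_zero 2 hne))
    omega
  have hcard : S.card = 2 := by
    have h1 : (S.card : ℤ) ≤ 2 := by
      rw [← hSsum]
      calc (S.card : ℤ) = ∑ ψ ∈ S, (1 : ℤ) := by simp
        _ ≤ _ := Finset.sum_le_sum hle
    rcases Nat.lt_or_ge S.card 2 with hlt | hge
    · exfalso
      rcases Nat.lt_or_ge S.card 1 with h0 | h0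
      · rw [Finset.card_eq_zero.mp (by omega : S.card = 0), Finset.sum_empty] at hSsum
        norm_num at hSsum
      · obtain ⟨i, hi⟩ := Finset.card_eq_one.mp (by omega : S.card = 1)
        rw [hi, Finset.sum_singleton] at hSsum
        have hb : -1 ≤ c i ∧ c i ≤ 1 := by constructor <;> nlinarith
        rcases hb with ⟨hb1, hb2⟩
        interval_cases (c i) <;> norm_num at hSsum
    · omega
  obtain ⟨i, j, hij, hS2⟩ := Finset.card_eq_two.mp hcard
  rw [hS2, Finset.sum_pair hij] at hSsum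
  have hi := hle i (by rw [hS2]; simp)
  have hj := hle j (by rw [hS2]; simp)
  refine ⟨i, j, c i, c j, i.2, j.2, fun e => hij (Subtype.ext e), by omega, by omega, ?_, hc i, hc j⟩
  rw [hθ, ← Finset.sum_subset (Finset.subset_univ S) (fun ψ _ hψ => ?_), hS2, Finset.sum_pair hij]
  have h0 : c ψ = 0 := by simpa [hS] using hψ
  rw [h0]; simp

/-- Multiplication by a central element on which the character has maximal absolute value. -/
theorem char_central_mul {χ : G → ℂ} (hχ : IsIrrCharacter G χ) {z : G} {s : ℂ} (hs : ‖s‖ = 1)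
    (hz : χ z = s * χ 1) (g : G) : χ (z * g) = s * χ g := by
  obtain ⟨n, ρ, hρ, rfl⟩ := hχ
  have hn : ‖ρ.character z‖ = (Module.finrank ℂ (Fin n → ℂ) : ℝ) := by
    rw [hz, norm_mul, hs, one_mul, ρ.char_one, Complex.norm_natCast]
  obtain ⟨ω, hω⟩ := eq_smul_id_of_norm_character_eq ρ z hn
  have hw : ∀ k : G, ρ.character (z * k) = ω * ρ.character k := by
    intro k
    simp only [Representation.character, map_mul, hω]
    rw [show (ω • LinearMap.id : (Fin n → ℂ) →ₗ[ℂ] (Fin n → ℂ)) * ρ k = ω • ρ k from by ext v; simp,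
      map_smul, smul_eq_mul]
  rw [hw g]
  have h1 : ρ.character 1 ≠ 0 := irr_ne_zero ⟨n, ρ, hρ, rfl⟩
  have h2 := hw 1
  rw [mul_one, hz] at h2
  rw [mul_right_cancel₀ h1 h2]

theorem exists_shift_sum_zero {ι : Type*} [Fintype ι] [Group ι] (v : ι → ℂ) (i : ι)
    (hmul : ∀ j, v (i * j) = v i * v j) (hi : v i ≠ 1) : ∑ j, v j = 0 := by
  refine eq_zero_of_mul_eq_self_left hi ?_
  rw [Finset.mul_sum]
  exact Fintype.sum_equiv (Equiv.mulLeft i) _ _ fun j => (hmul j).symm

theorem card_sq_eq_one_congr {A B : Type*} [Group A] [Group B] [Fintype A] [Fintype B]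
    (e : A ≃* B) :
    (Finset.univ.filter fun a : A => a ^ 2 = 1).card = (Finset.univ.filter fun b : B => b ^ 2 = 1).card := by
  refine Finset.card_equiv e.toEquiv fun a => ?_
  simp only [Finset.mem_filter, Finset.mem_univ, true_and]
  constructor
  · intro h; show e a ^ 2 = 1; rw [← map_pow, h, map_one]
  · intro h; apply e.injective; rw [map_pow, map_one]; exact h

end General

variable {F : Type*} [Field F] [Fintype F] [DecidableEq F]

local notation "SL2" => Matrix.SpecialLinearGroup (Fin 2) F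
local notation "qC" => (Fintype.card F : ℂ)

noncomputable instance mulCharFintype : Fintype (MulChar F ℂ) := Fintype.ofFinite _

theorem sum_mulChar_apply {a : Fˣ} (ha : a ≠ 1) : ∑ α : MulChar F ℂ, α (a : F) = 0 := by
  obtain ⟨χ, hχ⟩ := MulChar.exists_apply_ne_one_of_hasEnoughRootsOfUnity F ℂ
    (a := (a : F)) (fun h => ha (Units.ext h))
  exact exists_shift_sum_zero (fun α : MulChar F ℂ => α (a : F)) χ (fun j => MulChar.mul_apply _ _ _) hχ

/-- Characters `α` with `α² = 1`. -/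
noncomputable def quadSet (F : Type*) [Field F] [Fintype F] : Finset (MulChar F ℂ) :=
  Finset.univ.filter fun α => α ^ 2 = 1

theorem mem_quadSet {α : MulChar F ℂ} : α ∈ quadSet F ↔ α ^ 2 = 1 := by simp [quadSet]

theorem card_quadSet : (quadSet F).card = (scal F).card := by
  obtain ⟨e⟩ := MulChar.mulEquiv_units F ℂ
  rw [quadSet, scal]
  convert card_sq_eq_one_congr e

theorem card_mulChar : Fintype.card (MulChar F ℂ) = Fintype.card F - 1 := by
  rw [← Nat.card_eq_fintype_card, MulChar.card_eq_card_units_of_hasEnoughRootsOfUnity, Nat.card_units,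
    Nat.card_eq_fintype_card]

/-- Irreducible principal series. -/
noncomputable def psImg (F : Type*) [Field F] [Fintype F] [DecidableEq F] :
    Finset (Matrix.SpecialLinearGroup (Fin 2) F → ℂ) :=
  (Finset.univ \ quadSet F).image ps

theorem mem_psDom {α : MulChar F ℂ} : α ∈ Finset.univ \ quadSet F ↔ α ^ 2 ≠ 1 := by
  simp [mem_quadSet]

theorem ne_inv_of_sq {α : MulChar F ℂ} (h : α ^ 2 ≠ 1) : α ≠ α⁻¹ := fun e =>
  h (by rw [sq]; exact mul_eq_one_iff_eq_inv.mpr e)

theorem classInner_ps_self {α : MulChar F ℂ} (h : α ^ 2 ≠ 1) : classInner (ps α) (ps α) = 1 := by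
  rw [classInner_ps_ps, if_pos rfl, if_neg (ne_inv_of_sq h), add_zero]

theorem classInner_ps_self_quad {α : MulChar F ℂ} (h : α ^ 2 = 1) :
    classInner (ps α) (ps α) = 2 := by
  rw [classInner_ps_ps, if_pos rfl, if_pos (by rw [sq] at h; exact mul_eq_one_iff_eq_inv.mp h)]
  norm_num

theorem isIrr_ps {α : MulChar F ℂ} (h : α ^ 2 ≠ 1) : IsIrrCharacter SL2 (ps α) :=
  irr_of_char_norm_one (isCharacter_ps α) (classInner_ps_self h)

theorem ps_inv (α : MulChar F ℂ) : ps α⁻¹ = ps α := by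
  refine classFun_ext (ps_classFun _) (ps_classFun _) fun ψ hψ => ?_
  have key : ∀ β : MulChar F ℂ, ∀ g : SL2, ps β⁻¹ g = ps β g := by
    intro β g
    rcases elem_cases g with hg | ⟨a, x, hg⟩
    · rw [ps_ell _ hg, ps_ell _ hg]
    · rw [cl_eq (ps_classFun _) hg, cl_eq (ps_classFun β) hg]
      by_cases ha : a ^ 2 = 1
      · have hb : β⁻¹ (a : F) = β (a : F) := by rw [mulChar_inv_unit, inv_eq_self ha]
        by_cases hx : x = 0
        · subst hx; rw [ps_bor_scalar _ ha, ps_bor_scalar _ ha, hb]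
        · rw [ps_bor_unip _ ha hx, ps_bor_unip _ ha hx, hb]
      · rw [ps_bor_ne _ ha, ps_bor_ne _ ha, mulChar_inv_unit, mulChar_inv_unit, inv_inv, add_comm]
  rw [funext (key α)]

theorem ps_eq_iff {α β : MulChar F ℂ} (h : α ^ 2 ≠ 1) : ps α = ps β ↔ β = α ∨ β = α⁻¹ := by
  constructor
  · intro e
    by_contra hne
    push Not at hne
    have h1 := classInner_ps_self h
    nth_rw 2 [e] at h1
    rw [classInner_ps_ps, if_neg (Ne.symm hne.1), if_neg (fun e' => hne.2 (by rw [e', inv_inv]))] at h1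
    norm_num at h1
  · rintro (rfl | rfl)
    · rfl
    · rw [ps_inv]

theorem two_card_psImg : 2 * (psImg F).card + (scal F).card = Fintype.card F - 1 := by
  rw [psImg, two_mul_card_image _ _ (fun α => α⁻¹)]
  · rw [Finset.filter_eq_empty_iff.mpr fun α hα => (ne_inv_of_sq (mem_psDom.mp hα)).symm,
      Finset.card_empty, add_zero, Finset.card_sdiff_of_subset (Finset.subset_univ _), Finset.card_univ,
      card_mulChar, card_quadSet]
    have := Finset.card_le_univ (quadSet F)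
    rw [card_mulChar, card_quadSet] at this
    omega
  · intro α hα
    rw [mem_psDom] at hα ⊢
    rwa [inv_pow, ne_eq, inv_eq_one]
  · intro α hα β _
    exact ps_eq_iff (mem_psDom.mp hα)

theorem two_sum_psImg (w : (SL2 → ℂ) → ℂ) :
    2 * ∑ f ∈ psImg F, w f + ∑ α ∈ quadSet F, w (ps α) = ∑ α : MulChar F ℂ, w (ps α) := by
  rw [psImg, two_mul_sum_image _ _ (fun α => α⁻¹), Finset.sum_sdiff (Finset.subset_univ _)]
  · intro α hα
    rw [mem_psDom] at hα ⊢
    rwa [inv_pow, ne_eq, inv_eq_one]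
  · exact fun α hα => (ne_inv_of_sq (mem_psDom.mp hα)).symm
  · intro α hα β _
    exact ps_eq_iff (mem_psDom.mp hα)

section Torus

variable (C : Subgroup (Matrix.SpecialLinearGroup (Fin 2) F))
variable (hC : IsCyclic C) (hcard : Nat.card C = Fintype.card F + 1)

include hC in
theorem finite_torus_dual : Nonempty ((C →* ℂˣ) ≃* C) :=
  letI := hC.commGroup
  CommGroup.monoidHom_mulEquiv_of_hasEnoughRootsOfUnity C ℂ

noncomputable instance torusDualFintype : Fintype (C →* ℂˣ) :=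
  @Fintype.ofFinite _ (Finite.of_injective (fun φ : C →* ℂˣ => fun c : C =>
    (⟨((φ c : ℂˣ) : ℂ), by
      rw [Polynomial.mem_nthRootsFinset (Nat.card_pos (α := C)), ← Units.val_pow_eq_pow_val, ← map_pow,
        pow_card_eq_one', map_one, Units.val_one]⟩ : Polynomial.nthRootsFinset (Nat.card C) (1 : ℂ)))
    (fun φ ψ h => MonoidHom.ext fun c => Units.ext (congrArg Subtype.val (congrFun h c))))

include hC hcard in
theorem card_torusDual : Fintype.card (C →* ℂˣ) = Fintype.card F + 1 := by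
  obtain ⟨e⟩ := finite_torus_dual C hC
  rw [← Nat.card_eq_fintype_card, Nat.card_congr e.toEquiv, hcard]

/-- Characters `θ` with `θ² = 1`. -/
noncomputable def quadTorus : Finset (C →* ℂˣ) := Finset.univ.filter fun θ => θ ^ 2 = 1

theorem mem_quadTorus {θ : C →* ℂˣ} : θ ∈ quadTorus C ↔ θ ^ 2 = 1 := by simp [quadTorus]

include hC hcard in
theorem card_quadTorus : (quadTorus C).card = (scal F).card := by
  obtain ⟨e⟩ := finite_torus_dual C hC
  refine Eq.trans (b := (Finset.univ.filter fun c : C => c ^ 2 = 1).card) ?_ ?_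
  · rw [quadTorus]
    convert card_sq_eq_one_congr (A := C →* ℂˣ) (B := C) e
  refine (Finset.card_bij (fun a ha => (⟨bor a 0, bor_scalar_mem C hC hcard a (mem_scal.mp ha)⟩ : C))
    (fun a ha => Finset.mem_filter.mpr ⟨Finset.mem_univ _, ?_⟩)
    (fun a _ b _ h => (bor_injective (congrArg Subtype.val h)).1) (fun c hc => ?_)).symm
  · apply Subtype.ext
    show bor a 0 ^ 2 = 1
    rw [sq, bor_mul, ← sq, mem_scal.mp ha]; simp [bor_one]
  · have hc2 : c ^ 2 = 1 := (Finset.mem_filter.mp hc).2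
    rcases torus_cases C hcard c.2 with he | ⟨a, ha, hca⟩
    · refine absurd ?_ (ell_ne_inv he)
      have h2 : (c : SL2) * c = 1 := by rw [← Subgroup.coe_mul, ← sq, hc2, Subgroup.coe_one]
      exact inv_eq_of_mul_eq_one_right h2
    · exact ⟨a, mem_scal.mpr ha, Subtype.ext hca.symm⟩

include hC in
theorem sum_torusDual_apply {c : C} (hc : c ≠ 1) : ∑ φ : C →* ℂˣ, ((φ c : ℂˣ) : ℂ) = 0 := by
  letI := hC.commGroup
  obtain ⟨φ, hφ⟩ := CommGroup.exists_apply_ne_one_of_hasEnoughRootsOfUnity C ℂ hc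
  exact exists_shift_sum_zero (fun ψ : C →* ℂˣ => ((ψ c : ℂˣ) : ℂ)) φ
    (fun j => by simp [MonoidHom.mul_apply]) (fun h => hφ (Units.ext h))

/-- A character of `F` agreeing with `θ` on the scalars. -/
noncomputable def compatChar (θ : C →* ℂˣ) : MulChar F ℂ := Classical.epsilon (Compat C θ)

include hC hcard in
theorem compatChar_spec (θ : C →* ℂˣ) : Compat C θ (compatChar C θ) :=
  Classical.epsilon_spec (exists_compat C θ hC hcard)

/-- The discrete series function of `θ`. -/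
noncomputable def ds (θ : C →* ℂˣ) : SL2 → ℂ := dsA C θ (compatChar C θ)

theorem ds_classFun (θ : C →* ℂˣ) : IsClassFunction SL2 (ds C θ) := dsA_classFun C θ _

theorem isGenChar_ds (θ : C →* ℂˣ) : IsGeneralizedCharacter SL2 (ds C θ) := isGenChar_dsA C θ _

include hC hcard in
theorem ds_one (θ : C →* ℂˣ) : ds C θ 1 = qC - 1 :=
  dsA_one C θ hC hcard _ (compatChar_spec C hC hcard θ)

include hcard in
theorem ds_bor_ne (θ : C →* ℂˣ) {a : Fˣ} (ha : a ^ 2 ≠ 1) (x : F) : ds C θ (bor a x) = 0 :=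
  dsA_bor_ne C θ hcard _ ha x

include hC hcard in
theorem ds_bor_unip (θ : C →* ℂˣ) {e : Fˣ} (he : e ^ 2 = 1) {x : F} (hx : x ≠ 0) :
    ds C θ (bor e x) = -((θ ⟨bor e 0, bor_scalar_mem C hC hcard e he⟩ : ℂˣ) : ℂ) := by
  rw [ds, dsA_bor_unip C θ hcard _ he hx, compatChar_spec C hC hcard θ e he _]

include hC hcard in
theorem ds_bor_scalar (θ : C →* ℂˣ) {e : Fˣ} (he : e ^ 2 = 1) :
    ds C θ (bor e 0) = (qC - 1) * ((θ ⟨bor e 0, bor_scalar_mem C hC hcard e he⟩ : ℂˣ) : ℂ) := by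
  rw [ds, dsA_bor_scalar C θ hC hcard _ (compatChar_spec C hC hcard θ) he,
    compatChar_spec C hC hcard θ e he _]

include hC hcard in
theorem ds_ell (θ : C →* ℂˣ) (c : C) (hc : Ell (c : SL2)) :
    ds C θ c = -(((θ c : ℂˣ) : ℂ) + ((θ c⁻¹ : ℂˣ) : ℂ)) :=
  dsA_ell C θ hC hcard _ c hc

include hC hcard in
theorem classInner_ds (θ θ' : C →* ℂˣ) :
    classInner (ds C θ) (ds C θ') = (if θ = θ' then 1 else 0) + (if θ = θ'⁻¹ then 1 else 0) :=
  classInner_dsA_dsA C θ hC hcard _ (compatChar_spec C hC hcard θ) θ' _ (compatChar_spec C hC hcard θ')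

include hC hcard in
theorem classInner_ps_ds (α : MulChar F ℂ) (θ : C →* ℂˣ) : classInner (ps α) (ds C θ) = 0 :=
  classInner_ps_dsA C θ hC hcard _ (compatChar_spec C hC hcard θ) α

theorem hom_ne_inv {θ : C →* ℂˣ} (h : θ ^ 2 ≠ 1) : θ ≠ θ⁻¹ := fun e => h (by
  refine MonoidHom.ext fun c => ?_
  have hc : θ c = (θ c)⁻¹ := by
    conv_lhs => rw [e]
    rfl
  show (θ c) ^ 2 = 1
  rw [sq]; exact mul_eq_one_iff_eq_inv.mpr hc)

theorem hom_eq_inv {θ : C →* ℂˣ} (h : θ ^ 2 = 1) : θ = θ⁻¹ := by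
  refine MonoidHom.ext fun c => ?_
  have hc : (θ c) ^ 2 = 1 := DFunLike.congr_fun h c
  show θ c = (θ c)⁻¹
  exact mul_eq_one_iff_eq_inv.mp (by rwa [← sq])

theorem sq_ne_one_inv {θ : C →* ℂˣ} (h : θ ^ 2 ≠ 1) : θ⁻¹ ^ 2 ≠ 1 := fun e => h (by
  refine MonoidHom.ext fun c => ?_
  have hc : ((θ c)⁻¹) ^ 2 = 1 := DFunLike.congr_fun e c
  rw [inv_pow, inv_eq_one] at hc
  exact hc)

include hC hcard in
theorem isIrr_ds {θ : C →* ℂˣ} (h : θ ^ 2 ≠ 1) : IsIrrCharacter SL2 (ds C θ) := by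
  refine irr_of_norm_one (isGenChar_ds C θ)
    (by rw [classInner_ds C hC hcard, if_pos rfl, if_neg (hom_ne_inv C h), add_zero]) ?_
  rw [ds_one C hC hcard, Complex.sub_re, Complex.natCast_re, Complex.one_re]
  have : (1 : ℝ) < (Fintype.card F : ℝ) := by exact_mod_cast Fintype.one_lt_card
  linarith

include hC hcard in
theorem ds_inv (θ : C →* ℂˣ) : ds C θ⁻¹ = ds C θ := by
  funext g
  rcases elem_cases g with hg | ⟨a, x, hg⟩
  · obtain ⟨c, hc, hce, hconj⟩ := exists_conj_mem C hC hcard hg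
    rw [cl_eq (ds_classFun C _) hconj, cl_eq (ds_classFun C θ) hconj,
      ds_ell C hC hcard _ ⟨c, hc⟩ hce, ds_ell C hC hcard θ ⟨c, hc⟩ hce]
    simp only [MonoidHom.inv_apply, map_inv, inv_inv]
    rw [add_comm]
  · rw [cl_eq (ds_classFun C _) hg, cl_eq (ds_classFun C θ) hg]
    by_cases ha : a ^ 2 = 1
    · have hb : θ⁻¹ ⟨bor a 0, bor_scalar_mem C hC hcard a ha⟩ = θ ⟨bor a 0, bor_scalar_mem C hC hcard a ha⟩ := by
        rw [MonoidHom.inv_apply, ← map_inv]
        congr 1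
        refine inv_eq_of_mul_eq_one_right (Subtype.ext ?_)
        show bor a 0 * bor a 0 = 1
        rw [bor_mul, ← sq, ha]; simp [bor_one]
      by_cases hx : x = 0
      · subst hx; rw [ds_bor_scalar C hC hcard _ ha, ds_bor_scalar C hC hcard _ ha, hb]
      · rw [ds_bor_unip C hC hcard _ ha hx, ds_bor_unip C hC hcard _ ha hx, hb]
    · rw [ds_bor_ne C hcard _ ha, ds_bor_ne C hcard _ ha]

include hC hcard in
theorem ds_eq_iff {θ θ' : C →* ℂˣ} (h : θ ^ 2 ≠ 1) : ds C θ = ds C θ' ↔ θ' = θ ∨ θ' = θ⁻¹ := by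
  constructor
  · intro e
    by_contra hne
    push Not at hne
    have h1 : classInner (ds C θ) (ds C θ) = 1 := by
      rw [classInner_ds C hC hcard, if_pos rfl, if_neg (hom_ne_inv C h), add_zero]
    nth_rw 2 [e] at h1
    rw [classInner_ds C hC hcard, if_neg (Ne.symm hne.1), if_neg (fun e' => hne.2 ?_)] at h1
    · norm_num at h1
    · rw [e']
      exact MonoidHom.ext fun c => (inv_inv (θ' c)).symm
  · rintro (rfl | rfl)
    · rfl
    · rw [ds_inv C hC hcard]

/-- Irreducible discrete series. -/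
noncomputable def dsImg : Finset (SL2 → ℂ) := (Finset.univ \ quadTorus C).image (ds C)

theorem mem_dsDom {θ : C →* ℂˣ} : θ ∈ Finset.univ \ quadTorus C ↔ θ ^ 2 ≠ 1 := by
  simp [mem_quadTorus]

include hC hcard in
theorem two_card_dsImg : 2 * (dsImg C).card + (scal F).card = Fintype.card F + 1 := by
  rw [dsImg, two_mul_card_image _ _ (fun θ => θ⁻¹)]
  · rw [Finset.filter_eq_empty_iff.mpr fun θ hθ => (hom_ne_inv C ((mem_dsDom C).mp hθ)).symm,
      Finset.card_empty, add_zero, Finset.card_sdiff_of_subset (Finset.subset_univ _), Finset.card_univ,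
      card_torusDual C hC hcard, card_quadTorus C hC hcard]
    have := Finset.card_le_univ (quadTorus C)
    rw [card_torusDual C hC hcard, card_quadTorus C hC hcard] at this
    omega
  · exact fun θ hθ => (mem_dsDom C).mpr (sq_ne_one_inv C ((mem_dsDom C).mp hθ))
  · intro θ hθ θ' _
    exact ds_eq_iff C hC hcard ((mem_dsDom C).mp hθ)

include hC hcard in
theorem two_sum_dsImg (w : (SL2 → ℂ) → ℂ) :
    2 * ∑ f ∈ dsImg C, w f + ∑ θ ∈ quadTorus C, w (ds C θ) = ∑ θ : C →* ℂˣ, w (ds C θ) := by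
  rw [dsImg, two_mul_sum_image _ _ (fun θ => θ⁻¹), Finset.sum_sdiff (Finset.subset_univ _)]
  · exact fun θ hθ => (mem_dsDom C).mpr (sq_ne_one_inv C ((mem_dsDom C).mp hθ))
  · exact fun θ hθ => (hom_ne_inv C ((mem_dsDom C).mp hθ)).symm
  · intro θ hθ θ' _
    exact ds_eq_iff C hC hcard ((mem_dsDom C).mp hθ)

/-- The characters common to both parities. -/
noncomputable def baseSet : Finset (SL2 → ℂ) :=
  ({(fun _ => 1), st} : Finset (SL2 → ℂ)) ∪ psImg F ∪ dsImg C

theorem mem_psImg {f : SL2 → ℂ} : f ∈ psImg F ↔ ∃ α : MulChar F ℂ, α ^ 2 ≠ 1 ∧ ps α = f := by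
  simp [psImg, mem_quadSet]

theorem mem_dsImg {f : SL2 → ℂ} : f ∈ dsImg C ↔ ∃ θ : C →* ℂˣ, θ ^ 2 ≠ 1 ∧ ds C θ = f := by
  simp [dsImg, mem_quadTorus]

theorem mem_baseSet {f : SL2 → ℂ} : f ∈ baseSet C ↔ f = (fun _ => 1) ∨ f = st ∨
    (∃ α : MulChar F ℂ, α ^ 2 ≠ 1 ∧ ps α = f) ∨ ∃ θ : C →* ℂˣ, θ ^ 2 ≠ 1 ∧ ds C θ = f := by
  simp only [baseSet, Finset.mem_union, Finset.mem_insert, Finset.mem_singleton, mem_psImg,
    mem_dsImg, or_assoc]

include hC hcard in
theorem isIrr_baseSet {f : SL2 → ℂ} (hf : f ∈ baseSet C) : IsIrrCharacter SL2 f := by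
  rcases (mem_baseSet C).mp hf with rfl | rfl | ⟨α, hα, rfl⟩ | ⟨θ, hθ, rfl⟩
  exacts [isIrrCharacter_one, isIrr_st, isIrr_ps hα, isIrr_ds C hC hcard hθ]

include hC hcard in
theorem sum_baseSet (w : (SL2 → ℂ) → ℂ) :
    ∑ f ∈ baseSet C, w f = w (fun _ => 1) + w st + ∑ f ∈ psImg F, w f + ∑ f ∈ dsImg C, w f := by
  have hne : (fun _ : SL2 => (1 : ℂ)) ≠ st := fun e => by
    have h := congrFun e 1
    rw [st_one] at h
    have h' : (1 : ℕ) = Fintype.card F := by exact_mod_cast h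
    have := Fintype.one_lt_card (α := F)
    omega
  have hdeg : ∀ f : SL2 → ℂ, f ∈ psImg F → f 1 = qC + 1 := by
    intro f hf
    obtain ⟨α, -, rfl⟩ := mem_psImg.mp hf
    exact ps_one α
  have hd1 : Disjoint ({(fun _ => 1), st} : Finset (SL2 → ℂ)) (psImg F) := by
    rw [Finset.disjoint_left]
    intro f hf hf'
    have h := hdeg f hf'
    rcases Finset.mem_insert.mp hf with rfl | hf
    · exact qC_ne (F := F) (by linear_combination -h)
    · rw [Finset.mem_singleton.mp hf, st_one] at h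
      norm_num at h
  have hd2 : Disjoint (({(fun _ => 1), st} : Finset (SL2 → ℂ)) ∪ psImg F) (dsImg C) := by
    rw [Finset.disjoint_left]
    intro f hf hf'
    obtain ⟨θ, hθ, rfl⟩ := (mem_dsImg C).mp hf'
    rcases Finset.mem_union.mp hf with hf | hf
    · rcases Finset.mem_insert.mp hf with h | h
      · have h0 := classInner_ps_ds C hC hcard 1 θ
        rw [h, classInner_ps_one, if_pos rfl] at h0
        exact one_ne_zero h0
      · have h' := congrFun (Finset.mem_singleton.mp h) 1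
        rw [ds_one C hC hcard, st_one] at h'
        norm_num at h'
    · have h' := hdeg _ hf
      rw [ds_one C hC hcard] at h'
      have := congrArg Complex.re h'
      simp at this
      linarith
  rw [baseSet, Finset.sum_union hd2, Finset.sum_union hd1, Finset.sum_pair hne]

include hC hcard in
theorem baseSet_degree_sq :
    2 * ∑ f ∈ baseSet C, f 1 ^ 2 = 2 * (Nat.card SL2 : ℂ) -
      ((scal F).card - 1 : ℂ) * ((qC + 1) ^ 2 + (qC - 1) ^ 2) := by
  have e1 : ∑ f ∈ psImg F, f 1 ^ 2 = ∑ f ∈ psImg F, (qC + 1) ^ 2 :=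
    Finset.sum_congr rfl fun f hf => by
      obtain ⟨α, -, rfl⟩ := mem_psImg.mp hf
      rw [ps_one α]
  have e2 : ∑ f ∈ dsImg C, f 1 ^ 2 = ∑ f ∈ dsImg C, (qC - 1) ^ 2 :=
    Finset.sum_congr rfl fun f hf => by
      obtain ⟨θ, -, rfl⟩ := (mem_dsImg C).mp hf
      rw [ds_one C hC hcard θ]
  rw [sum_baseSet C hC hcard (fun f => f 1 ^ 2), e1, e2,
    Finset.sum_const, Finset.sum_const, st_one, card_SL, nsmul_eq_mul, nsmul_eq_mul]
  have h1 : 2 * ((psImg F).card : ℂ) + ((scal F).card : ℂ) = qC - 1 := by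
    have h := congrArg (Nat.cast (R := ℂ)) (two_card_psImg (F := F))
    rw [Nat.cast_sub Fintype.card_pos] at h
    push_cast at h
    exact h
  have h2 : 2 * ((dsImg C).card : ℂ) + ((scal F).card : ℂ) = qC + 1 := by
    exact_mod_cast two_card_dsImg C hC hcard
  linear_combination (qC + 1) ^ 2 * h1 + (qC - 1) ^ 2 * h2

include hC hcard in
/-- In characteristic two the base set is complete. -/
theorem mem_baseSet_of_even (h2 : (2 : F) = 0) {χ : SL2 → ℂ} (hχ : IsIrrCharacter SL2 χ) :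
    χ ∈ baseSet C := by
  refine mem_of_sum_sq _ (fun f hf => isIrr_baseSet C hC hcard hf) ?_ hχ
  have h := baseSet_degree_sq C hC hcard
  rw [card_scal_even h2] at h
  push_cast at h
  linear_combination h / 2

end Torus

/-- A cyclic subgroup of order `q + 1` exists. -/
theorem exists_torus : ∃ C : Subgroup (Matrix.SpecialLinearGroup (Fin 2) F),
    IsCyclic C ∧ Nat.card C = Fintype.card F + 1 := by
  obtain ⟨p, hp⟩ := CharP.exists F
  haveI := hp
  haveI : Fact p.Prime := ⟨CharP.char_is_prime F p⟩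
  obtain ⟨g, hg⟩ := CfsgLib.NonSplitTorus.exists_orderOf_card_add_one (F := F) p
  exact ⟨Subgroup.zpowers g, inferInstance, by rw [Nat.card_zpowers, hg]⟩

end CfsgLib.SL2Char
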