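import Cfsg.Agent.Lib.SL2Char.Classify
import Cfsg.Agent.Lib.SL2Sylow
import Cfsg.Agent.Lib.CharTheory.Linear

/-!
The four half-size characters of `SL₂(q)`, `q` odd, and completeness of the table.
-/

set_option autoImplicit false

namespace CfsgLib.SL2Char

open Matrix Cfsg CfsgLib.CharTheory
open scoped ComplexConjugate Classical

variable {F : Type*} [Field F] [Fintype F] [DecidableEq F]

local notation "SL2" => Matrix.SpecialLinearGroup (Fin 2) F
local notation "qC" => (Fintype.card F : ℂ)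

theorem ringChar_ne (h2 : (2 : F) ≠ 0) : ringChar F ≠ 2 := fun h => h2 (by
  have := ringChar.Nat.cast_ringChar (R := F)
  rw [h] at this
  exact_mod_cast this)

/-- The complex quadratic character. -/
noncomputable def eta (F : Type*) [Field F] [Fintype F] [DecidableEq F] : MulChar F ℂ :=
  (quadraticChar F).ringHomComp (Int.castRingHom ℂ)

theorem eta_apply (a : F) : eta F a = ((quadraticChar F a : ℤ) : ℂ) := rfl

theorem eta_unit (a : Fˣ) : eta F (a : F) = 1 ∨ eta F (a : F) = -1 := by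
  rw [eta_apply]
  rcases quadraticChar_dichotomy a.ne_zero with h | h <;> rw [h] <;> simp

theorem eta_conj (a : F) : conj (eta F a) = eta F a := by
  rw [eta_apply]; simp

theorem eta_sq : eta F ^ 2 = 1 := by
  refine MulChar.ext fun a => ?_
  rw [sq, MulChar.mul_apply, MulChar.one_apply_coe]
  rcases eta_unit a with h | h <;> rw [h] <;> norm_num

theorem eta_ne_one (h2 : (2 : F) ≠ 0) : eta F ≠ 1 := by
  intro h
  obtain ⟨a, ha⟩ := quadraticChar_exists_neg_one (ringChar_ne h2)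
  have ha0 : a ≠ 0 := fun h0 => by rw [h0, MulChar.map_zero] at ha; norm_num at ha
  have h1 : eta F a = 1 := by
    rw [h, ← Units.val_mk0 ha0, MulChar.one_apply_coe]
  rw [eta_apply, ha] at h1
  norm_num at h1

theorem eta_sum_zero (h2 : (2 : F) ≠ 0) : ∑ a : F, eta F a = 0 := by
  simp only [eta_apply]
  rw [← Int.cast_sum, quadraticChar_sum_zero (ringChar_ne h2), Int.cast_zero]

theorem odd_card (h2 : (2 : F) ≠ 0) : Fintype.card F % 2 = 1 :=
  FiniteField.odd_card_of_char_ne_two (ringChar_ne h2)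

theorem eta_neg_one (h2 : (2 : F) ≠ 0) :
    eta F (-1 : F) = (-1 : ℂ) ^ ((Fintype.card F - 1) / 2) := by
  rw [eta_apply, quadraticChar_neg_one (ringChar_ne h2), ZMod.χ₄_eq_neg_one_pow (odd_card h2)]
  have := odd_card h2
  rw [show Fintype.card F / 2 = (Fintype.card F - 1) / 2 by omega]
  push_cast; rfl

theorem quadSet_eq (h2 : (2 : F) ≠ 0) : quadSet F = {1, eta F} := by
  refine (Finset.eq_of_subset_of_card_le ?_ ?_).symm
  · intro α hα
    rcases Finset.mem_insert.mp hα with rfl | hα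
    · exact mem_quadSet.mpr (one_pow 2)
    · rw [Finset.mem_singleton.mp hα]; exact mem_quadSet.mpr eta_sq
  · rw [card_quadSet, card_scal_odd h2, Finset.card_pair (eta_ne_one h2).symm]

theorem sum_sq_irr_le (L : Finset (SL2 → ℂ)) (hL : ∀ f ∈ L, IsIrrCharacter SL2 f) :
    (∑ f ∈ L, f 1 ^ 2).re ≤ (Nat.card SL2 : ℝ) := by
  rw [show (Nat.card SL2 : ℝ) = ((Nat.card SL2 : ℕ) : ℂ).re from (Complex.natCast_re _).symm,
    ← sum_irr_degree_sq, Complex.re_sum, Complex.re_sum]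
  have e : ∑ f ∈ L, (f 1 ^ 2).re =
      ∑ ψ ∈ Finset.univ.filter (fun ψ : IrrCharacter SL2 => (ψ : SL2 → ℂ) ∈ L),
        ((ψ : SL2 → ℂ) 1 ^ 2).re := by
    symm
    exact Finset.sum_bij (fun ψ _ => (ψ : SL2 → ℂ)) (fun ψ hψ => (Finset.mem_filter.mp hψ).2)
      (fun _ _ _ _ h => Subtype.ext h)
      (fun f hf => ⟨⟨f, hL f hf⟩, Finset.mem_filter.mpr ⟨Finset.mem_univ _, hf⟩, rfl⟩) (fun _ _ => rfl)
  rw [e]
  refine Finset.sum_le_sum_of_subset_of_nonneg (Finset.subset_univ _) fun ψ _ _ => ?_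
  obtain ⟨d, -, e⟩ := irr_degree_pos ψ.2
  rw [e, ← Nat.cast_pow, Complex.natCast_re]
  positivity

theorem classInner_irr_ite {G : Type*} [Group G] [Fintype G] {χ ψ : G → ℂ} (hχ : IsIrrCharacter G χ)
    (hψ : IsIrrCharacter G ψ) : classInner χ ψ = if χ = ψ then 1 else 0 := by
  split_ifs with h
  · rw [h]; exact classInner_irr_self hψ
  · exact classInner_irr_ne hχ hψ h

/-- No linear character occurs in `ps η`. -/
theorem no_linear {χ : SL2 → ℂ} (hχ : IsIrrCharacter SL2 χ)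
    {e : ℂ} (he : e ≠ 0) (α : MulChar F ℂ) (hα : α ≠ 1) (hin : classInner (ps α) χ = e) : χ 1 ≠ 1 := by
  intro h1
  obtain ⟨φ, hφ⟩ := exists_hom_of_degree_one (isCharacter_of_irr hχ) h1
  subst hφ
  have hb : ∀ (a : Fˣ) (x : F), bor a x = bor a 0 * bor 1 (((a⁻¹ : Fˣ) : F) * x) := by
    intro a x
    rw [bor_mul, mul_one]
    congr 1
    simp
  by_cases hU : ∀ x : F, φ (bor 1 x) = 1
  · have htop : ∀ g : SL2, φ g = 1 := by
      obtain ⟨w, hw⟩ : ∃ w : SL2, w.1 = !![0, -1; 1, 0] :=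
        ⟨⟨!![0, -1; 1, 0], by simp [Matrix.det_fin_two]⟩, rfl⟩
      have hle : (⊤ : Subgroup SL2) ≤ φ.ker := by
        rw [← SL2Sylow.sup_US (g := w) (by rw [hw]; simp), sup_le_iff]
        have hus : ∀ t : Multiplicative F, φ (SL2Sylow.us t) = 1 := by
          intro t
          rw [show SL2Sylow.us t = bor 1 t.toAdd from
            Subtype.ext (show !![(1 : F), t.toAdd; 0, 1] = _ by simp)]
          exact hU _
        refine ⟨?_, ?_⟩
        · rintro g ⟨t, rfl⟩; exact hus t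
        · rintro g ⟨u, ⟨t, rfl⟩, rfl⟩
          show φ (w * SL2Sylow.us t * w⁻¹) = 1
          rw [map_mul, map_mul, hus t, mul_one, ← map_mul, mul_inv_cancel, map_one]
      exact fun g => hle (Subgroup.mem_top g)
    have hone : (fun g : SL2 => ((φ g : ℂˣ) : ℂ)) = fun _ => 1 :=
      funext fun g => by rw [htop, Units.val_one]
    rw [hone, classInner_ps_one, if_neg hα] at hin
    exact he hin.symm
  · push Not at hU
    obtain ⟨x₀, hx₀⟩ := hU
    refine he (hin.symm.trans ?_)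
    rw [classInner_ps α (isClassFunction_irr hχ)]
    refine mul_eq_zero_of_right _ (Finset.sum_eq_zero fun a _ => ?_)
    have hz : ∑ x : F, ((φ (bor a x) : ℂˣ) : ℂ) = 0 := by
      rw [Finset.sum_congr rfl (fun x _ => show ((φ (bor a x) : ℂˣ) : ℂ) =
          ((φ (bor a 0) : ℂˣ) : ℂ) * ((φ (bor 1 (((a⁻¹ : Fˣ) : F) * x)) : ℂˣ) : ℂ) by
        rw [← Units.val_mul, ← map_mul, ← hb a x]), ← Finset.mul_sum]
      refine mul_eq_zero_of_right _ ?_
      rw [Fintype.sum_equiv (Equiv.mulLeft₀ ((a⁻¹ : Fˣ) : F) (Units.ne_zero _))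
        (fun x => ((φ (bor 1 (((a⁻¹ : Fˣ) : F) * x)) : ℂˣ) : ℂ))
        (fun x => ((φ (bor 1 x) : ℂˣ) : ℂ)) (fun x => rfl)]
      rw [← Fintype.sum_equiv (Multiplicative.toAdd (α := F))
        (fun x => ((φ (bor 1 x.toAdd) : ℂˣ) : ℂ))
        (fun x => ((φ (bor 1 x) : ℂˣ) : ℂ)) (fun x => rfl)]
      exact exists_shift_sum_zero (ι := Multiplicative F)
        (fun x => ((φ (bor 1 x.toAdd) : ℂˣ) : ℂ)) (Multiplicative.ofAdd x₀)
        (fun y => by
          rw [← Units.val_mul, ← map_mul, bor_mul]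
          congr 3
          · simp
          · simp [add_comm])
        (fun h => hx₀ (Units.ext h))
    rw [hz, map_zero, mul_zero]

variable (C : Subgroup (Matrix.SpecialLinearGroup (Fin 2) F))
variable (hC : IsCyclic C) (hcard : Nat.card C = Fintype.card F + 1)

/-- The half-size characters. -/
structure Halves where
  /-- First half of `ps η`. -/
  p₁ : SL2 → ℂ
  /-- Second half of `ps η`. -/
  p₂ : SL2 → ℂ
  /-- First half of `ds θ₀`. -/
  m₁ : SL2 → ℂ
  /-- Second half of `ds θ₀`. -/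
  m₂ : SL2 → ℂ
  /-- The character of order two of the torus. -/
  θ₀ : C →* ℂˣ
  θ₀_sq : θ₀ ^ 2 = 1
  θ₀_ne : θ₀ ≠ 1
  quad_eq : quadTorus C = {1, θ₀}
  irr_p₁ : IsIrrCharacter SL2 p₁
  irr_p₂ : IsIrrCharacter SL2 p₂
  irr_m₁ : IsIrrCharacter SL2 m₁
  irr_m₂ : IsIrrCharacter SL2 m₂
  p_ne : p₁ ≠ p₂
  m_ne : m₁ ≠ m₂
  p_sum : ps (eta F) = p₁ + p₂
  m_sum : ds C θ₀ = m₁ + m₂
  p₁_one : p₁ 1 = (qC + 1) / 2
  p₂_one : p₂ 1 = (qC + 1) / 2
  m₁_one : m₁ 1 = (qC - 1) / 2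
  m₂_one : m₂ 1 = (qC - 1) / 2
  not_base : Disjoint (baseSet C) ({p₁, p₂, m₁, m₂} : Finset (SL2 → ℂ))
  distinct : p₁ ≠ m₁ ∧ p₁ ≠ m₂ ∧ p₂ ≠ m₁ ∧ p₂ ≠ m₂
  complete : ∀ χ : SL2 → ℂ, IsIrrCharacter SL2 χ → χ ∈ baseSet C ∪ {p₁, p₂, m₁, m₂}

set_option maxHeartbeats 1000000 in
include hC hcard in
theorem nonempty_halves (h2 : (2 : F) ≠ 0) : Nonempty (Halves C) := by
  obtain ⟨θ₀, hθ₀ne, hθq⟩ : ∃ θ₀ : C →* ℂˣ, θ₀ ≠ 1 ∧ quadTorus C = {1, θ₀} := by
    have h := card_quadTorus C hC hcard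
    rw [card_scal_odd h2] at h
    obtain ⟨x, y, hxy, e⟩ := Finset.card_eq_two.mp h
    have h1 : (1 : C →* ℂˣ) ∈ quadTorus C :=
      (mem_quadTorus C).mpr (MonoidHom.ext fun c => one_pow (M := ℂˣ) 2)
    rw [e] at h1
    rcases Finset.mem_insert.mp h1 with h1 | h1
    · exact ⟨y, fun hy => hxy (h1.symm.trans hy.symm), by rw [e, ← h1]⟩
    · rw [Finset.mem_singleton] at h1
      exact ⟨x, fun hx => hxy (hx.trans h1), by rw [e, ← h1, Finset.pair_comm]⟩
  have hθ₀sq : θ₀ ^ 2 = 1 := (mem_quadTorus C).mp (by rw [hθq]; simp)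
  have hq1 : (1 : ℝ) < (Fintype.card F : ℝ) := by exact_mod_cast Fintype.one_lt_card
  have hgen := isGenChar_ds C θ₀
  have hn : classInner (ds C θ₀) (ds C θ₀) = 2 := by
    rw [classInner_ds C hC hcard, if_pos rfl, if_pos (hom_eq_inv C hθ₀sq)]; norm_num
  obtain ⟨A, B, eA, eB, hA, hB, hAB, heA, heB, hds, hdA, hdB⟩ := exists_pair_of_norm_two hgen hn
  obtain ⟨P, Q, eP, eQ, hP, hQ, hPQ, heP, heQ, hps, hpP, hpQ⟩ :=
    exists_pair_of_norm_two (isGenChar_of_char (isCharacter_ps (eta F))) (classInner_ps_self_quad eta_sq)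
  have hpos : ∀ χ : SL2 → ℂ, IsIrrCharacter SL2 χ → ∀ e : ℤ, e ^ 2 = 1 →
      classInner (ps (eta F)) χ = e → e = 1 := by
    intro χ hχ e he h
    obtain ⟨n, hn⟩ := classInner_char_nat (isCharacter_ps (eta F)) (isCharacter_of_irr hχ)
    rw [hn] at h
    have h' : (n : ℤ) = e := by exact_mod_cast h
    rcases sq_eq_one_iff.mp he with r | r <;> omega
  obtain rfl := hpos P hP eP heP hpP
  obtain rfl := hpos Q hQ eQ heQ hpQ
  simp only [Int.cast_one, one_smul] at hps hpP hpQ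
  obtain ⟨dP, hdP0, hdP⟩ := irr_degree_pos hP
  obtain ⟨dQ, hdQ0, hdQ⟩ := irr_degree_pos hQ
  obtain ⟨dA, hdA0, hdA1⟩ := irr_degree_pos hA
  obtain ⟨dB, hdB0, hdB1⟩ := irr_degree_pos hB
  have hsumP : (dP : ℂ) + dQ = qC + 1 := by
    rw [← hdP, ← hdQ, ← Pi.add_apply, ← hps, ps_one]
  have hsumA : (eA : ℂ) * dA + (eB : ℂ) * dB = qC - 1 := by
    rw [← hdA1, ← hdB1, ← ds_one C hC hcard θ₀, hds]
    simp
  have hnlP : dP ≠ 1 := fun h =>
    no_linear hP one_ne_zero _ (eta_ne_one h2) hpP (by rw [hdP, h, Nat.cast_one])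
  have hnlQ : dQ ≠ 1 := fun h =>
    no_linear hQ one_ne_zero _ (eta_ne_one h2) hpQ (by rw [hdQ, h, Nat.cast_one])
  -- `{P, Q}` and `{A, B}` are disjoint
  have h0 : classInner (ps (eta F)) (ds C θ₀) = 0 := classInner_ps_ds C hC hcard _ _
  have hnotboth : ¬ ((P = A ∧ Q = B) ∨ (P = B ∧ Q = A)) := by
    intro hboth
    have key : ∀ x y : ℕ, ∀ ex ey : ℤ, ex ^ 2 = 1 → ey ^ 2 = 1 → ex + ey = 0 →
        x + y = Fintype.card F + 1 → (ex : ℂ) * x + (ey : ℂ) * y = qC - 1 → x = 1 ∨ y = 1 := by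
      intro x y ex ey hex hey hxy hs hd
      have hd' : ex * (x : ℤ) + ey * (y : ℤ) = (Fintype.card F : ℤ) - 1 := by exact_mod_cast hd
      rcases sq_eq_one_iff.mp hex with r | r
      · rw [r, show ey = -1 by omega] at hd'; right; omega
      · rw [r, show ey = 1 by omega] at hd'; left; omega
    have hs : dP + dQ = Fintype.card F + 1 := by exact_mod_cast hsumP
    have hee : eA + eB = 0 := by
      have h := h0
      rw [hps, classInner_add_left, hds] at h
      simp only [classInner_add_right, classInner_smul_right, classInner_irr_ite hP hA,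
        classInner_irr_ite hP hB, classInner_irr_ite hQ hA, classInner_irr_ite hQ hB,
        map_intCast] at h
      rcases hboth with ⟨e1, e2⟩ | ⟨e1, e2⟩
      · subst e1; subst e2
        simp [hPQ, Ne.symm hPQ] at h
        exact_mod_cast h
      · subst e1; subst e2
        simp [hPQ, Ne.symm hPQ] at h
        rw [add_comm]
        exact_mod_cast h
    rcases hboth with ⟨e1, e2⟩ | ⟨e1, e2⟩
    · have ea : dA = dP := by rw [← e1, hdP] at hdA1; exact_mod_cast hdA1.symm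
      have eb : dB = dQ := by rw [← e2, hdQ] at hdB1; exact_mod_cast hdB1.symm
      rw [ea, eb] at hsumA
      exact (key dP dQ eA eB heA heB hee hs hsumA).elim hnlP hnlQ
    · have eb : dB = dP := by rw [← e1, hdP] at hdB1; exact_mod_cast hdB1.symm
      have ea : dA = dQ := by rw [← e2, hdQ] at hdA1; exact_mod_cast hdA1.symm
      rw [ea, eb] at hsumA
      exact (key dQ dP eA eB heA heB hee (by omega) hsumA).elim hnlQ hnlP
  have hdis : P ≠ A ∧ P ≠ B ∧ Q ≠ A ∧ Q ≠ B := by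
    have h := h0
    rw [hps, classInner_add_left, hds] at h
    simp only [classInner_add_right, classInner_smul_right, classInner_irr_ite hP hA,
      classInner_irr_ite hP hB, classInner_irr_ite hQ hA, classInner_irr_ite hQ hB,
      map_intCast] at h
    have heA0 : (eA : ℂ) ≠ 0 := by
      intro h'; rw [Int.cast_eq_zero] at h'; rw [h'] at heA; norm_num at heA
    have heB0 : (eB : ℂ) ≠ 0 := by
      intro h'; rw [Int.cast_eq_zero] at h'; rw [h'] at heB; norm_num at heB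
    by_cases c1 : P = A
    · have c2 : P ≠ B := fun e => hAB (c1.symm.trans e)
      have c3 : Q ≠ A := fun e => hPQ (c1.trans e.symm)
      by_cases c4 : Q = B
      · exact absurd (Or.inl ⟨c1, c4⟩) hnotboth
      · simp [c1, c2, c3, c4, hAB] at h
        exact absurd h (by exact_mod_cast heA0)
    · by_cases c2 : P = B
      · have c4 : Q ≠ B := fun e => hPQ (c2.trans e.symm)
        by_cases c3 : Q = A
        · exact absurd (Or.inr ⟨c2, c3⟩) hnotboth
        · simp [c1, c2, c3, c4, Ne.symm hAB] at h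
          exact absurd h (by exact_mod_cast heB0)
      · by_cases c3 : Q = A
        · have c4 : Q ≠ B := fun e => hAB (c3.symm.trans e)
          simp [c1, c2, c3, c4, hAB] at h
          exact absurd h (by exact_mod_cast heA0)
        · by_cases c4 : Q = B
          · simp [c1, c2, c3, c4, Ne.symm hAB] at h
            exact absurd h (by exact_mod_cast heB0)
          · exact ⟨c1, c2, c3, c4⟩
  -- outside the base set
  have hout : ∀ f : SL2 → ℂ, f ∈ baseSet C → f ≠ P ∧ f ≠ Q ∧ f ≠ A ∧ f ≠ B := by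
    intro f hf
    have h1 : classInner (ps (eta F)) f = 0 ∧ classInner (ds C θ₀) f = 0 := by
      rcases (mem_baseSet C).mp hf with rfl | rfl | ⟨α, hα, rfl⟩ | ⟨θ, hθ, rfl⟩
      · constructor
        · rw [classInner_ps_one, if_neg (eta_ne_one h2)]
        · rw [ds, classInner_dsA_one C θ₀ hC hcard _ (compatChar_spec C hC hcard θ₀), if_neg hθ₀ne,
            neg_zero]
      · constructor
        · rw [classInner_ps_st, if_neg (eta_ne_one h2)]
        · rw [ds, classInner_dsA_st C θ₀ hC hcard _ (compatChar_spec C hC hcard θ₀), if_neg hθ₀ne]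
      · constructor
        · have n1 : eta F ≠ α := fun e => hα (e ▸ eta_sq)
          have n2 : eta F ≠ α⁻¹ := fun e => hα (by
            rw [← inv_inv α, ← e, inv_pow, eta_sq, inv_one])
          rw [classInner_ps_ps, if_neg n1, if_neg n2, add_zero]
        · rw [← classInner_comm, classInner_ps_ds C hC hcard, map_zero]
      · constructor
        · exact classInner_ps_ds C hC hcard _ _
        · rw [classInner_ds C hC hcard, if_neg (fun e : θ₀ = θ => hθ (e ▸ hθ₀sq)),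
            if_neg (fun e : θ₀ = θ⁻¹ => hθ ?_), add_zero]
          have h := sq_ne_one_inv C hθ
          exact absurd (e ▸ hθ₀sq) h
    refine ⟨?_, ?_, ?_, ?_⟩ <;> intro e <;> subst e
    · rw [hpP] at h1; exact one_ne_zero h1.1
    · rw [hpQ] at h1; exact one_ne_zero h1.1
    · rw [hdA, Int.cast_eq_zero] at h1; rw [h1.2] at heA; norm_num at heA
    · rw [hdB, Int.cast_eq_zero] at h1; rw [h1.2] at heB; norm_num at heB
  set R : Finset (SL2 → ℂ) := {P, Q, A, B} with hR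
  have hdisj : Disjoint (baseSet C) R := by
    rw [Finset.disjoint_left]
    intro f hf hf'
    obtain ⟨n1, n2, n3, n4⟩ := hout f hf
    simp [hR, n1, n2, n3, n4] at hf'
  obtain ⟨n1, n2, n3, n4⟩ := hdis
  have hRsum : ∀ w : (SL2 → ℂ) → ℂ, ∑ f ∈ R, w f = w P + w Q + w A + w B := by
    intro w
    rw [hR, Finset.sum_insert (by simp [hPQ, n1, n2]), Finset.sum_insert (by simp [n3, n4]),
      Finset.sum_pair hAB]
    ring
  have hirr : ∀ f ∈ baseSet C ∪ R, IsIrrCharacter SL2 f := by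
    intro f hf
    rcases Finset.mem_union.mp hf with hf | hf
    · exact isIrr_baseSet C hC hcard hf
    · simp only [hR, Finset.mem_insert, Finset.mem_singleton] at hf
      rcases hf with rfl | rfl | rfl | rfl <;> assumption
  have hbase : ∑ f ∈ baseSet C, f 1 ^ 2 =
      (Nat.card SL2 : ℂ) - ((qC + 1) ^ 2 + (qC - 1) ^ 2) / 2 := by
    have h := baseSet_degree_sq C hC hcard
    rw [card_scal_odd h2] at h
    push_cast at h
    linear_combination h / 2
  have htot : ∑ f ∈ baseSet C ∪ R, f 1 ^ 2 = (Nat.card SL2 : ℂ) +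
      (((dP : ℂ) ^ 2 + (dQ : ℂ) ^ 2 + (dA : ℂ) ^ 2 + (dB : ℂ) ^ 2) - ((qC + 1) ^ 2 + (qC - 1) ^ 2) / 2) := by
    rw [Finset.sum_union hdisj, hbase, hRsum (fun f => f 1 ^ 2), hdP, hdQ, hdA1, hdB1]
    ring
  have hle := sum_sq_irr_le _ hirr
  rw [htot] at hle
  have hre : ((dP : ℝ) ^ 2 + (dQ : ℝ) ^ 2 + (dA : ℝ) ^ 2 + (dB : ℝ) ^ 2) -
      (((Fintype.card F : ℝ) + 1) ^ 2 + ((Fintype.card F : ℝ) - 1) ^ 2) / 2 ≤ 0 := by
    have e : ((Nat.card SL2 : ℂ) +
      (((dP : ℂ) ^ 2 + (dQ : ℂ) ^ 2 + (dA : ℂ) ^ 2 + (dB : ℂ) ^ 2) - ((qC + 1) ^ 2 + (qC - 1) ^ 2) / 2)) =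
      (((Nat.card SL2 : ℝ) + (((dP : ℝ) ^ 2 + (dQ : ℝ) ^ 2 + (dA : ℝ) ^ 2 + (dB : ℝ) ^ 2) -
        (((Fintype.card F : ℝ) + 1) ^ 2 + ((Fintype.card F : ℝ) - 1) ^ 2) / 2) : ℝ) : ℂ) := by
      push_cast; ring
    rw [e, Complex.ofReal_re] at hle
    linarith
  have hsP : (dP : ℝ) + dQ = (Fintype.card F : ℝ) + 1 := by exact_mod_cast hsumP
  have hsA : (eA : ℝ) * dA + (eB : ℝ) * dB = (Fintype.card F : ℝ) - 1 := by exact_mod_cast hsumA
  have heA' : (eA : ℝ) ^ 2 = 1 := by exact_mod_cast heA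
  have heB' : (eB : ℝ) ^ 2 = 1 := by exact_mod_cast heB
  have hAA : ((eA : ℝ) * dA) ^ 2 = (dA : ℝ) ^ 2 := by rw [mul_pow, heA', one_mul]
  have hBB : ((eB : ℝ) * dB) ^ 2 = (dB : ℝ) ^ 2 := by rw [mul_pow, heB', one_mul]
  have z1 : (dP : ℝ) = dQ := by
    nlinarith [sq_nonneg ((dP : ℝ) - dQ), sq_nonneg ((eA : ℝ) * dA - (eB : ℝ) * dB)]
  have z2 : (eA : ℝ) * dA = (eB : ℝ) * dB := by
    nlinarith [sq_nonneg ((dP : ℝ) - dQ), sq_nonneg ((eA : ℝ) * dA - (eB : ℝ) * dB)]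
  have hone : ∀ e : ℤ, ∀ d : ℕ, e ^ 2 = 1 →
      (e : ℝ) * d = ((Fintype.card F : ℝ) - 1) / 2 → e = 1 := by
    intro e d he h
    refine (sq_eq_one_iff.mp he).resolve_right fun r => ?_
    rw [r] at h
    push_cast at h
    have : (0 : ℝ) ≤ d := Nat.cast_nonneg d
    linarith
  have rA : eA = 1 := hone eA dA heA (by linarith)
  have rB : eB = 1 := hone eB dB heB (by linarith)
  subst rA; subst rB
  simp only [Int.cast_one, one_smul, one_mul] at hds hsA z2
  have toC : ∀ (d : ℕ) (v : ℝ) (w : ℂ), (d : ℝ) = v → (v : ℂ) = w → (d : ℂ) = w := by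
    intro d v w h h'
    rw [← h', ← h]; push_cast; rfl
  have dPv : (dP : ℂ) = (qC + 1) / 2 :=
    toC dP (((Fintype.card F : ℝ) + 1) / 2) _ (by linarith) (by push_cast; ring)
  have dQv : (dQ : ℂ) = (qC + 1) / 2 :=
    toC dQ (((Fintype.card F : ℝ) + 1) / 2) _ (by linarith) (by push_cast; ring)
  have dAv : (dA : ℂ) = (qC - 1) / 2 :=
    toC dA (((Fintype.card F : ℝ) - 1) / 2) _ (by linarith) (by push_cast; ring)
  have dBv : (dB : ℂ) = (qC - 1) / 2 :=
    toC dB (((Fintype.card F : ℝ) - 1) / 2) _ (by linarith) (by push_cast; ring)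
  refine ⟨⟨P, Q, A, B, θ₀, hθ₀sq, hθ₀ne, hθq, hP, hQ, hA, hB, hPQ, hAB, hps, hds,
    by rw [hdP, dPv], by rw [hdQ, dQv], by rw [hdA1, dAv], by rw [hdB1, dBv], hdisj,
    ⟨n1, n2, n3, n4⟩, fun χ hχ => mem_of_sum_sq _ hirr ?_ hχ⟩⟩
  rw [htot, dPv, dQv, dAv, dBv]
  ring

end CfsgLib.SL2Char
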