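import Cfsg.Agent.Lib.SL2Char.Table
import Cfsg.Agent.Lib.SL2Char.TwoLocal
import Cfsg.Agent.Lib.CharTheory.Degree
import Cfsg.Agent.Lib.CharTheory.Linear
import Cfsg.Agent.Lib.Blocks.Transport
import Cfsg.Agent.Lib.Blocks.Central

/-!
Counting irreducible characters of degree prime to `ℓ` in `SL₂(q)` and in its Sylow normalisers.
-/

set_option autoImplicit false

namespace CfsgLib.SL2McKay

open Matrix Cfsg CfsgLib.CharTheory CfsgLib.Blocks
open scoped Classical commutatorElement

universe u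

section General

variable {G : Type u} [Group G] [Finite G]

theorem charDegree_eq_finrank {n : ℕ} (ρ : Representation ℂ G (Fin n → ℂ)) [ρ.IsIrreducible] :
    charDegree (ρ.character) = Module.finrank ℂ (Fin n → ℂ) := by
  have h := charDegree_cast (χ := ρ.character) ⟨n, ρ, rfl⟩
  rw [Representation.char_one] at h
  exact_mod_cast h

theorem degree_dvd_index (χ : IrrCharacter G) (A : Subgroup G) [A.Normal]
    (hA : ∀ a ∈ A, ∀ b ∈ A, a * b = b * a) : charDegree (χ : G → ℂ) ∣ A.index := by
  obtain ⟨χ, n, ρ, hρ, rfl⟩ := χ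
  haveI := hρ
  rw [charDegree_eq_finrank ρ]
  exact degree_dvd_index_of_abelian_normal ρ A hA

theorem degree_dvd_center (χ : IrrCharacter G) :
    charDegree (χ : G → ℂ) ∣ (Subgroup.center G).index := by
  obtain ⟨χ, n, ρ, hρ, rfl⟩ := χ
  haveI := hρ
  rw [charDegree_eq_finrank ρ]
  exact degree_dvd_index_center ρ

theorem card_degree_one :
    Nat.card {χ : IrrCharacter G // charDegree (χ : G → ℂ) = 1} = (commutator G).index := by
  rw [← card_linear (G := G)]
  refine Nat.card_congr (Equiv.subtypeEquivRight fun χ => ?_)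
  rw [← irr_charDegree_cast χ, Nat.cast_eq_one]

theorem sum_degree_sq [Fintype G] :
    ∑ χ : IrrCharacter G, charDegree (χ : G → ℂ) ^ 2 = Nat.card G := by
  have h := sum_irr_degree_sq (G := G)
  simp only [← irr_charDegree_cast] at h
  exact_mod_cast h

/-- The counts of a group with a cyclic subgroup of index two inverted from outside. -/
theorem dihedral_type (A : Subgroup G) (hA : IsCyclic A) (heven : 2 ∣ Nat.card A) (hidx : A.index = 2)
    (w : G) (hinv : ∀ a ∈ A, w * a * w⁻¹ = a⁻¹) :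
    (∀ χ : IrrCharacter G, charDegree (χ : G → ℂ) = 1 ∨ charDegree (χ : G → ℂ) = 2) ∧
      Nat.card {χ : IrrCharacter G // charDegree (χ : G → ℂ) = 1} = 4 ∧
      Nat.card (IrrCharacter G) = Nat.card A / 2 + 3 := by
  haveI := Fintype.ofFinite G
  letI := hA.commGroup
  haveI hAn : A.Normal := Subgroup.normal_of_index_eq_two hidx
  have hab : ∀ a ∈ A, ∀ b ∈ A, a * b = b * a := fun a ha b hb =>
    congrArg Subtype.val (mul_comm (⟨a, ha⟩ : A) ⟨b, hb⟩)
  have hdeg : ∀ χ : IrrCharacter G, charDegree (χ : G → ℂ) = 1 ∨ charDegree (χ : G → ℂ) = 2 := fun χ =>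
    (Nat.dvd_prime Nat.prime_two).mp (hidx ▸ degree_dvd_index χ A hab)
  set n := Nat.card A with hn
  let Q : Subgroup G := (powMonoidHom 2 : A →* A).range.map A.subtype
  have hQn : Q.Normal := ⟨by
    rintro _ ⟨_, ⟨a, rfl⟩, rfl⟩ g
    refine ⟨(powMonoidHom 2 : A →* A) ⟨g * a * g⁻¹, hAn.conj_mem a a.2 g⟩, ⟨_, rfl⟩, ?_⟩
    show (g * (a : G) * g⁻¹) ^ 2 = g * ((a : G) ^ 2) * g⁻¹
    rw [conj_pow]⟩
  have hQcard : 2 * Nat.card Q = n := by
    rw [Subgroup.card_subtype, IsCyclic.card_powMonoidHom_range, ← hn,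
      Nat.gcd_eq_right heven, Nat.mul_div_cancel' heven]
  have hQle : Q ≤ commutator G := by
    rintro _ ⟨_, ⟨a, rfl⟩, rfl⟩
    show (a : G) ^ 2 ∈ commutator G
    have e : (a : G) ^ 2 = ⁅(a : G), w⁆ := by
      rw [commutatorElement_def, show (a : G) * w * (a : G)⁻¹ * w⁻¹ = a * (w * (a : G)⁻¹ * w⁻¹) by group,
        hinv _ (inv_mem a.2), inv_inv, sq]
    rw [e, commutator_def]
    exact Subgroup.commutator_mem_commutator (Subgroup.mem_top _) (Subgroup.mem_top _)
  have hidxQ : Q.index = 4 := by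
    have h1 := Q.card_mul_index
    have h2 := A.card_mul_index
    rw [hidx, ← hn] at h2
    have hpos : 0 < Nat.card Q := Nat.card_pos
    apply Nat.eq_of_mul_eq_mul_left hpos
    rw [h1, ← h2, ← hQcard]; ring
  haveI : Fact (Nat.Prime 2) := ⟨Nat.prime_two⟩
  have hcomm : commutator G = Q := by
    refine le_antisymm ?_ hQle
    haveI := hQn
    refine (Subgroup.Normal.quotient_commutative_iff_commutator_le (N := Q)).mp ?_
    have h4 : Nat.card (G ⧸ Q) = 2 ^ 2 := by rw [← Subgroup.index_eq_card, hidxQ]; norm_num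
    exact ⟨⟨fun a b => IsPGroup.commutative_of_card_eq_prime_sq h4 a b⟩⟩
  have hone : Nat.card {χ : IrrCharacter G // charDegree (χ : G → ℂ) = 1} = 4 := by
    rw [card_degree_one, hcomm, hidxQ]
  refine ⟨hdeg, hone, ?_⟩
  have hsum := sum_degree_sq (G := G)
  have hG : Nat.card G = 2 * n := by rw [← A.card_mul_index, hidx, ← hn]; ring
  rw [Nat.card_eq_fintype_card] at hone
  rw [Fintype.card_subtype] at hone
  rw [← Finset.sum_filter_add_sum_filter_not Finset.univ
      (fun χ : IrrCharacter G => charDegree (χ : G → ℂ) = 1),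
    Finset.sum_congr rfl (g := fun _ => (1 : ℕ)) (fun χ hχ => by
      rw [(Finset.mem_filter.mp hχ).2]; rfl),
    Finset.sum_congr rfl (s₁ := Finset.univ.filter fun χ : IrrCharacter G => ¬ charDegree (χ : G → ℂ) = 1)
      (g := fun _ => (4 : ℕ)) (fun χ hχ => by
        rw [(hdeg χ).resolve_left (Finset.mem_filter.mp hχ).2]; rfl),
    Finset.sum_const, Finset.sum_const, hone, smul_eq_mul, smul_eq_mul, hG] at hsum
  rw [Nat.card_eq_fintype_card, ← Finset.card_univ,
    ← Finset.card_filter_add_card_filter_not (s := (Finset.univ : Finset (IrrCharacter G)))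
      (fun χ : IrrCharacter G => charDegree (χ : G → ℂ) = 1), hone]
  obtain ⟨j, hj⟩ := heven
  rw [hj] at hsum ⊢
  omega

/-- A group of order 24 with centre of even order and derived subgroup of index three. -/
theorem order_24_type (hG : Nat.card G = 24) (hZ : 2 ∣ Nat.card (Subgroup.center G))
    (hc : (commutator G).index = 3) :
    Nat.card {χ : IrrCharacter G // ¬ 2 ∣ charDegree (χ : G → ℂ)} = 4 := by
  haveI := Fintype.ofFinite G
  have hsum := sum_degree_sq (G := G)
  rw [hG] at hsum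
  have hd : ∀ χ : IrrCharacter G, charDegree (χ : G → ℂ) ∈ ({1, 2, 3, 4} : Finset ℕ) := by
    intro χ
    have h1 := degree_dvd_center χ
    have h12 : (Subgroup.center G).index ∣ 12 := by
      obtain ⟨c, hc⟩ := hZ
      have h := (Subgroup.center G).card_mul_index
      rw [hG, hc, mul_assoc] at h
      exact Dvd.intro_left c (by omega)
    have hle : charDegree (χ : G → ℂ) ^ 2 ≤ 24 := hsum ▸
      Finset.single_le_sum (f := fun χ : IrrCharacter G => charDegree (χ : G → ℂ) ^ 2)
        (fun _ _ => Nat.zero_le _) (Finset.mem_univ χ)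
    have h4 : charDegree (χ : G → ℂ) ≤ 4 := by
      by_contra h
      have := Nat.pow_le_pow_left (show 5 ≤ charDegree (χ : G → ℂ) by omega) 2
      omega
    have := irr_charDegree_pos χ
    simp only [Finset.mem_insert, Finset.mem_singleton]
    omega
  rw [← Finset.sum_fiberwise_of_maps_to (t := ({1, 2, 3, 4} : Finset ℕ)) (fun χ _ => hd χ)] at hsum
  have hf : ∀ d : ℕ, ∑ χ ∈ Finset.univ.filter (fun χ : IrrCharacter G => charDegree (χ : G → ℂ) = d),
      charDegree (χ : G → ℂ) ^ 2 =
      (Finset.univ.filter (fun χ : IrrCharacter G => charDegree (χ : G → ℂ) = d)).card * d ^ 2 := by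
    intro d
    rw [Finset.sum_congr rfl (g := fun _ => d ^ 2) (fun χ hχ => by rw [(Finset.mem_filter.mp hχ).2]),
      Finset.sum_const, smul_eq_mul]
  simp only [hf] at hsum
  rw [Finset.sum_insert (by simp), Finset.sum_insert (by simp), Finset.sum_insert (by simp),
    Finset.sum_singleton] at hsum
  have h1 : (Finset.univ.filter (fun χ : IrrCharacter G => charDegree (χ : G → ℂ) = 1)).card = 3 := by
    rw [← hc, ← card_degree_one, Nat.card_eq_fintype_card, Fintype.card_subtype]
  rw [Nat.card_eq_fintype_card, Fintype.card_subtype,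
    show (Finset.univ.filter fun χ : IrrCharacter G => ¬ 2 ∣ charDegree (χ : G → ℂ)) =
      Finset.univ.filter (fun χ : IrrCharacter G => charDegree (χ : G → ℂ) = 1) ∪
      Finset.univ.filter (fun χ : IrrCharacter G => charDegree (χ : G → ℂ) = 3) by
        ext χ
        have := hd χ
        simp only [Finset.mem_insert, Finset.mem_singleton] at this
        simp only [Finset.mem_filter, Finset.mem_univ, true_and, Finset.mem_union]
        omega,
    Finset.card_union_of_disjoint (Finset.disjoint_left.mpr fun χ a b => by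
      simp only [Finset.mem_filter, Finset.mem_univ, true_and] at a b
      omega)]
  rw [h1] at hsum ⊢
  norm_num at hsum
  omega

theorem charDegree_irrPull {K : Type u} [Group K] [Finite K] (e : K ≃* G) (χ : IrrCharacter G) :
    charDegree (irrPull e χ : K → ℂ) = charDegree (χ : G → ℂ) := by
  simp [charDegree]

theorem card_congr_equiv {K : Type u} [Group K] [Finite K] (e : K ≃* G) (P : ℕ → Prop) :
    Nat.card {χ : IrrCharacter K // P (charDegree (χ : K → ℂ))} =
      Nat.card {χ : IrrCharacter G // P (charDegree (χ : G → ℂ))} :=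
  (Nat.card_congr (Equiv.subtypeEquiv (Equiv.ofBijective _ ⟨irrPull_injective e, irrPull_surjective e⟩)
    fun χ => by
      show _ ↔ P (charDegree (irrPull e χ : K → ℂ))
      rw [charDegree_irrPull])).symm

theorem card_all (P : ℕ → Prop) (h : ∀ χ : IrrCharacter G, P (charDegree (χ : G → ℂ))) :
    Nat.card {χ : IrrCharacter G // P (charDegree (χ : G → ℂ))} = Nat.card (IrrCharacter G) :=
  Nat.card_congr (Equiv.subtypeUnivEquiv h)

end General

variable {F : Type*} [Field F] [Fintype F] [DecidableEq F]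

local notation "SL2" => Matrix.SpecialLinearGroup (Fin 2) F
local notation "qC" => (Fintype.card F : ℂ)

theorem charDegree_of_val {G : Type*} [Group G] {f : G → ℂ} {n : ℕ} (h : f 1 = (n : ℂ)) :
    charDegree f = n := by simp [charDegree, h]

/-- The count for `SL₂(q)`. -/
theorem count_SL2 (h2 : (2 : F) ≠ 0) (P : ℕ → Prop) :
    Nat.card {χ : IrrCharacter SL2 // P (charDegree (χ : SL2 → ℂ))} =
      (if P 1 then 1 else 0) + (if P (Fintype.card F) then 1 else 0) +
      ((Fintype.card F - 3) / 2) * (if P (Fintype.card F + 1) then 1 else 0) +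
      ((Fintype.card F - 1) / 2) * (if P (Fintype.card F - 1) then 1 else 0) +
      2 * (if P ((Fintype.card F + 1) / 2) then 1 else 0) +
      2 * (if P ((Fintype.card F - 1) / 2) then 1 else 0) := by
  obtain ⟨C, hC, hcard⟩ := SL2Char.exists_torus (F := F)
  obtain ⟨H⟩ := SL2Char.nonempty_halves C hC hcard h2
  have hho := SL2Char.odd_card h2
  let L : Finset (SL2 → ℂ) := SL2Char.baseSet C ∪ {H.p₁, H.p₂, H.m₁, H.m₂}
  have hL : ∀ f ∈ L, IsIrrCharacter SL2 f := by
    intro f hf
    rcases Finset.mem_union.mp hf with h | h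
    · exact SL2Char.isIrr_baseSet C hC hcard h
    · simp only [Finset.mem_insert, Finset.mem_singleton] at h
      rcases h with rfl | rfl | rfl | rfl
      exacts [H.irr_p₁, H.irr_p₂, H.irr_m₁, H.irr_m₂]
  let w : (SL2 → ℂ) → ℂ := fun f => if P (charDegree f) then 1 else 0
  have key := SL2Char.sum_irr_eq L hL (fun χ hχ => H.complete χ hχ) w
  have hlhs : ∑ ψ : IrrCharacter SL2, w (ψ : SL2 → ℂ) =
      (Nat.card {χ : IrrCharacter SL2 // P (charDegree (χ : SL2 → ℂ))} : ℂ) := by
    simp only [w]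
    rw [Finset.sum_boole, Nat.card_eq_fintype_card, Fintype.card_subtype]
  obtain ⟨d1, d2, d3, d4⟩ := H.deg h2
  have ep : ∀ f ∈ SL2Char.psImg F, w f = if P (Fintype.card F + 1) then 1 else 0 := by
    intro f hf
    obtain ⟨α, -, rfl⟩ := SL2Char.mem_psImg.mp hf
    simp only [w, charDegree_of_val (n := Fintype.card F + 1)
      (show SL2Char.ps α (1 : SL2) = _ by rw [SL2Char.ps_one]; push_cast; rfl)]
  have ed : ∀ f ∈ SL2Char.dsImg C, w f = if P (Fintype.card F - 1) then 1 else 0 := by
    intro f hf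
    obtain ⟨θ, -, rfl⟩ := (SL2Char.mem_dsImg C).mp hf
    simp only [w, charDegree_of_val (n := Fintype.card F - 1)
      (show SL2Char.ds C θ (1 : SL2) = _ by
        rw [SL2Char.ds_one C hC hcard, Nat.cast_sub Fintype.card_pos]; simp)]
  rw [hlhs, Finset.sum_union H.not_base, SL2Char.sum_baseSet C hC hcard w,
    Finset.sum_congr rfl ep, Finset.sum_congr rfl ed, Finset.sum_const, Finset.sum_const,
    Finset.sum_insert (by simp [H.p_ne, H.distinct.1, H.distinct.2.1]),
    Finset.sum_insert (by simp [H.distinct.2.2.1, H.distinct.2.2.2]),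
    Finset.sum_insert (by simp [H.m_ne]), Finset.sum_singleton] at key
  simp only [w, charDegree_of_val d1, charDegree_of_val d2, charDegree_of_val d3, charDegree_of_val d4,
    charDegree_of_val (f := fun _ : SL2 => (1 : ℂ)) (n := 1) (by simp),
    charDegree_of_val (n := Fintype.card F) (SL2Char.st_one (F := F)), nsmul_eq_mul] at key
  have hp := SL2Char.two_card_psImg (F := F)
  have hd := SL2Char.two_card_dsImg C hC hcard
  rw [SL2Char.card_scal_odd h2] at hp hd
  rw [show (SL2Char.psImg F).card = (Fintype.card F - 3) / 2 by omega,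
    show (SL2Char.dsImg C).card = (Fintype.card F - 1) / 2 by omega] at key
  apply SL2Char.natCast_inj'
  rw [key]
  push_cast
  ring

/-- The Borel subgroup. -/
abbrev Bor (F : Type*) [Field F] : Subgroup (Matrix.SpecialLinearGroup (Fin 2) F) := SL2Char.borel F

/-- Representatives of the classes of the Borel subgroup. -/
abbrev BorIdx (F : Type*) [Field F] : Type _ := {a : Fˣ // a ^ 2 ≠ 1} ⊕ ({a : Fˣ // a ^ 2 = 1} × Fin 3)

theorem bor_eta (e : Fˣ) (he : e ^ 2 = 1) (c : Fˣ) (z x : F) :
    SL2Char.bor c z * SL2Char.bor e x * (SL2Char.bor c z)⁻¹ = SL2Char.bor e ((c : F) ^ 2 * x) := by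
  rw [mul_inv_eq_iff_eq_mul, SL2Char.bor_mul, SL2Char.bor_mul, mul_comm c e, SL2Char.inv_eq_self he]
  congr 1
  linear_combination (-((c : F) * x)) * c.mul_inv

theorem card_classes_borel (h2 : (2 : F) ≠ 0) :
    Nat.card (ConjClasses (Bor F)) = Fintype.card F + 3 := by
  obtain ⟨ν, hν⟩ := quadraticChar_exists_neg_one (F := F) (SL2Char.ringChar_ne h2)
  have hν0 : ν ≠ 0 := fun h => by rw [h, MulChar.map_zero] at hν; norm_num at hν
  let xv : Fin 3 → F := ![0, 1, ν]
  let rep : BorIdx F → ConjClasses (Bor F) := fun i => match i with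
    | Sum.inl a => ConjClasses.mk ⟨SL2Char.bor a.1 0, SL2Char.bor_mem _ _⟩
    | Sum.inr p => ConjClasses.mk ⟨SL2Char.bor p.1.1 (xv p.2), SL2Char.bor_mem _ _⟩
  have hconj : ∀ (a b : Fˣ) (x y : F),
      IsConj (⟨SL2Char.bor a x, SL2Char.bor_mem a x⟩ : Bor F) ⟨SL2Char.bor b y, SL2Char.bor_mem b y⟩ →
      a = b ∧ (a ^ 2 = 1 → quadraticChar F x = quadraticChar F y) := by
    intro a b x y h
    obtain ⟨g, hg⟩ := isConj_iff.mp h
    obtain ⟨c, z, -, -, -, hgcz⟩ := SL2Char.eq_bor_of_lower (CfsgLib.SL2Borel.mem_borel.mp g.2)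
    have hg' : g.1 * SL2Char.bor a x * g.1⁻¹ = SL2Char.bor b y := congrArg Subtype.val hg
    rw [hgcz] at hg'
    have hab : a = b := by
      have e := hg'
      rw [mul_inv_eq_iff_eq_mul, SL2Char.bor_mul, SL2Char.bor_mul] at e
      have e1 := (SL2Char.bor_injective e).1
      rw [mul_comm c a] at e1
      exact mul_right_cancel e1
    refine ⟨hab, fun ha => ?_⟩
    rw [bor_eta a ha] at hg'
    rw [← (SL2Char.bor_injective hg').2, map_mul, map_pow, quadraticChar_sq_one c.ne_zero, one_mul]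
  have hinj : Function.Injective rep := by
    rintro (⟨a, ha⟩ | ⟨⟨a, ha⟩, i⟩) (⟨b, hb⟩ | ⟨⟨b, hb⟩, j⟩) h <;>
      simp only [rep, ConjClasses.mk_eq_mk_iff_isConj] at h <;> obtain ⟨rfl, h'⟩ := hconj _ _ _ _ h
    · rfl
    · exact absurd hb ha
    · exact absurd ha hb
    · have := h' ha
      fin_cases i <;> fin_cases j <;> first | rfl | (simp [xv, hν] at this)
  have hsurj : Function.Surjective rep := by
    intro K
    obtain ⟨g, rfl⟩ := ConjClasses.exists_rep K
    obtain ⟨a, x, -, -, -, hg⟩ := SL2Char.eq_bor_of_lower (CfsgLib.SL2Borel.mem_borel.mp g.2)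
    obtain rfl : g = ⟨SL2Char.bor a x, SL2Char.bor_mem a x⟩ := Subtype.ext hg
    by_cases ha : a ^ 2 = 1
    · have hc : ∀ c : Fˣ, ∀ y : F, y = (c : F) ^ 2 * x →
          IsConj (⟨SL2Char.bor a x, SL2Char.bor_mem a x⟩ : Bor F) ⟨SL2Char.bor a y, SL2Char.bor_mem a y⟩ := by
        rintro c y rfl
        exact isConj_iff.mpr ⟨⟨SL2Char.bor c 0, SL2Char.bor_mem c 0⟩, Subtype.ext (bor_eta a ha c 0 x)⟩
      by_cases hx : x = 0
      · subst hx
        exact ⟨Sum.inr (⟨a, ha⟩, 0), rfl⟩
      · have hsol : ∀ v : F, v ≠ 0 → quadraticChar F x = quadraticChar F v →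
            ∃ c : Fˣ, v = (c : F) ^ 2 * x := by
          intro v hv hq
          have h1 : quadraticChar F (v * x) = 1 := by
            rw [map_mul, ← hq, ← sq, quadraticChar_sq_one hx]
          obtain ⟨s, hs⟩ := (quadraticChar_one_iff_isSquare (mul_ne_zero hv hx)).mp h1
          have hs0 : s ≠ 0 := fun h => mul_ne_zero hv hx (by rw [hs, h, mul_zero])
          refine ⟨Units.mk0 (s / x) (div_ne_zero hs0 hx), ?_⟩
          rw [Units.val_mk0]
          field_simp
          linear_combination hs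
        rcases quadraticChar_dichotomy hx with hq | hq
        · obtain ⟨c, hc'⟩ := hsol 1 one_ne_zero (by rw [hq, map_one])
          exact ⟨Sum.inr (⟨a, ha⟩, 1), ConjClasses.mk_eq_mk_iff_isConj.mpr (hc c 1 hc').symm⟩
        · obtain ⟨c, hc'⟩ := hsol ν hν0 (by rw [hq, hν])
          exact ⟨Sum.inr (⟨a, ha⟩, 2), ConjClasses.mk_eq_mk_iff_isConj.mpr (hc c ν hc').symm⟩
    · refine ⟨Sum.inl ⟨a, ha⟩, ConjClasses.mk_eq_mk_iff_isConj.mpr (IsConj.symm ?_)⟩
      have hne : ((a⁻¹ : Fˣ) : F) - (a : F) ≠ 0 := sub_ne_zero.mpr ((SL2Char.sq_ne_one_iff a).mp ha).symm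
      refine isConj_iff.mpr ⟨⟨SL2Char.bor 1 (-x / (((a⁻¹ : Fˣ) : F) - (a : F))), SL2Char.bor_mem _ _⟩, ?_⟩
      refine Subtype.ext ?_
      show SL2Char.bor 1 _ * SL2Char.bor a x * (SL2Char.bor 1 _)⁻¹ = SL2Char.bor a 0
      rw [mul_inv_eq_iff_eq_mul, SL2Char.bor_mul, SL2Char.bor_mul, one_mul, mul_one]
      congr 1
      rw [inv_one, Units.val_one]
      field_simp
      ring
  rw [← Nat.card_congr (Equiv.ofBijective rep ⟨hinj, hsurj⟩), Nat.card_sum, Nat.card_prod, Nat.card_fin]
  have hs : Nat.card {a : Fˣ // a ^ 2 = 1} = 2 := by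
    rw [Nat.card_eq_fintype_card, Fintype.card_subtype]
    exact Eq.trans (congrArg Finset.card (Finset.ext fun a => by simp [SL2Char.mem_scal]))
      (SL2Char.card_scal_odd h2)
  have hns : Nat.card {a : Fˣ // a ^ 2 ≠ 1} + 2 = Fintype.card F - 1 := by
    have h : Nat.card {a : Fˣ // a ^ 2 = 1} + Nat.card {a : Fˣ // a ^ 2 ≠ 1} = Nat.card Fˣ := by
      rw [← Nat.card_sum]
      exact Nat.card_congr (Equiv.sumCompl fun a : Fˣ => a ^ 2 = 1)
    rw [hs, Nat.card_units, Nat.card_eq_fintype_card (α := F)] at h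
    omega
  rw [hs]
  omega

omit [DecidableEq F] in
theorem normalizer_US : Subgroup.normalizer ((SL2Sylow.US (F := F)) : Set SL2) = Bor F := by
  ext g
  have hmem : ∀ v : SL2, v ∈ SL2Sylow.US (F := F) ↔ ∃ t : F, v = SL2Char.bor 1 t := by
    intro v
    constructor
    · rintro ⟨t, rfl⟩
      exact ⟨t.toAdd, Subtype.ext (show !![(1 : F), t.toAdd; 0, 1] = _ by simp)⟩
    · rintro ⟨t, rfl⟩
      exact ⟨Multiplicative.ofAdd t, Subtype.ext (show !![(1 : F), t; 0, 1] = _ by simp)⟩
  constructor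
  · intro hg
    obtain ⟨t, ht⟩ := (hmem _).mp ((Subgroup.mem_normalizer_iff.mp hg (SL2Char.bor 1 1)).mp
      ((hmem _).mpr ⟨1, rfl⟩))
    rw [mul_inv_eq_iff_eq_mul] at ht
    have e := congrArg (fun v : SL2 => v.1 1 1) ht
    simp [Matrix.mul_apply, Fin.sum_univ_two] at e
    exact CfsgLib.SL2Borel.mem_borel.mpr e
  · intro hg
    obtain ⟨c, z, -, -, -, rfl⟩ := SL2Char.eq_bor_of_lower (CfsgLib.SL2Borel.mem_borel.mp hg)
    refine Subgroup.mem_normalizer_fintype fun v hv => ?_
    obtain ⟨t, rfl⟩ := (hmem v).mp hv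
    exact (hmem _).mpr ⟨(c : F) ^ 2 * t, bor_eta 1 (one_pow 2) c z t⟩

theorem irr_borel (p : ℕ) [Fact p.Prime] [CharP F p] (h2 : (2 : F) ≠ 0) :
    (∀ χ : IrrCharacter (Bor F), ¬ p ∣ charDegree (χ : Bor F → ℂ)) ∧
      Nat.card (IrrCharacter (Bor F)) = Fintype.card F + 3 := by
  constructor
  · intro χ hp
    haveI hn : ((SL2Sylow.US (F := F)).subgroupOf (Bor F)).Normal := by
      rw [← normalizer_US]; infer_instance
    have hab : ∀ a ∈ (SL2Sylow.US (F := F)).subgroupOf (Bor F), ∀ b ∈ (SL2Sylow.US (F := F)).subgroupOf (Bor F),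
        a * b = b * a := by
      intro a ha b hb
      obtain ⟨s, hs⟩ := Subgroup.mem_subgroupOf.mp ha
      obtain ⟨t, ht⟩ := Subgroup.mem_subgroupOf.mp hb
      refine Subtype.ext ?_
      show (a : SL2) * b = b * a
      rw [← hs, ← ht, ← map_mul, ← map_mul, mul_comm]
    have hle : SL2Sylow.US (F := F) ≤ Bor F := normalizer_US (F := F) ▸ Subgroup.le_normalizer
    have hidx : ((SL2Sylow.US (F := F)).subgroupOf (Bor F)).index = Fintype.card F - 1 := by
      have h := ((SL2Sylow.US (F := F)).subgroupOf (Bor F)).card_mul_index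
      rw [Nat.card_congr (Subgroup.subgroupOfEquivOfLe hle).toEquiv, SL2Sylow.US,
        ← Nat.card_congr (MonoidHom.ofInjective SL2Sylow.us_injective).toEquiv,
        Nat.card_congr Multiplicative.toAdd, Nat.card_eq_fintype_card, CfsgLib.SL2Borel.card_borel] at h
      exact Nat.eq_of_mul_eq_mul_left Fintype.card_pos (h.trans (mul_comm _ _))
    have hd := hidx ▸ (hp.trans (degree_dvd_index χ _ hab))
    exact SL2Tori.not_dvd_char (F := F) p p (Fact.out : p.Prime) (Or.inl hd) rfl
  · haveI : Fintype (Bor F) := Fintype.ofFinite _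
    rw [card_irr_eq_card_conjClasses, card_classes_borel h2]

/-- An element inverting a semisimple element inverts its centraliser. -/
theorem inv_centralizer (hodd : Odd (Fintype.card F)) {x w : SL2} (hx : x.1.trace ^ 2 ≠ 4)
    (hw : w * x * w⁻¹ = x⁻¹) {a : SL2} (ha : a ∈ Subgroup.centralizer ({x} : Set SL2)) :
    w * a * w⁻¹ = a⁻¹ := by
  obtain ⟨p, hp⟩ := CharP.exists F
  haveI := hp
  haveI : Fact p.Prime := ⟨CharP.char_is_prime F p⟩
  have h2 := SL2Orders.two_ne_zero_of_odd hodd
  set A := Subgroup.centralizer ({x} : Set SL2) with hA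
  have hwA : w ∉ A := fun h => SL2Tori.ne_inv h2 hx
    (by rw [← hw, (SL2Tori.mem_centralizer.mp h).eq, mul_inv_cancel_right])
  have hconj : w * a * w⁻¹ ∈ A :=
    (Subgroup.mem_normalizer_iff.mp (SL2Tori.mem_normalizer_centralizer (Or.inr hw)) a).mp ha
  by_cases h4 : a.1.trace ^ 2 = 4
  · have hcardp : ¬ p ∣ Nat.card A := by
      intro hd
      refine SL2Tori.not_dvd_char (F := F) p p (Fact.out : p.Prime) ?_ rfl
      rcases (SL2Tori.isCyclic_centralizer hx).2 with h | h
      · exact Or.inl (h ▸ hd)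
      · exact Or.inr (h ▸ hd)
    have haA : a ^ Nat.card A = 1 := congrArg Subtype.val (pow_card_eq_one' (G := A) (x := ⟨a, ha⟩))
    have hg := pow_gcd_eq_one.mpr ⟨haA, SL2Tori.pow_two_mul_char p h4⟩
    rw [Nat.Coprime.gcd_mul_right_cancel_right 2
      ((Fact.out : p.Prime).coprime_iff_not_dvd.mpr hcardp)] at hg
    have ha2 : a ^ 2 = 1 :=
      orderOf_dvd_iff_pow_eq_one.mp ((orderOf_dvd_of_pow_eq_one hg).trans (Nat.gcd_dvd_right _ 2))
    rcases SL2Orders.eq_one_or_neg_one_of_sq h2 a (by rw [← sq, ha2]) with rfl | rfl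
    · simp
    · rw [inv_eq_of_mul_eq_one_right (show (-1 : SL2) * -1 = 1 by simp)]
      simp
  · have hAa : Subgroup.centralizer ({a} : Set SL2) = A :=
      SL2Tori.centralizer_eq_of_mem (SL2Tori.ns_of_trace hx) (SL2Tori.ns_of_trace h4) ha
    rcases SL2Tori.conj_mem_cases h2 h4 (g := w) (hAa.symm ▸ hconj) with h | h
    · exact absurd (hAa ▸ SL2Tori.mem_centralizer.mpr (mul_inv_eq_iff_eq_mul.mp h) : w ∈ A) hwA
    · exact h

theorem trace_eq_zero_of_sq (h2 : (2 : F) ≠ 0) {w : SL2} (hw : w * w = -1) : w.1.trace = 0 := by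
  have e := SL2Orders.sq_eq w
  have hw' : w.1 * w.1 = -1 := congrArg Subtype.val hw
  rw [hw'] at e
  by_contra h0
  have e' : w.1.trace • w.1 = (0 : Matrix (Fin 2) (Fin 2) F) := by
    have := congrArg (· + 1) e
    simpa using this.symm
  rw [(smul_eq_zero.mp e').resolve_left h0] at hw'
  simp at hw'

theorem count_normalizer_torus (hodd : Odd (Fintype.card F)) {x : SL2} (hx : x.1.trace ^ 2 ≠ 4)
    {ℓ : ℕ} (hℓ : ℓ.Prime) (hℓ2 : ℓ ≠ 2) :
    Nat.card {χ : IrrCharacter (Subgroup.normalizer (Subgroup.centralizer ({x} : Set SL2) : Set SL2)) //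
        ¬ ℓ ∣ charDegree (χ : Subgroup.normalizer (Subgroup.centralizer ({x} : Set SL2) : Set SL2) → ℂ)} =
      Nat.card (Subgroup.centralizer ({x} : Set SL2)) / 2 + 3 := by
  have h2 := SL2Orders.two_ne_zero_of_odd hodd
  set A := Subgroup.centralizer ({x} : Set SL2) with hA
  set N := Subgroup.normalizer (A : Set SL2) with hN
  obtain ⟨w, hw⟩ := SL2Tori.exists_inverting hx
  have hAN : A ≤ N := Subgroup.le_normalizer
  have e := Subgroup.subgroupOfEquivOfLe hAN
  haveI := (SL2Tori.isCyclic_centralizer hx).1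
  have hcyc : IsCyclic (A.subgroupOf N) := isCyclic_of_surjective e.symm e.symm.surjective
  have hcard : Nat.card (A.subgroupOf N) = Nat.card A := Nat.card_congr e.toEquiv
  have heven : 2 ∣ Nat.card A := by
    have h2' := Nat.odd_iff.mp hodd
    rcases (SL2Tori.isCyclic_centralizer hx).2 with h | h <;> rw [h] <;> omega
  have hidx : (A.subgroupOf N).index = 2 := by
    have h := (A.subgroupOf N).card_mul_index
    rw [hcard, hN, SL2Tori.card_normalizer h2 hx, mul_comm 2] at h
    exact Nat.eq_of_mul_eq_mul_left Nat.card_pos h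
  obtain ⟨hdeg, -, htot⟩ := dihedral_type (A.subgroupOf N) hcyc (hcard.symm ▸ heven) hidx
    ⟨w, SL2Tori.mem_normalizer_centralizer (Or.inr hw)⟩
    (fun a ha => Subtype.ext (inv_centralizer hodd hx hw ha))
  refine Eq.trans ?_ (htot.trans (by rw [hcard]))
  refine card_all (fun d => ¬ ℓ ∣ d) fun χ h => ?_
  rcases hdeg χ with e' | e' <;> rw [e'] at h
  · exact hℓ.not_dvd_one h
  · exact hℓ2 ((Nat.prime_dvd_prime_iff_eq hℓ Nat.prime_two).mp h)

theorem count_normalizer_two (hodd : Odd (Fintype.card F)) (S : Sylow 2 SL2) :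
    Nat.card {χ : IrrCharacter (Subgroup.normalizer ((S : Subgroup SL2) : Set SL2)) //
        ¬ 2 ∣ charDegree (χ : Subgroup.normalizer ((S : Subgroup SL2) : Set SL2) → ℂ)} = 4 := by
  have h2 := SL2Orders.two_ne_zero_of_odd hodd
  obtain ⟨T⟩ := SL2Tori.exists_frame hodd S
  set N := Subgroup.normalizer ((S : Subgroup SL2) : Set SL2) with hN
  have hSN : (S : Subgroup SL2) ≤ N := Subgroup.le_normalizer
  by_cases hk3 : 3 ≤ T.k
  · have hNS : N = (S : Subgroup SL2) := T.normalizer_eq_of_big hodd hk3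
    rw [hNS]
    obtain ⟨y, hy, hyA⟩ := T.exists_outside
    have e := Subgroup.subgroupOfEquivOfLe T.zpowers_le
    have hcyc : IsCyclic ((Subgroup.zpowers T.x).subgroupOf (S : Subgroup SL2)) :=
      isCyclic_of_surjective e.symm e.symm.surjective
    obtain ⟨hdeg, hone, -⟩ := dihedral_type ((Subgroup.zpowers T.x).subgroupOf (S : Subgroup SL2)) hcyc
      (by rw [Nat.card_congr e.toEquiv, Nat.card_zpowers, T.hord]
          exact dvd_pow_self 2 (by omega))
      T.index_two ⟨y, hy⟩ (fun a ha => Subtype.ext (T.inv_A hodd hy hyA (T.zpowers_le_A ha)))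
    refine Eq.trans (Nat.card_congr (Equiv.subtypeEquivRight fun χ => ?_)) hone
    rcases hdeg χ with e' | e' <;> rw [e'] <;> simp
  · have hk2 : T.k = 2 := by have := T.hk; omega
    have hS8 : Nat.card (S : Subgroup SL2) = 8 := by rw [T.hS, hk2]; rfl
    have hN24 : Nat.card N = 24 := by
      rw [hN, SL2Tori.normalizer_index_three hodd S T hk2]
      show 3 * Nat.card (S : Subgroup SL2) = 24
      rw [hS8]
    have hx4 : orderOf T.x = 4 := by rw [T.hord, hk2]; rfl
    have hfour : ∀ z ∈ (S : Subgroup SL2), z ^ 4 = 1 := by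
      intro z hz
      by_cases hzA : z ∈ Subgroup.centralizer ({T.x} : Set SL2)
      · obtain ⟨i, rfl⟩ := Subgroup.mem_zpowers_iff.mp ((T.mem_A_iff hz).mp hzA)
        rw [← zpow_natCast, ← _root_.zpow_mul, mul_comm, _root_.zpow_mul, zpow_natCast, ← hx4,
          pow_orderOf_eq_one, _root_.one_zpow]
      · rw [← (T.sq_outside hodd hz hzA).2, pow_orderOf_eq_one]
    obtain ⟨y, hy, hyA⟩ := T.exists_outside
    have hneg : (-1 : SL2) ∈ (S : Subgroup SL2) :=
      (T.sq_outside hodd hy hyA).1 ▸ mul_mem hy hy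
    have hne1 : (-1 : SL2) ≠ 1 := fun e => h2 (by
      have e' := congrArg (fun g : SL2 => g.1 0 0) e
      simp at e'
      linear_combination -e')
    have hZ : 2 ∣ Nat.card (Subgroup.center N) := by
      let z : Subgroup.center N := ⟨⟨-1, hSN hneg⟩, Subgroup.mem_center_iff.mpr fun g =>
        Subtype.ext (Commute.neg_one_right (g : SL2)).eq⟩
      have hz : orderOf z = 2 := by
        refine orderOf_eq_prime (Subtype.ext (Subtype.ext ?_)) fun e => hne1 ?_
        · show (-1 : SL2) ^ 2 = 1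
          simp
        · exact congrArg (fun w : Subgroup.center N => ((w : N) : SL2)) e
      have := orderOf_dvd_natCard z
      rwa [hz] at this
    refine order_24_type hN24 hZ ?_
    have hidx : ((S : Subgroup SL2).subgroupOf N).index = 3 := by
      have h := ((S : Subgroup SL2).subgroupOf N).card_mul_index
      rw [Nat.card_congr (Subgroup.subgroupOfEquivOfLe hSN).toEquiv, hS8, hN24] at h
      omega
    haveI : ((S : Subgroup SL2).subgroupOf N).Normal := Subgroup.normal_in_normalizer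
    have hle : commutator N ≤ (S : Subgroup SL2).subgroupOf N := by
      refine (Subgroup.Normal.quotient_commutative_iff_commutator_le
        (N := (S : Subgroup SL2).subgroupOf N)).mp ?_
      haveI : Fact (Nat.Prime 3) := ⟨Nat.prime_three⟩
      haveI := isCyclic_of_prime_card (α := N ⧸ (S : Subgroup SL2).subgroupOf N) (p := 3)
        (by rw [← Subgroup.index_eq_card, hidx])
      letI := IsCyclic.commGroup (α := N ⧸ (S : Subgroup SL2).subgroupOf N)
      exact ⟨⟨fun a b => mul_comm a b⟩⟩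
    suffices heq : commutator N = (S : Subgroup SL2).subgroupOf N by rw [heq, hidx]
    refine le_antisymm hle ?_
    obtain ⟨g, hgS⟩ : ∃ g : N, (g : SL2) ∉ (S : Subgroup SL2) := by
      by_contra h
      push Not at h
      have : ((S : Subgroup SL2).subgroupOf N) = ⊤ := eq_top_iff.mpr fun g _ => h g
      rw [this, Subgroup.index_top] at hidx
      omega
    set x : N := ⟨T.x, hSN T.hxS⟩
    set z : N := g * x * g⁻¹ * x⁻¹ with hz
    have hzc : z ∈ commutator N := by
      rw [hz, ← commutatorElement_def, commutator_def]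
      exact Subgroup.commutator_mem_commutator (Subgroup.mem_top _) (Subgroup.mem_top _)
    have hzS : (z : SL2) ∈ (S : Subgroup SL2) := hle hzc
    have hz2 : (z : SL2) * z ≠ 1 := by
      intro h
      have hzA : (z : SL2) ∈ Subgroup.centralizer ({T.x} : Set SL2) := by
        rcases SL2Orders.eq_one_or_neg_one_of_sq h2 _ h with e | e <;> rw [e]
        · exact one_mem _
        · exact SL2Tori.mem_centralizer.mpr (Commute.neg_one_left _)
      have hgx : (g : SL2) * T.x * (g : SL2)⁻¹ ∈ Subgroup.centralizer ({T.x} : Set SL2) := by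
        have := mul_mem hzA T.x_mem_A
        simpa [hz, x] using this
      exact hgS (T.mem_of_normalizer_A hodd g.2 (SL2Tori.conj_mem_cases h2 T.hx hgx))
    have hzz : (z : SL2) * z = -1 := by
      refine (SL2Orders.eq_one_or_neg_one_of_sq h2 _ ?_).resolve_left hz2
      have := hfour _ hzS
      rwa [show (4 : ℕ) = 2 * 2 from rfl, pow_mul, sq, sq] at this
    have hz4 : orderOf (z : SL2) = 4 :=
      orderOf_eq_prime_pow (p := 2) (n := 1) (by rw [pow_one, sq]; exact hz2) (hfour _ hzS)
    have hzt : (z : SL2).1.trace ^ 2 ≠ 4 := by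
      rw [trace_eq_zero_of_sq h2 hzz]
      intro h
      exact mul_ne_zero h2 h2 (by linear_combination -h)
    have hxx : T.x * T.x = -1 := by
      refine (SL2Orders.eq_one_or_neg_one_of_sq h2 _ ?_).resolve_left fun h => ?_
      · have := hfour _ T.hxS
        rwa [show (4 : ℕ) = 2 * 2 from rfl, pow_mul, sq, sq] at this
      · have := orderOf_dvd_of_pow_eq_one (show T.x ^ 2 = 1 by rw [sq, h])
        rw [hx4] at this; omega
    let T' : SL2Tori.TwoFrame (S : Subgroup SL2) :=
      { x := z, k := T.k, r := T.r, hk := T.hk, hr := T.hr, hk8 := T.hk8, hxS := hzS, hx := hzt,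
        hord := by rw [hz4, hk2]; rfl
        hS := T.hS
        hA := by
          obtain ⟨c, hc⟩ := isConj_iff.mp (PSL2Product.isConj_of_trace T.hx
            ((trace_eq_zero_of_sq h2 hzz).trans (trace_eq_zero_of_sq h2 hxx).symm))
          rw [← T.hA, ← hc, ← SL2Sylow.map_centralizer]
          exact (Nat.card_congr ((Subgroup.centralizer ({T.x} : Set SL2)).equivMapOfInjective _
            (MulAut.conj c).injective).toEquiv).symm }
    have hz'n : (g : SL2) * z * (g : SL2)⁻¹ ∉ Subgroup.zpowers (z : SL2) := by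
      intro h
      exact hgS (T'.mem_of_normalizer_A hodd g.2 (SL2Tori.conj_mem_cases h2 hzt (T'.zpowers_le_A h)))
    set K := (commutator N).map N.subtype with hK
    have hKle : K ≤ (S : Subgroup SL2) := by
      rintro _ ⟨v, hv, rfl⟩
      exact hle hv
    have hzK : Subgroup.zpowers (z : SL2) ≤ K := Subgroup.zpowers_le.mpr ⟨z, hzc, rfl⟩
    have hz'K : (g : SL2) * z * (g : SL2)⁻¹ ∈ K :=
      ⟨g * z * g⁻¹, (inferInstance : (commutator N).Normal).conj_mem z hzc g, rfl⟩
    have hKcard : 4 < Nat.card K := by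
      by_contra hlt
      have heq := Subgroup.eq_of_le_of_card_ge hzK (by rw [Nat.card_zpowers, hz4]; omega)
      exact hz'n (heq ▸ hz'K)
    have hK8 : Nat.card K = 8 := by
      have hd : Nat.card K ∣ 8 := hS8 ▸ Subgroup.card_dvd_of_le hKle
      have : Nat.card K ≤ 8 := Nat.le_of_dvd (by norm_num) hd
      interval_cases h : Nat.card K <;> omega
    have hKS : K = (S : Subgroup SL2) := Subgroup.eq_of_le_of_card_ge hKle (by rw [hS8, hK8])
    intro v hv
    obtain ⟨v', hv', e⟩ := (hKS.symm ▸ hv : (v : SL2) ∈ K)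
    exact Subtype.ext e ▸ hv'

end CfsgLib.SL2McKay
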