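import Cfsg.Agent.Lib.SL2Char.Table
import Cfsg.Agent.Lib.SL2Orders
import Cfsg.Agent.Lib.SL2Char.Tori
import Cfsg.Agent.Lib.Blocks.DefectZeroCount
import Cfsg.Agent.Lib.Blocks.Vanishing
import Cfsg.Agent.Lib.Blocks.SecondMain
import Cfsg.Agent.Lib.Blocks.Orth

/-!
The blocks of `SL₂(q)`, `q` odd, in the defining characteristic.
-/

set_option autoImplicit false

namespace CfsgLib.SL2Blocks

open Matrix Cfsg
open CfsgLib.Blocks
open scoped ComplexConjugate

variable {F : Type*} [Field F] [Fintype F] [DecidableEq F] {p : ℕ} [Fact p.Prime] [CharP F p]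
  {M : Ideal Cfsg.AlgInt}

local notation "SL2" => Matrix.SpecialLinearGroup (Fin 2) F
local notation "qC" => (Fintype.card F : ℂ)

theorem two_ne (hp2 : p ≠ 2) : (2 : F) ≠ 0 := by
  intro h
  exact hp2 ((Nat.prime_dvd_prime_iff_eq (Fact.out : p.Prime) Nat.prime_two).mp
    ((CharP.cast_eq_zero_iff F p 2).mp (by exact_mod_cast h)))

theorem dvd_card_field : p ∣ Fintype.card F := by
  obtain ⟨n, -, hn⟩ := FiniteField.card F p
  rw [hn]; exact dvd_pow_self _ n.ne_zero

theorem dvd_card_group : p ∣ Nat.card SL2 := by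
  rw [SLCard.card_SL_two]
  exact Dvd.dvd.mul_right (dvd_card_field (F := F)) _

theorem res_qC (hM : IsPModular p M) : res hM (qC) = 0 := by
  haveI := res_charP hM
  rw [res_natCast, CharP.cast_eq_zero_iff (AlgInt ⧸ M) p]
  exact dvd_card_field (F := F)

theorem res_two_ne (hM : IsPModular p M) (hp2 : p ≠ 2) : res hM (2 : ℂ) ≠ 0 := by
  haveI := res_charP hM
  rw [show (2 : ℂ) = ((2 : ℕ) : ℂ) by norm_num, res_natCast, Ne, CharP.cast_eq_zero_iff (AlgInt ⧸ M) p]
  exact fun h => hp2 ((Nat.prime_dvd_prime_iff_eq (Fact.out : p.Prime) Nat.prime_two).mp h)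

theorem not_defZero (hM : IsPModular p M) (χ : IrrCharacter SL2)
    (hne : (χ : SL2 → ℂ) 1 ≠ qC) :
    res hM ((χ : SL2 → ℂ) 1) ≠ 0 ∧ ¬ IsDefZero p χ := by
  have h1 : res hM ((χ : SL2 → ℂ) 1) ≠ 0 := by
    haveI := res_isDomain hM
    obtain ⟨C, hC, hcard⟩ := SL2Char.exists_torus (F := F)
    have hm := memRing_irr hM χ 1
    have hq := memRing_natCast hM (Fintype.card F)
    have hone : MemLocalRing M (1 : ℂ) := (loc hM).one_mem
    have htwo : MemLocalRing M (2 : ℂ) := by simpa using memRing_natCast hM 2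
    rcases SL2Char.degree_cases C hC hcard χ.2 with
      ⟨-, h⟩ | ⟨-, h⟩ | ⟨α, -, -, h⟩ | ⟨θ, -, -, h⟩ | ⟨-, H, -, h⟩ | ⟨-, H, -, h⟩
    · rw [h, res_one]; exact one_ne_zero
    · exact absurd h hne
    · rw [h, res_add hM hq hone, res_qC hM, res_one, zero_add]; exact one_ne_zero
    · rw [h, res_sub hM hq hone, res_qC hM, res_one, zero_sub]; exact neg_ne_zero.mpr one_ne_zero
    · intro h0
      have := congrArg (res hM) h
      rw [res_mul hM htwo hm, h0, mul_zero, res_add hM hq hone, res_qC hM, res_one, zero_add] at this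
      exact zero_ne_one this
    · intro h0
      have := congrArg (res hM) h
      rw [res_mul hM htwo hm, h0, mul_zero, res_sub hM hq hone, res_qC hM, res_one, zero_sub] at this
      exact neg_ne_zero.mpr one_ne_zero this.symm
  refine ⟨h1, fun h => h1 ?_⟩
  haveI := res_charP hM
  rw [← irr_charDegree_cast, res_natCast, CharP.cast_eq_zero_iff (AlgInt ⧸ M) p]
  refine Nat.dvd_of_factorization_pos ?_
  rw [h]
  exact (Nat.Prime.factorization_pos_of_dvd hM.1 Nat.card_pos.ne' (dvd_card_group (F := F))).ne'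

/-- The sign of a character on `-1`. -/
theorem center_value (χ : IrrCharacter SL2) :
    (χ : SL2 → ℂ) (-1) = (χ : SL2 → ℂ) 1 ∨ (χ : SL2 → ℂ) (-1) = -(χ : SL2 → ℂ) 1 := by
  have hz : (-1 : SL2) ∈ Subgroup.center SL2 :=
    Subgroup.mem_center_iff.mpr fun g => (Commute.neg_one_right g).eq
  have h := central_value_pow hz χ
  have h2 : ((χ : SL2 → ℂ) (-1) / (χ : SL2 → ℂ) 1) ^ 2 = 1 := by
    obtain ⟨c, hc⟩ := orderOf_dvd_of_pow_eq_one (show (-1 : SL2) ^ 2 = 1 by simp)
    exact (congrArg (((χ : SL2 → ℂ) (-1) / (χ : SL2 → ℂ) 1) ^ ·) hc).trans (by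
      show _ ^ (orderOf (-1 : SL2) * c) = 1
      rw [pow_mul, h, one_pow])
  rcases sq_eq_one_iff.mp h2 with e | e
  · exact Or.inl (by rw [div_eq_one_iff_eq (irr_one_ne_zero χ)] at e; exact e)
  · exact Or.inr (by rw [div_eq_iff (irr_one_ne_zero χ)] at e; rw [e]; ring)

theorem neg_one_ne_one (hp2 : p ≠ 2) : (-1 : SL2) ≠ 1 := fun e => two_ne (F := F) hp2 (by
  have e' := congrArg (fun g : SL2 => g.1 0 0) e
  simp at e'
  linear_combination -e')

/-- An element whose centraliser has order divisible by `p` is central times a `p`-element. -/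
theorem decompose (hp2 : p ≠ 2) (g : SL2)
    (hg : p ∣ Nat.card (Subgroup.centralizer ({g} : Set SL2))) :
    ∃ (z u : SL2) (k : ℕ), (z = 1 ∨ z = -1) ∧ Commute u z ∧ orderOf u = p ^ k ∧ g = u * z := by
  have h2 := two_ne (F := F) hp2
  have ht : g.1.trace ^ 2 = 4 := by
    by_contra h
    rcases (SL2Tori.isCyclic_centralizer h).2 with e | e
    · exact SL2Tori.not_dvd_char (F := F) p p (Fact.out : p.Prime) (Or.inl (e ▸ hg)) rfl
    · exact SL2Tori.not_dvd_char (F := F) p p (Fact.out : p.Prime) (Or.inr (e ▸ hg)) rfl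
  have key : ∀ u : SL2, u.1.trace = 2 → ∃ k, orderOf u = p ^ k := by
    intro u hu
    have hd := SL2Orders.sq_eq u
    rw [hu] at hd
    have hN : (u.1 - 1) * (u.1 - 1) = 0 := by
      simp only [sub_mul, mul_sub, one_mul, mul_one, hd, two_smul]
      abel
    haveI : ExpChar (Matrix (Fin 2) (Fin 2) F) p := ExpChar.prime (Fact.out : p.Prime)
    have hu' : u ^ p = 1 := by
      refine Subtype.ext ?_
      show (u ^ p).1 = 1
      rw [Matrix.SpecialLinearGroup.coe_pow, show u.1 = 1 + (u.1 - 1) by rw [add_sub_cancel],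
        add_pow_expChar_of_commute p (Commute.one_left _), one_pow]
      obtain ⟨j, hj⟩ := Nat.exists_eq_add_of_le (Fact.out : p.Prime).two_le
      rw [hj, pow_add, sq, hN, zero_mul, add_zero]
    rcases (Nat.dvd_prime (Fact.out : p.Prime)).mp (orderOf_dvd_of_pow_eq_one hu') with h | h
    · exact ⟨0, by rw [h, pow_zero]⟩
    · exact ⟨1, by rw [h, pow_one]⟩
  have h' : (g.1.trace - 2) * (g.1.trace + 2) = 0 := by linear_combination ht
  rcases mul_eq_zero.mp h' with h | h
  · obtain ⟨k, hk⟩ := key g (sub_eq_zero.mp h)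
    exact ⟨1, g, k, Or.inl rfl, Commute.one_right g, hk, (mul_one g).symm⟩
  · obtain ⟨k, hk⟩ := key (-g) (by
      show (-g.1).trace = 2
      rw [Matrix.trace_neg]; linear_combination -h)
    exact ⟨-1, -g, k, Or.inr rfl, Commute.neg_one_right _, hk, by simp⟩

/-- Characters of degree prime to `p` with the same sign at `-1` lie in one block. -/
theorem sameBlock_of_sign (hM : IsPModular p M) (hp2 : p ≠ 2) {χ ψ : IrrCharacter SL2}
    (hχ : (χ : SL2 → ℂ) 1 ≠ qC) (hψ : (ψ : SL2 → ℂ) 1 ≠ qC)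
    (hs : (χ : SL2 → ℂ) (-1) * (ψ : SL2 → ℂ) 1 = (ψ : SL2 → ℂ) (-1) * (χ : SL2 → ℂ) 1) :
    SameBlock M (χ : SL2 → ℂ) (ψ : SL2 → ℂ) := by
  haveI := res_isDomain hM
  rw [sameBlock_iff_res hM]
  intro g
  by_cases hg : p ∣ Nat.card (Subgroup.centralizer ({g} : Set SL2))
  · obtain ⟨z, u, k, hz, hc, hk, rfl⟩ := decompose hp2 g hg
    have hz' : (χ : SL2 → ℂ) z * (ψ : SL2 → ℂ) 1 = (ψ : SL2 → ℂ) z * (χ : SL2 → ℂ) 1 := by
      rcases hz with rfl | rfl
      · ring
      · exact hs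
    have hmul : ∀ φ : IrrCharacter SL2, res hM (clv (u * z) φ) * res hM ((φ : SL2 → ℂ) 1) =
        res hM (((Subgroup.centralizer ({u * z} : Set SL2)).index : ℂ)) * res hM ((φ : SL2 → ℂ) z) := by
      intro φ
      rw [← irr_res_pPart hM φ hc hk, ← res_mul hM (memRing_clv hM _ φ) (memRing_irr hM φ 1),
        ← res_mul hM (memRing_natCast hM _) (memRing_irr hM φ _)]
      congr 1
      rw [clv, centralChar, div_mul_cancel₀ _ (irr_one_ne_zero φ)]
    have hz'' := congrArg (res hM) hz'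
    rw [res_mul hM (memRing_irr hM χ z) (memRing_irr hM ψ 1),
      res_mul hM (memRing_irr hM ψ z) (memRing_irr hM χ 1)] at hz''
    have hχ1 := (not_defZero hM χ hχ).1
    have hψ1 := (not_defZero hM ψ hψ).1
    refine mul_right_cancel₀ (mul_ne_zero hχ1 hψ1) ?_
    linear_combination res hM ((ψ : SL2 → ℂ) 1) * hmul χ - res hM ((χ : SL2 → ℂ) 1) * hmul ψ +
      res hM (((Subgroup.centralizer ({u * z} : Set SL2)).index : ℂ)) * hz''
  · rw [res_clv_of_not_defZero hM hg (not_defZero hM χ hχ).2,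
      res_clv_of_not_defZero hM hg (not_defZero hM ψ hψ).2]

theorem centralizer_of_center {G : Type*} [Group G] {z : G} (hz : z ∈ Subgroup.center G) :
    Subgroup.centralizer ({z} : Set G) = ⊤ := by
  rw [eq_top_iff]
  intro x _
  rw [Subgroup.mem_centralizer_singleton_iff]
  exact Subgroup.mem_center_iff.mp hz x

/-- Opposite signs separate blocks. -/
theorem not_sameBlock_of_sign (hM : IsPModular p M) (hp2 : p ≠ 2) {χ ψ : IrrCharacter SL2}
    (hχ : (χ : SL2 → ℂ) (-1) = (χ : SL2 → ℂ) 1) (hψ : (ψ : SL2 → ℂ) (-1) = -(ψ : SL2 → ℂ) 1) :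
    ¬ SameBlock M (χ : SL2 → ℂ) (ψ : SL2 → ℂ) := by
  intro h
  have h' := (sameBlock_iff_res hM χ ψ).mp h (-1)
  have hz : (-1 : SL2) ∈ Subgroup.center SL2 :=
    Subgroup.mem_center_iff.mpr fun g => (Commute.neg_one_right g).eq
  rw [clv, clv, centralChar, centralChar, centralizer_of_center hz, Subgroup.index_top,
    Nat.cast_one, one_mul, one_mul, hχ, hψ, neg_div, div_self (irr_one_ne_zero χ),
    div_self (irr_one_ne_zero ψ), res_neg hM (loc hM).one_mem, res_one] at h'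
  refine res_two_ne hM hp2 ?_
  rw [show (2 : ℂ) = 1 + 1 by norm_num, res_add hM (loc hM).one_mem (loc hM).one_mem, res_one]
  linear_combination h'

theorem card_centralizer_unip (hp2 : p ≠ 2) :
    Nat.card (Subgroup.centralizer ({PSL2.uSL (1 : F)} : Set SL2)) = 2 * Fintype.card F := by
  have h2 := two_ne (F := F) hp2
  rw [TwoByTwo.card_centralizer_uSL one_ne_zero]
  congr 1
  rw [Nat.card_eq_two_iff]
  refine ⟨⟨1, one_mul 1⟩, ⟨-1, by ring⟩, fun h => h2 ?_, ?_⟩
  · have := congrArg Subtype.val h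
    simp at this
    linear_combination this
  · ext ⟨a, ha⟩
    simp only [Set.mem_insert_iff, Set.mem_singleton_iff, Set.mem_univ, iff_true]
    rcases mul_self_eq_one_iff.mp ha with rfl | rfl
    · exact Or.inl rfl
    · exact Or.inr rfl

/-- The Steinberg character is alone in its block. -/
theorem not_sameBlock_st (hM : IsPModular p M) (hp2 : p ≠ 2) {χ ψ : IrrCharacter SL2}
    (hχ : (χ : SL2 → ℂ) 1 = qC) (hψ : (ψ : SL2 → ℂ) 1 ≠ qC) :
    ¬ SameBlock M (χ : SL2 → ℂ) (ψ : SL2 → ℂ) := by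
  haveI := res_isDomain hM
  haveI := res_charP hM
  intro h
  obtain ⟨C, hC, hcard⟩ := SL2Char.exists_torus (F := F)
  have hu : PSL2.uSL (1 : F) = SL2Char.bor 1 1 := Subtype.ext (by simp [PSL2.coe_uSL])
  set u := PSL2.uSL (1 : F) with hudef
  have hχu : (χ : SL2 → ℂ) u = 0 := by
    rw [SL2Char.eq_st_of_degree C hC hcard χ.2 hχ, hu]
    exact SL2Char.st_bor_unip (one_pow 2) one_ne_zero
  have h' := (sameBlock_iff_res hM χ ψ).mp h u
  rw [show clv u χ = 0 by rw [clv, centralChar, hχu, mul_zero, zero_div], res_zero] at h'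
  have hord : ∃ k, orderOf u = p ^ k := by
    have : u ^ p = 1 := by
      have hn : ∀ n : ℕ, (u ^ n).1 = !![(1 : F), (n : F); 0, 1] := by
        intro n
        induction n with
        | zero => simp [Matrix.one_fin_two]
        | succ n ih =>
          rw [pow_succ, Matrix.SpecialLinearGroup.coe_mul, ih, hudef, PSL2.coe_uSL]
          simp [Matrix.mul_fin_two, add_comm]
      exact Subtype.ext (by
        show (u ^ p).1 = 1
        rw [hn, CharP.cast_eq_zero, Matrix.one_fin_two])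
    rcases (Nat.dvd_prime (Fact.out : p.Prime)).mp (orderOf_dvd_of_pow_eq_one this) with e | e
    · exact ⟨0, by rw [e, pow_zero]⟩
    · exact ⟨1, by rw [e, pow_one]⟩
  obtain ⟨k, hk⟩ := hord
  have hru : res hM ((ψ : SL2 → ℂ) u) = res hM ((ψ : SL2 → ℂ) 1) := by
    have := irr_res_pPart hM ψ (Commute.one_right u) hk
    rwa [mul_one] at this
  have key : res hM (clv u ψ) * res hM ((ψ : SL2 → ℂ) 1) =
      res hM (((Subgroup.centralizer ({u} : Set SL2)).index : ℂ)) * res hM ((ψ : SL2 → ℂ) 1) := by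
    rw [← res_mul hM (memRing_clv hM _ ψ) (memRing_irr hM ψ 1)]
    rw [← hru]
    rw [← res_mul hM (memRing_natCast hM _) (memRing_irr hM ψ _)]
    congr 1
    rw [clv, centralChar, div_mul_cancel₀ _ (irr_one_ne_zero ψ)]
  rw [← h', zero_mul] at key
  rcases mul_eq_zero.mp key.symm with hi | hi
  · rw [res_natCast, CharP.cast_eq_zero_iff (AlgInt ⧸ M) p] at hi
    have hidx := Subgroup.index_mul_card (Subgroup.centralizer ({u} : Set SL2))
    rw [hudef, card_centralizer_unip hp2, SLCard.card_SL_two] at hidx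
    have hq := Fintype.card_pos (α := F)
    have hidx' : (Subgroup.centralizer ({PSL2.uSL (1 : F)} : Set SL2)).index * 2 =
        Fintype.card F ^ 2 - 1 := by
      apply Nat.eq_of_mul_eq_mul_left hq
      linarith [hidx]
    rw [hudef] at hi
    have hd : p ∣ Fintype.card F ^ 2 - 1 := hidx' ▸ Dvd.dvd.mul_right hi 2
    have hd2 : p ∣ Fintype.card F ^ 2 := dvd_pow (dvd_card_field (F := F)) two_ne_zero
    have := Nat.dvd_sub hd2 hd
    rw [show Fintype.card F ^ 2 - (Fintype.card F ^ 2 - 1) = 1 by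
      have := Nat.one_le_pow 2 _ hq; omega] at this
    exact (Fact.out : p.Prime).not_dvd_one this
  · exact (not_defZero hM ψ hψ).1 hi

section Sums

open scoped Classical

/-- Half of the squared degrees belong to each sign. -/
theorem sum_sign (hp2 : p ≠ 2) :
    2 * ∑ χ : IrrCharacter SL2, (if (χ : SL2 → ℂ) (-1) = (χ : SL2 → ℂ) 1 then (χ : SL2 → ℂ) 1 ^ 2 else 0) =
        (Nat.card SL2 : ℂ) ∧
      2 * ∑ χ : IrrCharacter SL2, (if (χ : SL2 → ℂ) (-1) = (χ : SL2 → ℂ) 1 then 0 else (χ : SL2 → ℂ) 1 ^ 2) =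
        (Nat.card SL2 : ℂ) := by
  have h1 := CharTheory.sum_irr_degree_sq (G := SL2)
  have h2 := CharTheory.sum_irr_apply_mul_degree (-1 : SL2)
  rw [if_neg (neg_one_ne_one hp2)] at h2
  have e : ∀ χ : IrrCharacter SL2, (χ : SL2 → ℂ) (-1) * (χ : SL2 → ℂ) 1 =
      (if (χ : SL2 → ℂ) (-1) = (χ : SL2 → ℂ) 1 then (χ : SL2 → ℂ) 1 ^ 2 else 0) -
      (if (χ : SL2 → ℂ) (-1) = (χ : SL2 → ℂ) 1 then 0 else (χ : SL2 → ℂ) 1 ^ 2) := by
    intro χ
    split_ifs with h
    · rw [h]; ring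
    · rw [(center_value χ).resolve_left h]; ring
  have e' : ∀ χ : IrrCharacter SL2, (χ : SL2 → ℂ) 1 ^ 2 =
      (if (χ : SL2 → ℂ) (-1) = (χ : SL2 → ℂ) 1 then (χ : SL2 → ℂ) 1 ^ 2 else 0) +
      (if (χ : SL2 → ℂ) (-1) = (χ : SL2 → ℂ) 1 then 0 else (χ : SL2 → ℂ) 1 ^ 2) := by
    intro χ
    split_ifs <;> ring
  simp only [e, Finset.sum_sub_distrib] at h2
  rw [Finset.sum_congr rfl fun χ _ => e' χ, Finset.sum_add_distrib] at h1
  exact ⟨by linear_combination h1 + h2, by linear_combination h1 - h2⟩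

variable (F)

/-- The three sets of characters. -/
def stSet : Set (IrrCharacter (Matrix.SpecialLinearGroup (Fin 2) F)) :=
  {χ | (χ : Matrix.SpecialLinearGroup (Fin 2) F → ℂ) 1 = (Fintype.card F : ℂ)}

/-- Trivial on the centre, other than the Steinberg character. -/
def plusSet : Set (IrrCharacter (Matrix.SpecialLinearGroup (Fin 2) F)) :=
  {χ | (χ : Matrix.SpecialLinearGroup (Fin 2) F → ℂ) (-1) = (χ : Matrix.SpecialLinearGroup (Fin 2) F → ℂ) 1 ∧
    (χ : Matrix.SpecialLinearGroup (Fin 2) F → ℂ) 1 ≠ (Fintype.card F : ℂ)}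

/-- Faithful on the centre. -/
def minusSet : Set (IrrCharacter (Matrix.SpecialLinearGroup (Fin 2) F)) :=
  {χ | (χ : Matrix.SpecialLinearGroup (Fin 2) F → ℂ) (-1) = -(χ : Matrix.SpecialLinearGroup (Fin 2) F → ℂ) 1}

variable {F}

theorem st_sign : (SL2Char.st (-1 : SL2)) = qC := by
  have e : (-1 : SL2) = SL2Char.bor (-1 : Fˣ) 0 := Subtype.ext (by
    show -(1 : Matrix (Fin 2) (Fin 2) F) = _
    ext i j
    fin_cases i <;> fin_cases j <;> simp [SL2Char.bor])
  rw [e, SL2Char.st_bor_scalar (by simp)]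

theorem sign_of_st (χ : IrrCharacter SL2) (h : (χ : SL2 → ℂ) 1 = qC) :
    (χ : SL2 → ℂ) (-1) = (χ : SL2 → ℂ) 1 := by
  obtain ⟨C, hC, hcard⟩ := SL2Char.exists_torus (F := F)
  rw [h, SL2Char.eq_st_of_degree C hC hcard χ.2 h, st_sign]

theorem not_both (χ : IrrCharacter SL2) (h : (χ : SL2 → ℂ) (-1) = -(χ : SL2 → ℂ) 1) :
    ¬ (χ : SL2 → ℂ) (-1) = (χ : SL2 → ℂ) 1 := fun e =>
  irr_one_ne_zero χ (by linear_combination (h - e) / 2)

/-- A block is one of the three sets. -/
theorem block_cases (hM : IsPModular p M) (hp2 : p ≠ 2) (χ : IrrCharacter SL2) :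
    (χ ∈ stSet F → blockOf M (χ : SL2 → ℂ) = stSet F) ∧
    (χ ∈ plusSet F → blockOf M (χ : SL2 → ℂ) = plusSet F) ∧
    (χ ∈ minusSet F → blockOf M (χ : SL2 → ℂ) = minusSet F) := by
  have hne : ∀ φ : IrrCharacter SL2, φ ∈ minusSet F → (φ : SL2 → ℂ) 1 ≠ qC := fun φ hφ h =>
    not_both φ hφ (sign_of_st φ h)
  refine ⟨fun h => Set.ext fun ψ => ⟨fun hψ => ?_, fun hψ => ?_⟩,
    fun h => Set.ext fun ψ => ⟨fun hψ => ?_, fun hψ => ?_⟩,
    fun h => Set.ext fun ψ => ⟨fun hψ => ?_, fun hψ => ?_⟩⟩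
  · by_contra hne'
    exact not_sameBlock_st hM hp2 h hne' hψ
  · obtain ⟨C, hC, hcard⟩ := SL2Char.exists_torus (F := F)
    rw [show ψ = χ from Subtype.ext ((SL2Char.eq_st_of_degree C hC hcard ψ.2 hψ).trans
      (SL2Char.eq_st_of_degree C hC hcard χ.2 h).symm)]
    exact mem_blockOf_self hM χ
  · refine ⟨?_, fun hst => not_sameBlock_st hM hp2 hst h.2 (sameBlock_symm hM hψ)⟩
    rcases center_value ψ with e | e
    · exact e
    · exact absurd hψ (not_sameBlock_of_sign hM hp2 h.1 e)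
  · exact sameBlock_of_sign hM hp2 h.2 hψ.2 (by rw [h.1, hψ.1]; ring)
  · rcases center_value ψ with e | e
    · exact absurd (sameBlock_symm hM hψ) (not_sameBlock_of_sign hM hp2 e h)
    · exact e
  · exact sameBlock_of_sign hM hp2 (hne χ h) (hne ψ hψ) (by rw [h, hψ]; ring)

theorem sum_plus (hp2 : p ≠ 2) :
    2 * ∑ χ ∈ bset (plusSet F), (χ : SL2 → ℂ) 1 ^ 2 = (Nat.card SL2 : ℂ) - 2 * qC ^ 2 := by
  obtain ⟨C, hC, hcard⟩ := SL2Char.exists_torus (F := F)
  let s : IrrCharacter SL2 := ⟨SL2Char.st, SL2Char.isIrr_st⟩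
  have hs1 : (s : SL2 → ℂ) 1 = qC := SL2Char.st_one
  have heq : (Finset.univ.filter fun χ : IrrCharacter SL2 => (χ : SL2 → ℂ) (-1) = (χ : SL2 → ℂ) 1) =
      insert s (bset (plusSet F)) := by
    ext χ
    simp only [Finset.mem_filter, Finset.mem_univ, true_and, Finset.mem_insert, mem_bset, plusSet,
      Set.mem_setOf_eq]
    constructor
    · intro h
      by_cases hd : (χ : SL2 → ℂ) 1 = qC
      · exact Or.inl (Subtype.ext (SL2Char.eq_st_of_degree C hC hcard χ.2 hd))
      · exact Or.inr ⟨h, hd⟩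
    · rintro (rfl | h)
      · exact sign_of_st s hs1
      · exact h.1
  have hnot : s ∉ bset (plusSet F) := fun h => (mem_bset.mp h).2 hs1
  have h := (sum_sign (F := F) hp2).1
  rw [← Finset.sum_filter, heq, Finset.sum_insert hnot, hs1] at h
  linear_combination h

theorem sum_minus (hp2 : p ≠ 2) :
    2 * ∑ χ ∈ bset (minusSet F), (χ : SL2 → ℂ) 1 ^ 2 = (Nat.card SL2 : ℂ) := by
  have heq : (Finset.univ.filter fun χ : IrrCharacter SL2 => ¬ (χ : SL2 → ℂ) (-1) = (χ : SL2 → ℂ) 1) =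
      bset (minusSet F) := by
    ext χ
    simp only [Finset.mem_filter, Finset.mem_univ, true_and, mem_bset, minusSet, Set.mem_setOf_eq]
    exact ⟨fun h => (center_value χ).resolve_left h, not_both χ⟩
  have h := (sum_sign (F := F) hp2).2
  rwa [Finset.sum_ite, Finset.sum_const_zero, zero_add, heq] at h

theorem nonempty_sets (hp2 : p ≠ 2) :
    (stSet F).Nonempty ∧ (plusSet F).Nonempty ∧ (minusSet F).Nonempty := by
  refine ⟨⟨⟨SL2Char.st, SL2Char.isIrr_st⟩, SL2Char.st_one⟩,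
    ⟨oneIrr SL2, rfl, fun h => ?_⟩, ?_⟩
  · have h' : ((1 : ℕ) : ℂ) = qC := by rw [Nat.cast_one]; exact h
    have : (1 : ℕ) = Fintype.card F := by exact_mod_cast h'
    have := Fintype.one_lt_card (α := F)
    omega
  · by_contra hne
    have h := sum_minus (F := F) hp2
    rw [Finset.sum_eq_zero (fun χ hχ => absurd ⟨χ, mem_bset.mp hχ⟩ hne), mul_zero] at h
    exact Nat.card_pos.ne' (by exact_mod_cast h.symm : Nat.card SL2 = 0)

theorem isDefect_of_coeff (hM : IsPModular p M) {B : Set (IrrCharacter SL2)} (hB : IsPBlock M B)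
    (n : ℕ) {v : ℂ} (hv : blockCoeff B 1 * (n : ℂ) = v) (hres : res hM v ≠ 0) (P : Sylow p SL2) :
    IsDefectGroup p M B (P : Subgroup SL2) := by
  have hmem := memRing_blockCoeff hM hB (1 : SL2)
  refine ⟨1, ⟨hmem, fun h => hres ?_, fun χ _ => ?_⟩, ?_⟩
  · rw [← hv, res_mul hM hmem (memRing_natCast hM n), (res_eq_zero_iff hM hmem).mpr h, zero_mul]
  · rw [centralChar, centralizer_of_center (one_mem _), Subgroup.index_top, Nat.cast_one, one_mul,
      div_self (irr_one_ne_zero χ)]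
    exact not_memIdeal_one hM
  · have hle : (P : Subgroup SL2) ≤ Subgroup.centralizer ({(1 : SL2)} : Set SL2) := by
      rw [centralizer_of_center (one_mem _)]; exact le_top
    exact ⟨P.subtype hle, (Subgroup.map_subgroupOf_eq_of_le hle).symm⟩

theorem defect_groups (hM : IsPModular p M) (hp2 : p ≠ 2) (P : Sylow p SL2)
    (hplus : IsPBlock M (plusSet F)) (hminus : IsPBlock M (minusSet F)) :
    IsDefectGroup p M (plusSet F) (P : Subgroup SL2) ∧
      IsDefectGroup p M (minusSet F) (P : Subgroup SL2) := by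
  haveI := res_isDomain hM
  have hG0 : (Nat.card SL2 : ℂ) ≠ 0 := Nat.cast_ne_zero.mpr Nat.card_pos.ne'
  have hco : ∀ B : Set (IrrCharacter SL2), blockCoeff B 1 =
      (Nat.card SL2 : ℂ)⁻¹ * ∑ χ ∈ bset B, (χ : SL2 → ℂ) 1 ^ 2 := by
    intro B
    rw [blockCoeff, finsum_mem_bset B]
    congr 1
    exact Finset.sum_congr rfl fun χ _ => by rw [irr_one_conj χ, sq]
  constructor
  · refine isDefect_of_coeff hM hplus (2 * (Fintype.card F ^ 2 - 1)) (v := qC ^ 2 - 1 - 2 * qC) ?_ ?_ P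
    · rw [hco]
      have h := sum_plus (F := F) hp2
      have hc := SL2Char.card_SL (F := F)
      have hq := SL2Char.qC_ne (F := F)
      rw [Nat.cast_mul, Nat.cast_sub (Nat.one_le_pow _ _ Fintype.card_pos)]
      push_cast
      field_simp
      rw [hc] at h ⊢
      linear_combination (qC ^ 2 - 1) * h
    · have hq := memRing_natCast hM (Fintype.card F)
      have h1 : MemLocalRing M (1 : ℂ) := (loc hM).one_mem
      have h2 : MemLocalRing M (2 : ℂ) := by simpa using memRing_natCast hM 2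
      rw [res_sub hM ((loc hM).sub_mem ((loc hM).pow_mem hq 2) h1) ((loc hM).mul_mem h2 hq),
        res_sub hM ((loc hM).pow_mem hq 2) h1, res_mul hM h2 hq, res_pow hM hq, res_qC hM, res_one]
      simp
  · refine isDefect_of_coeff hM hminus 2 (v := 1) ?_ ?_ P
    · rw [hco]
      have h := sum_minus (F := F) hp2
      push_cast
      field_simp
      linear_combination h
    · rw [res_one]; exact one_ne_zero

theorem isPBlock_iff (hM : IsPModular p M) (hp2 : p ≠ 2) (B : Set (IrrCharacter SL2)) :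
    IsPBlock M B ↔ (B = stSet F ∨ B = plusSet F ∨ B = minusSet F) := by
  constructor
  · rintro ⟨χ, rfl⟩
    by_cases hd : (χ : SL2 → ℂ) 1 = qC
    · exact Or.inl ((block_cases hM hp2 χ).1 hd)
    · rcases center_value χ with e | e
      · exact Or.inr (Or.inl ((block_cases hM hp2 χ).2.1 ⟨e, hd⟩))
      · exact Or.inr (Or.inr ((block_cases hM hp2 χ).2.2 e))
  · obtain ⟨⟨a, ha⟩, ⟨b, hb⟩, ⟨c, hc⟩⟩ := nonempty_sets (F := F) hp2
    rintro (rfl | rfl | rfl)
    · exact ⟨a, ((block_cases hM hp2 a).1 ha).symm⟩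
    · exact ⟨b, ((block_cases hM hp2 b).2.1 hb).symm⟩
    · exact ⟨c, ((block_cases hM hp2 c).2.2 hc).symm⟩

theorem card_blocks (hM : IsPModular p M) (hp2 : p ≠ 2) :
    Nat.card {B : Set (IrrCharacter SL2) // IsPBlock M B} = 3 := by
  obtain ⟨⟨a, ha⟩, ⟨b, hb⟩, ⟨c, hc⟩⟩ := nonempty_sets (F := F) hp2
  have h12 : stSet F ≠ plusSet F := fun e => (e ▸ ha : a ∈ plusSet F).2 ha
  have h13 : stSet F ≠ minusSet F := fun e =>
    not_both a (e ▸ ha : a ∈ minusSet F) (sign_of_st a ha)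
  have h23 : plusSet F ≠ minusSet F := fun e => not_both b (e ▸ hb : b ∈ minusSet F) hb.1
  have hset : {B : Set (IrrCharacter SL2) | IsPBlock M B} = {stSet F, plusSet F, minusSet F} := by
    ext B
    simp [isPBlock_iff hM hp2]
  show Nat.card ({B : Set (IrrCharacter SL2) | IsPBlock M B} : Set _) = 3
  rw [Nat.card_coe_set_eq, hset, Set.ncard_insert_of_notMem (by simp [h12, h13]),
    Set.ncard_pair h23]

end Sums

end CfsgLib.SL2Blocks
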