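import Cfsg.Agent.Lib.CharTheory
import Cfsg.Agent.Lib.SL2Char.Elements

/-!
The two series of class functions of `SL₂(q)`: `ps α = Ind_B α` and
`ds θ = St · ps α - ps α - Ind_C θ`, with their values and inner products.
-/

set_option autoImplicit false

namespace CfsgLib.SL2Char

open Matrix Cfsg CfsgLib.CharTheory
open scoped ComplexConjugate

variable {F : Type*} [Field F] [Fintype F] [DecidableEq F]

local notation "M2" => Matrix (Fin 2) (Fin 2) F
local notation "SL2" => Matrix.SpecialLinearGroup (Fin 2) F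
local notation "qC" => (Fintype.card F : ℂ)

theorem qC_ne : qC ≠ 0 := Nat.cast_ne_zero.mpr Fintype.card_ne_zero

theorem qC_sub_ne : qC - 1 ≠ 0 := by
  intro h
  have : Fintype.card F = 1 := by exact_mod_cast sub_eq_zero.mp h
  have := Fintype.one_lt_card (α := F)
  omega

theorem qC_add_ne : qC + 1 ≠ 0 := by exact_mod_cast Nat.succ_ne_zero (Fintype.card F)

theorem cl_eq {G : Type*} [Group G] {f : G → ℂ} (hf : IsClassFunction G f) {g g' : G}
    (h : IsConj g g') : f g = f g' := by
  obtain ⟨x, rfl⟩ := isConj_iff.mp h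
  exact (hf g x).symm

/-- An induced function at a central element of the subgroup. -/
theorem indFun_central {G : Type*} [Group G] [Fintype G] (H : Subgroup G) (θ : H → ℂ) (z : H)
    (hz : ∀ g : G, Commute (z : G) g) : indFun H θ z = (H.index : ℂ) * θ z := by
  have e : ∀ x : G, x⁻¹ * (z : G) * x = z := fun x => by
    rw [mul_assoc, (hz x).eq, inv_mul_cancel_left]
  simp only [indFun, e, extendByZero_coe, Finset.sum_const, Finset.card_univ, nsmul_eq_mul,
    ← Nat.card_eq_fintype_card]
  rw [← H.card_mul_index]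
  have : (Nat.card H : ℂ) ≠ 0 := Nat.cast_ne_zero.mpr Nat.card_pos.ne'
  push_cast
  field_simp

theorem card_SL : (Nat.card SL2 : ℂ) = qC * (qC - 1) * (qC + 1) := by
  have h1 : 1 ≤ Fintype.card F ^ 2 := Nat.one_le_pow _ _ Fintype.card_pos
  rw [CfsgLib.SLCard.card_SL_two, Nat.cast_mul, Nat.cast_sub h1]
  push_cast
  ring

theorem card_borel_cast : (Nat.card (borel F) : ℂ) = (qC - 1) * qC := by
  rw [CfsgLib.SL2Borel.card_borel, Nat.cast_mul, Nat.cast_sub Fintype.card_pos, Nat.cast_one]

theorem index_borel : ((borel F).index : ℂ) = qC + 1 := by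
  have h : (Nat.card (borel F) : ℂ) * ((borel F).index : ℂ) = (Nat.card SL2 : ℂ) := by
    exact_mod_cast (borel F).card_mul_index
  rw [card_borel_cast, card_SL] at h
  apply mul_left_cancel₀ (mul_ne_zero (qC_sub_ne (F := F)) (qC_ne (F := F)))
  rw [h]; ring

theorem sum_units_mulChar (α : MulChar F ℂ) [Decidable (α = 1)] :
    ∑ a : Fˣ, α (a : F) = if α = 1 then qC - 1 else 0 := by
  classical
  split_ifs with h
  · subst h
    simp [MulChar.one_apply_coe, Fintype.card_units, Nat.cast_sub (Fintype.card_pos (α := F))]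
  · have e := sum_hom_units_eq_zero ((Units.coeHom ℂ).comp (MulChar.equivToUnitHom α)) (fun he => h ?_)
    · simpa [MulChar.coe_equivToUnitHom] using e
    · refine MulChar.eq_one_iff.mpr fun a => ?_
      simpa [MulChar.coe_equivToUnitHom] using DFunLike.congr_fun he a

theorem conj_mulChar (α : MulChar F ℂ) (a : Fˣ) :
    conj (α (a : F)) = α ((a⁻¹ : Fˣ) : F) := by
  rw [Units.val_inv_eq_inv_val, ← MulChar.inv_apply', ← MulChar.star_apply']
  rfl

theorem mulChar_mul_inv (α : MulChar F ℂ) (a : Fˣ) : α (a : F) * α ((a⁻¹ : Fˣ) : F) = 1 := by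
  rw [← map_mul, Units.mul_inv, MulChar.map_one]

theorem mulChar_inv_unit (α : MulChar F ℂ) (a : Fˣ) :
    α⁻¹ (a : F) = α ((a⁻¹ : Fˣ) : F) := by
  rw [MulChar.inv_apply', Units.val_inv_eq_inv_val]

/-- The principal series function. -/
noncomputable def ps (α : MulChar F ℂ) : SL2 → ℂ :=
  indFun (borel F) fun b => α ((b : SL2).1 0 0)

/-- The linear character of the Borel subgroup. -/
noncomputable def borelHom (α : MulChar F ℂ) : borel F →* ℂˣ :=
  (MulChar.equivToUnitHom α).comp
    { toFun := fun b => (CfsgLib.SL2Borel.equivBorel b).1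
      map_one' := Units.ext (by
        rw [(CfsgLib.SL2Borel.equivBorel_fst _).1]; simp)
      map_mul' := fun b c => Units.ext (by
        have h := CfsgLib.SL2Borel.mem_borel.mp c.2
        rw [Units.val_mul, (CfsgLib.SL2Borel.equivBorel_fst _).1,
          (CfsgLib.SL2Borel.equivBorel_fst b).1, (CfsgLib.SL2Borel.equivBorel_fst c).1]
        show (b.1.1 * c.1.1) 0 0 = _
        simp [Matrix.mul_apply, Fin.sum_univ_two, h]) }

theorem borelHom_apply (α : MulChar F ℂ) (b : borel F) :
    ((borelHom α b : ℂˣ) : ℂ) = α ((b : SL2).1 0 0) := by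
  show ((MulChar.equivToUnitHom α (CfsgLib.SL2Borel.equivBorel b).1 : ℂˣ) : ℂ) = _
  rw [MulChar.coe_equivToUnitHom, (CfsgLib.SL2Borel.equivBorel_fst b).1]

theorem isCharacter_ps (α : MulChar F ℂ) : IsCharacter SL2 (ps α) := by
  refine isCharacter_indFun _ ?_
  have h := isCharacter_of_irr (isIrrCharacter_linear (borelHom α))
  convert h using 1
  funext b
  rw [borelHom_apply]

theorem ps_classFun (α : MulChar F ℂ) : IsClassFunction SL2 (ps α) := indFun_isClassFunction _ _

theorem ext_borel (α : MulChar F ℂ) (y : SL2) :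
    extendByZero (borel F) (fun b => α ((b : SL2).1 0 0)) y =
      if y.1 1 0 = 0 then α (y.1 0 0) else 0 := by
  by_cases hy : y.1 1 0 = 0
  · rw [if_pos hy, extendByZero_of_mem _ _ (CfsgLib.SL2Borel.mem_borel.mpr hy)]
  · rw [if_neg hy, extendByZero_of_not_mem _ _ fun h => hy (CfsgLib.SL2Borel.mem_borel.mp h)]

theorem conj_entries (x g : SL2) :
    (x⁻¹ * g * x).1 1 0 = -x.1 1 0 * (g.1 0 0 * x.1 0 0 + g.1 0 1 * x.1 1 0) +
        x.1 0 0 * (g.1 1 0 * x.1 0 0 + g.1 1 1 * x.1 1 0) ∧
      (x⁻¹ * g * x).1 0 0 = x.1 1 1 * (g.1 0 0 * x.1 0 0 + g.1 0 1 * x.1 1 0) -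
        x.1 0 1 * (g.1 1 0 * x.1 0 0 + g.1 1 1 * x.1 1 0) := by
  have e : (x⁻¹ * g * x).1 = x.1.adjugate * g.1 * x.1 := rfl
  rw [e, Matrix.adjugate_fin_two]
  constructor <;> simp [Matrix.mul_apply, Fin.sum_univ_two, Matrix.vecMul, dotProduct] <;> ring

theorem sum_col : (∑ x : SL2, (if x.1 1 0 = 0 then (1 : ℂ) else 0)) = (qC - 1) * qC := by
  rw [← card_borel_cast, Finset.sum_boole, ← Fintype.card_subtype, ← Nat.card_eq_fintype_card]
  exact congrArg _ (Nat.card_congr (Equiv.subtypeEquivRight fun x => CfsgLib.SL2Borel.mem_borel.symm))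

theorem sum_row : (∑ x : SL2, (if x.1 0 0 = 0 then (1 : ℂ) else 0)) = (qC - 1) * qC := by
  rw [← sum_col (F := F)]
  obtain ⟨w, hw⟩ : ∃ w : SL2, w.1 = !![0, -1; 1, 0] :=
    ⟨⟨!![0, -1; 1, 0], by simp [Matrix.det_fin_two]⟩, rfl⟩
  refine Fintype.sum_equiv (Equiv.mulLeft w) _ _ fun x => ?_
  have e : (Equiv.mulLeft w x).1 1 0 = x.1 0 0 := by
    show (w.1 * x.1) 1 0 = _
    simp [hw, Matrix.mul_apply, Fin.sum_univ_two]
  rw [e]

theorem ps_bor_ne (α : MulChar F ℂ) {a : Fˣ} (ha : a ^ 2 ≠ 1) (x : F) :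
    ps α (bor a x) = α (a : F) + α ((a⁻¹ : Fˣ) : F) := by
  rw [cl_eq (ps_classFun α) (isConj_bor_zero a ha x)]
  have hne : (a : F) ≠ ((a⁻¹ : Fˣ) : F) := (sq_ne_one_iff a).mp ha
  have hv : ∀ y : SL2, extendByZero (borel F) (fun b => α ((b : SL2).1 0 0)) (y⁻¹ * bor a 0 * y) =
      α (a : F) * (if y.1 1 0 = 0 then 1 else 0) +
        α ((a⁻¹ : Fˣ) : F) * (if y.1 0 0 = 0 then 1 else 0) := by
    intro y
    obtain ⟨h10, h00⟩ := conj_entries y (bor a 0)
    have hd := CfsgLib.SL2Borel.det_eq y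
    simp only [bor_coe, Matrix.cons_val', Matrix.cons_val_zero, Matrix.cons_val_one, Matrix.of_apply,
      Matrix.cons_val_fin_one, zero_mul, add_zero, zero_add] at h10 h00
    rw [ext_borel, h10, h00]
    by_cases hy : y.1 1 0 = 0
    · have hy' : y.1 0 0 ≠ 0 := fun h => by rw [h, hy] at hd; simp at hd
      rw [if_pos (by rw [hy]; ring), if_pos hy, if_neg hy', mul_one, mul_zero, add_zero]
      congr 1
      rw [hy] at hd ⊢
      linear_combination (a : F) * hd
    · rw [if_neg hy]
      by_cases hy' : y.1 0 0 = 0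
      · rw [if_pos (by rw [hy']; ring), if_pos hy', mul_one, mul_zero, zero_add]
        congr 1
        rw [hy'] at hd ⊢
        linear_combination ((a⁻¹ : Fˣ) : F) * hd
      · rw [if_neg ?_, if_neg hy', mul_zero, mul_zero, add_zero]
        intro h
        have h' : y.1 0 0 * y.1 1 0 * (((a⁻¹ : Fˣ) : F) - (a : F)) = 0 := by linear_combination h
        exact hne (sub_eq_zero.mp ((mul_eq_zero.mp h').resolve_left (mul_ne_zero hy' hy))).symm
  simp only [ps, indFun, hv, Finset.sum_add_distrib, ← Finset.mul_sum, sum_col, sum_row, card_borel_cast]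
  have := qC_ne (F := F); have := qC_sub_ne (F := F)
  field_simp

theorem ps_bor_unip (α : MulChar F ℂ) {e : Fˣ} (he : e ^ 2 = 1) {x : F} (hx : x ≠ 0) :
    ps α (bor e x) = α (e : F) := by
  have hv : ∀ y : SL2, extendByZero (borel F) (fun b => α ((b : SL2).1 0 0)) (y⁻¹ * bor e x * y) =
      α (e : F) * (if y.1 1 0 = 0 then 1 else 0) := by
    intro y
    obtain ⟨h10, h00⟩ := conj_entries y (bor e x)
    have hd := CfsgLib.SL2Borel.det_eq y
    simp only [bor_coe, inv_eq_self he, Matrix.cons_val', Matrix.cons_val_zero, Matrix.cons_val_one,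
      Matrix.of_apply, Matrix.cons_val_fin_one, zero_mul, zero_add] at h10 h00
    rw [ext_borel, h10, h00]
    by_cases hy : y.1 1 0 = 0
    · rw [if_pos (by rw [hy]; ring), if_pos hy, mul_one]
      congr 1
      rw [hy] at hd ⊢
      linear_combination (e : F) * hd
    · rw [if_neg ?_, if_neg hy, mul_zero]
      intro h
      have h' : y.1 1 0 * y.1 1 0 * x = 0 := by linear_combination -h
      simp [hy, hx] at h'
  simp only [ps, indFun, hv, ← Finset.mul_sum, sum_col, card_borel_cast]
  have := qC_ne (F := F); have := qC_sub_ne (F := F)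
  field_simp

theorem ps_bor_scalar (α : MulChar F ℂ) {e : Fˣ} (he : e ^ 2 = 1) :
    ps α (bor e 0) = (qC + 1) * α (e : F) := by
  have h := indFun_central (borel F) (fun b => α ((b : SL2).1 0 0)) ⟨bor e 0, bor_mem e 0⟩
    (fun g => scalar_comm e he g)
  rw [ps, h, index_borel]
  simp

theorem ps_ell (α : MulChar F ℂ) {g : SL2} (hg : Ell g) : ps α g = 0 := by
  simp only [ps, indFun]
  refine mul_eq_zero_of_right _ (Finset.sum_eq_zero fun x _ => ?_)
  rw [extendByZero_of_not_mem]
  intro hmem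
  obtain ⟨e, he⟩ : ∃ p : Fˣ × F, bor p.1 p.2 = x⁻¹ * g * x :=
    ⟨_, congrArg Subtype.val (CfsgLib.SL2Borel.equivBorel.symm_apply_apply ⟨_, hmem⟩)⟩
  refine not_ell_bor e.1 e.2 ?_
  rw [he]
  exact ell_of_isConj (isConj_iff.mpr ⟨x⁻¹, by rw [inv_inv]⟩) hg

theorem ps_one (α : MulChar F ℂ) : ps α 1 = qC + 1 := by
  rw [← bor_one, ps_bor_scalar α (one_pow 2)]; simp

theorem ps_bsum (α : MulChar F ℂ) (a : Fˣ) :
    ∑ x : F, ps α (bor a x) = qC * (α (a : F) + α ((a⁻¹ : Fˣ) : F)) := by
  classical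
  by_cases ha : a ^ 2 = 1
  · rw [Finset.sum_eq_add_sum_sdiff_singleton_of_mem (Finset.mem_univ (0 : F)), ps_bor_scalar α ha,
      Finset.sum_congr rfl (fun x hx => ps_bor_unip α ha (by simpa using hx)),
      Finset.sum_const, Finset.card_sdiff_of_subset (Finset.subset_univ _), Finset.card_singleton,
      Finset.card_univ, nsmul_eq_mul, Nat.cast_sub Fintype.card_pos, inv_eq_self ha]
    push_cast; ring
  · simp only [ps_bor_ne α ha, Finset.sum_const, Finset.card_univ, nsmul_eq_mul]

/-- Reciprocity with the Borel subgroup. -/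
theorem classInner_ps (α : MulChar F ℂ) {f : SL2 → ℂ} (hf : IsClassFunction SL2 f) :
    classInner (ps α) f =
      ((qC - 1) * qC)⁻¹ * ∑ a : Fˣ, α (a : F) * conj (∑ x : F, f (bor a x)) := by
  classical
  rw [ps, frobenius_reciprocity _ _ hf, classInner, card_borel_cast,
    sum_borel (fun y : SL2 => α (y.1 0 0) * conj (f y))]
  congr 1
  refine Finset.sum_congr (Finset.ext fun _ => by simp) fun a _ => ?_
  rw [map_sum, Finset.mul_sum]
  simp

theorem classInner_ps_ps (α β : MulChar F ℂ) [Decidable (α = β)] [Decidable (α = β⁻¹)] :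
    classInner (ps α) (ps β) = (if α = β then 1 else 0) + (if α = β⁻¹ then 1 else 0) := by
  classical
  rw [classInner_ps α (ps_classFun β)]
  have e : ∀ a : Fˣ, α (a : F) * conj (∑ x : F, ps β (bor a x)) =
      qC * ((α * β⁻¹) (a : F) + (α * β) (a : F)) := by
    intro a
    rw [ps_bsum, map_mul, map_add, conj_mulChar, conj_mulChar, inv_inv, MulChar.mul_apply,
      MulChar.mul_apply, mulChar_inv_unit, Complex.conj_natCast]
    ring
  have := qC_ne (F := F); have := qC_sub_ne (F := F)
  simp only [e, ← Finset.mul_sum, Finset.sum_add_distrib, sum_units_mulChar, mul_inv_eq_one,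
    mul_eq_one_iff_eq_inv, inv_inv]
  split_ifs <;> field_simp <;> ring

theorem classInner_ps_one (α : MulChar F ℂ) [Decidable (α = 1)] :
    classInner (ps α) (fun _ => 1) = if α = 1 then 1 else 0 := by
  classical
  rw [classInner_ps α isClassFunction_one]
  simp only [Finset.sum_const, Finset.card_univ, nsmul_eq_mul, mul_one, Complex.conj_natCast,
    ← Finset.sum_mul, sum_units_mulChar]
  have := qC_ne (F := F); have := qC_sub_ne (F := F)
  split_ifs <;> simp <;> field_simp

theorem classInner_one_one : classInner (fun _ : SL2 => (1 : ℂ)) (fun _ => 1) = 1 :=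
  classInner_irr_self isIrrCharacter_one

/-- The Steinberg character. -/
noncomputable def st : SL2 → ℂ := ps (1 : MulChar F ℂ) - fun _ => 1

theorem st_classFun : IsClassFunction SL2 (st (F := F)) :=
  isClassFunction_sub (ps_classFun _) isClassFunction_one

theorem st_bor_ne {a : Fˣ} (ha : a ^ 2 ≠ 1) (x : F) : st (bor a x) = 1 := by
  simp only [st, Pi.sub_apply, ps_bor_ne 1 ha, MulChar.one_apply_coe]; ring

theorem st_bor_unip {e : Fˣ} (he : e ^ 2 = 1) {x : F} (hx : x ≠ 0) : st (bor e x) = 0 := by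
  simp only [st, Pi.sub_apply, ps_bor_unip 1 he hx, MulChar.one_apply_coe, sub_self]

theorem st_bor_scalar {e : Fˣ} (he : e ^ 2 = 1) : st (bor e (0 : F)) = qC := by
  simp only [st, Pi.sub_apply, ps_bor_scalar 1 he, MulChar.one_apply_coe]; ring

theorem st_ell {g : SL2} (hg : Ell g) : st g = -1 := by
  simp only [st, Pi.sub_apply, ps_ell 1 hg, zero_sub]

theorem st_one : st (1 : SL2) = qC := by
  rw [← bor_one, st_bor_scalar (one_pow 2)]

theorem classInner_ps_st (α : MulChar F ℂ) [Decidable (α = 1)] :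
    classInner (ps α) st = if α = 1 then 1 else 0 := by
  classical
  rw [st, classInner_sub_right, classInner_ps_ps, classInner_ps_one, inv_one]
  split_ifs <;> ring

theorem classInner_st_one : classInner (st (F := F)) (fun _ => 1) = 0 := by
  classical
  rw [st, classInner_sub_left, classInner_ps_one, classInner_one_one, if_pos rfl, sub_self]

theorem classInner_st_st : classInner (st (F := F)) st = 1 := by
  classical
  have h : classInner (fun _ : SL2 => (1 : ℂ)) st = 0 := by
    rw [← classInner_comm, classInner_st_one, map_zero]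
  nth_rw 1 [st]
  rw [classInner_sub_left, classInner_ps_st, h, if_pos rfl, sub_zero]

theorem isIrr_st : IsIrrCharacter SL2 (st (F := F)) := by
  refine irr_of_norm_one (isGenChar_sub (isGenChar_of_char (isCharacter_ps 1))
    (isGenChar_of_char isCharacter_one)) classInner_st_st ?_
  show (0 : ℝ) < (st (1 : SL2)).re
  rw [st_one, Complex.natCast_re]
  exact_mod_cast Fintype.card_pos

section Torus

variable (C : Subgroup (Matrix.SpecialLinearGroup (Fin 2) F)) (θ : C →* ℂˣ)
variable (hC : IsCyclic C) (hcard : Nat.card C = Fintype.card F + 1)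

/-- The function induced from the nonsplit torus. -/
noncomputable def rc : SL2 → ℂ := indFun C fun c => ((θ c : ℂˣ) : ℂ)

theorem rc_classFun : IsClassFunction SL2 (rc C θ) := indFun_isClassFunction _ _

theorem isCharacter_rc : IsCharacter SL2 (rc C θ) :=
  isCharacter_indFun C (isCharacter_of_irr (isIrrCharacter_linear θ))

theorem conj_hom {G : Type*} [Group G] [Finite G] (φ : G →* ℂˣ) (g : G) :
    conj ((φ g : ℂˣ) : ℂ) = ((φ g⁻¹ : ℂˣ) : ℂ) :=
  (char_apply_inv (isCharacter_of_irr (isIrrCharacter_linear φ)) g).symm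

theorem hom_mul_inv {G : Type*} [Group G] (φ : G →* ℂˣ) (g : G) :
    ((φ g : ℂˣ) : ℂ) * ((φ g⁻¹ : ℂˣ) : ℂ) = 1 := by
  rw [← Units.val_mul, ← map_mul, mul_inv_cancel, map_one, Units.val_one]

include hcard in
theorem index_torus : (C.index : ℂ) = qC * (qC - 1) := by
  have h : (Nat.card C : ℂ) * (C.index : ℂ) = (Nat.card SL2 : ℂ) := by
    exact_mod_cast C.card_mul_index
  rw [hcard, card_SL] at h
  push_cast at h
  apply mul_left_cancel₀ (qC_add_ne (F := F))
  rw [h]; ring

include hcard in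
theorem rc_bor_zero {a : Fˣ} {x : F} (h : ¬ (a ^ 2 = 1 ∧ x = 0)) : rc C θ (bor a x) = 0 := by
  simp only [rc, indFun]
  refine mul_eq_zero_of_right _ (Finset.sum_eq_zero fun y _ => ?_)
  rw [extendByZero_of_not_mem]
  intro hmem
  have hc : IsConj (bor a x) (y⁻¹ * bor a x * y) := isConj_iff.mpr ⟨y⁻¹, by rw [inv_inv]⟩
  rcases torus_cases C hcard hmem with he | ⟨e, he, hce⟩
  · exact not_ell_bor a x (ell_of_isConj hc.symm he)
  · rw [hce] at hc
    obtain ⟨h1, h2⟩ := bor_injective (scalar_conj_eq he hc.symm)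
    exact h ⟨h1 ▸ he, h2⟩

include hcard in
theorem rc_scalar {e : Fˣ} (he : e ^ 2 = 1) (hm : bor e 0 ∈ C) :
    rc C θ (bor e 0) = qC * (qC - 1) * ((θ ⟨_, hm⟩ : ℂˣ) : ℂ) := by
  rw [rc, indFun_central C _ ⟨bor e 0, hm⟩ (fun g => scalar_comm e he g), index_torus C hcard]

include hC hcard in
theorem rc_ell (c : C) (hc : Ell (c : SL2)) :
    rc C θ c = ((θ c : ℂˣ) : ℂ) + ((θ c⁻¹ : ℂˣ) : ℂ) := by
  classical
  have hne : (c : SL2) ≠ (c : SL2)⁻¹ := Ne.symm (ell_ne_inv hc)
  have hv : ∀ x : SL2, extendByZero C (fun c : C => ((θ c : ℂˣ) : ℂ)) (x⁻¹ * (c : SL2) * x) =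
      ((θ c : ℂˣ) : ℂ) * (if x⁻¹ * (c : SL2) * x = c then 1 else 0) +
        ((θ c⁻¹ : ℂˣ) : ℂ) * (if x⁻¹ * (c : SL2) * x = (c : SL2)⁻¹ then 1 else 0) := by
    intro x
    by_cases hm : x⁻¹ * (c : SL2) * x ∈ C
    · rw [extendByZero_of_mem _ _ hm]
      have ht : (x⁻¹ * (c : SL2) * x).1.trace = (c : SL2).1.trace := by
        simpa only [inv_inv] using trace_conj (c : SL2) x⁻¹
      rcases eq_or_inv_of_trace C hC hcard c.2 hc hm ht with h | h
      · rw [if_pos h, if_neg (fun h2 => hne (h.symm.trans h2)), mul_one, mul_zero, add_zero,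
          show (⟨_, hm⟩ : C) = c from Subtype.ext h]
      · rw [if_pos h, if_neg (fun h2 => hne (h2.symm.trans h)), mul_one, mul_zero, zero_add,
          show (⟨_, hm⟩ : C) = c⁻¹ from Subtype.ext h]
    · rw [extendByZero_of_not_mem _ _ hm, if_neg, if_neg, mul_zero, mul_zero, add_zero]
      · exact fun h => hm (h.symm ▸ C.inv_mem c.2)
      · exact fun h => hm (h.symm ▸ c.2)
  have hcount : ∀ d : SL2, IsConj (c : SL2) d →
      (∑ x : SL2, if x⁻¹ * (c : SL2) * x = d then (1 : ℂ) else 0) = qC + 1 := by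
    intro d hd
    obtain ⟨y, hy⟩ := isConj_iff.mp hd.symm
    have : (∑ x : SL2, if x⁻¹ * (c : SL2) * x = d then (1 : ℂ) else 0) =
        (Nat.card (Subgroup.centralizer ({(c : SL2)} : Set SL2)) : ℂ) := by
      rw [Finset.sum_boole, ← Fintype.card_subtype, ← Nat.card_eq_fintype_card]
      refine congrArg _ (Nat.card_congr (Equiv.subtypeEquiv (Equiv.mulRight y⁻¹) fun x => ?_))
      rw [Equiv.coe_mulRight, Subgroup.mem_centralizer_singleton_iff, ← hy]
      constructor
      · intro h
        calc x * y⁻¹ * (y * d * y⁻¹) = x * d * y⁻¹ := by group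
          _ = x * (x⁻¹ * (y * d * y⁻¹) * x) * y⁻¹ := by rw [h]
          _ = y * d * y⁻¹ * (x * y⁻¹) := by group
      · intro h
        calc x⁻¹ * (y * d * y⁻¹) * x = x⁻¹ * (y * d * y⁻¹ * (x * y⁻¹)) * y := by group
          _ = x⁻¹ * (x * y⁻¹ * (y * d * y⁻¹)) * y := by rw [h]
          _ = d := by group
    rw [this, card_centralizer_ell hc]
    push_cast; rfl
  simp only [rc, indFun, hv, Finset.sum_add_distrib, ← Finset.mul_sum,
    hcount _ (IsConj.refl _), hcount _ (CfsgLib.PSL2Product.isConj_of_trace (ell_trace hc)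
      (trace_inv (c : SL2))), hcard]
  have := qC_add_ne (F := F)
  push_cast
  field_simp

/-- `θ` and `α` agree on the scalars. -/
def Compat (α : MulChar F ℂ) : Prop :=
  ∀ e : Fˣ, e ^ 2 = 1 → ∀ hm : bor e (0 : F) ∈ C, α (e : F) = ((θ ⟨bor e 0, hm⟩ : ℂˣ) : ℂ)

include hC hcard in
theorem exists_compat : ∃ α : MulChar F ℂ, Compat C θ α := by
  classical
  by_cases h : ∀ e : Fˣ, e ^ 2 = 1 → ∀ hm : bor e (0 : F) ∈ C, θ ⟨bor e 0, hm⟩ = 1
  · exact ⟨1, fun e he hm => by rw [h e he hm, MulChar.one_apply_coe, Units.val_one]⟩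
  push Not at h
  obtain ⟨e, he, hm, hne⟩ := h
  have he1 : (e : F) ≠ 1 := fun h1 => hne (by
    have e1 : e = 1 := Units.ext h1
    subst e1
    rw [show (⟨bor 1 0, hm⟩ : C) = 1 from Subtype.ext bor_one, map_one])
  obtain ⟨χ, hχ⟩ := MulChar.exists_apply_ne_one_of_hasEnoughRootsOfUnity F ℂ he1
  have hsq : ∀ z : ℂ, z * z = 1 → z ≠ 1 → z = -1 := fun z hz hz1 =>
    (mul_self_eq_one_iff.mp hz).resolve_left hz1
  refine ⟨χ, fun e' he' hm' => ?_⟩
  have he'' : e' = 1 ∨ e' = e := by
    rcases (CfsgLib.SL2Borel.units_sq_eq_one e').mp he' with rfl | rfl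
    · exact Or.inl rfl
    · exact Or.inr (((CfsgLib.SL2Borel.units_sq_eq_one e).mp he).resolve_left
        (fun h1 => he1 (by rw [h1, Units.val_one]))).symm
  rcases he'' with rfl | rfl
  · rw [show (⟨bor 1 0, hm'⟩ : C) = 1 from Subtype.ext bor_one]
    simp
  · have hsqc : (⟨bor e' 0, hm'⟩ : C) * ⟨bor e' 0, hm'⟩ = 1 := by
      apply Subtype.ext
      show bor e' 0 * bor e' 0 = 1
      rw [bor_mul, ← sq, he']
      simp [bor_one]
    rw [hsq (χ (e' : F)) (by
        rw [← map_mul, ← Units.val_mul, ← sq, he', Units.val_one, map_one]) hχ,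
      hsq ((θ ⟨bor e' 0, hm'⟩ : ℂˣ) : ℂ) (by rw [← Units.val_mul, ← map_mul, hsqc, map_one, Units.val_one])
        (fun h1 => hne (Units.ext h1))]

/-- The discrete series function. -/
noncomputable def dsA (α : MulChar F ℂ) : SL2 → ℂ := st * ps α - ps α - rc C θ

variable (α : MulChar F ℂ) (hα : Compat C θ α)

theorem dsA_classFun : IsClassFunction SL2 (dsA C θ α) :=
  isClassFunction_sub (isClassFunction_sub (isClassFunction_mul st_classFun (ps_classFun α))
    (ps_classFun α)) (rc_classFun C θ)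

theorem isGenChar_dsA : IsGeneralizedCharacter SL2 (dsA C θ α) :=
  isGenChar_sub (isGenChar_sub (isGenChar_mul (isGenChar_of_char (isCharacter_of_irr isIrr_st))
    (isGenChar_of_char (isCharacter_ps α))) (isGenChar_of_char (isCharacter_ps α)))
    (isGenChar_of_char (isCharacter_rc C θ))

include hcard in
theorem dsA_bor_ne {a : Fˣ} (ha : a ^ 2 ≠ 1) (x : F) : dsA C θ α (bor a x) = 0 := by
  simp only [dsA, Pi.sub_apply, Pi.mul_apply, st_bor_ne ha,
    rc_bor_zero C θ hcard (fun h => ha h.1), one_mul, sub_self]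

include hcard in
theorem dsA_bor_unip {e : Fˣ} (he : e ^ 2 = 1) {x : F} (hx : x ≠ 0) :
    dsA C θ α (bor e x) = -α (e : F) := by
  simp only [dsA, Pi.sub_apply, Pi.mul_apply, st_bor_unip he hx, ps_bor_unip α he hx,
    rc_bor_zero C θ hcard (fun h => hx h.2), zero_mul, sub_zero, zero_sub]

include hC hcard hα in
theorem dsA_bor_scalar {e : Fˣ} (he : e ^ 2 = 1) :
    dsA C θ α (bor e 0) = (qC - 1) * α (e : F) := by
  have hm := bor_scalar_mem C hC hcard e he
  simp only [dsA, Pi.sub_apply, Pi.mul_apply, st_bor_scalar he, ps_bor_scalar α he,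
    rc_scalar C θ hcard he hm, ← hα e he hm]
  ring

include hC hcard in
theorem dsA_ell (c : C) (hc : Ell (c : SL2)) :
    dsA C θ α c = -(((θ c : ℂˣ) : ℂ) + ((θ c⁻¹ : ℂˣ) : ℂ)) := by
  simp only [dsA, Pi.sub_apply, Pi.mul_apply, ps_ell α hc, rc_ell C θ hC hcard c hc, mul_zero,
    sub_zero, zero_sub]

include hC hcard hα in
theorem dsA_one : dsA C θ α 1 = qC - 1 := by
  rw [← bor_one, dsA_bor_scalar C θ hC hcard α hα (one_pow 2)]; simp

include hC hcard hα in
theorem dsA_bsum (a : Fˣ) : ∑ x : F, dsA C θ α (bor a x) = 0 := by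
  classical
  by_cases ha : a ^ 2 = 1
  · rw [Finset.sum_eq_add_sum_sdiff_singleton_of_mem (Finset.mem_univ (0 : F)),
      dsA_bor_scalar C θ hC hcard α hα ha,
      Finset.sum_congr rfl (fun x hx => dsA_bor_unip C θ hcard α ha (by simpa using hx)),
      Finset.sum_const, Finset.card_sdiff_of_subset (Finset.subset_univ _), Finset.card_singleton,
      Finset.card_univ, nsmul_eq_mul, Nat.cast_sub Fintype.card_pos]
    push_cast; ring
  · simp only [dsA_bor_ne C θ hcard α ha, Finset.sum_const_zero]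

include hC hcard hα in
theorem classInner_ps_dsA (β : MulChar F ℂ) : classInner (ps β) (dsA C θ α) = 0 := by
  rw [classInner_ps β (dsA_classFun C θ α)]
  simp only [dsA_bsum C θ hC hcard α hα, map_zero, mul_zero, Finset.sum_const_zero]

include hcard in
theorem classInner_one_rc [Decidable (θ = 1)] :
    classInner (rc C θ) (fun _ => 1) = if θ = 1 then 1 else 0 := by
  classical
  rw [rc, frobenius_reciprocity C _ isClassFunction_one, classInner]
  simp only [map_one, mul_one, hcard]
  have := qC_add_ne (F := F)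
  split_ifs with h
  · subst h
    simp only [MonoidHom.one_apply, Units.val_one, Finset.sum_const, Finset.card_univ, nsmul_eq_mul,
      mul_one, ← Nat.card_eq_fintype_card, hcard]
    push_cast; field_simp
  · have e := sum_hom_units_eq_zero ((Units.coeHom ℂ).comp θ) (fun he => h ?_)
    · simp only [MonoidHom.coe_comp, Units.coeHom_apply, Function.comp_apply] at e
      rw [e, mul_zero]
    · exact MonoidHom.ext fun c => Units.ext (DFunLike.congr_fun he c)

theorem classInner_st_mul (a b : SL2 → ℂ) :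
    classInner (st * a) b = classInner a (st * b) := by
  have hreal : ∀ g : SL2, conj (st g) = st g := by
    intro g
    rcases elem_cases g with h | ⟨a, x, h⟩
    · rw [st_ell h]; simp
    · rw [cl_eq st_classFun h]
      by_cases ha : a ^ 2 = 1
      · by_cases hx : x = 0
        · subst hx; rw [st_bor_scalar ha]; simp
        · rw [st_bor_unip ha hx]; simp
      · rw [st_bor_ne ha]; simp
  simp only [classInner, Pi.mul_apply, map_mul, hreal]
  congr 1
  exact Finset.sum_congr rfl fun g _ => by ring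

include hC hcard hα in
theorem classInner_dsA_one [Decidable (θ = 1)] :
    classInner (dsA C θ α) (fun _ => 1) = -(if θ = 1 then 1 else 0) := by
  classical
  have h1 : st * (fun _ : SL2 => (1 : ℂ)) = st := by ext g; simp
  rw [dsA, classInner_sub_left, classInner_sub_left, classInner_st_mul, h1, classInner_ps_st,
    classInner_ps_one, classInner_one_rc C θ hcard]
  ring

include hC hcard hα in
theorem classInner_dsA_st [Decidable (θ = 1)] :
    classInner (dsA C θ α) st = if θ = 1 then 1 else 0 := by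
  rw [st, classInner_sub_right, classInner_dsA_one C θ hC hcard α hα, ← classInner_comm (ps 1) (dsA C θ α),
    classInner_ps_dsA C θ hC hcard α hα, map_zero, zero_sub, neg_neg]

variable (θ' : C →* ℂˣ) (α' : MulChar F ℂ) (hα' : Compat C θ' α')

include hC hcard in
/-- Sums over the scalars of `C`. -/
theorem sum_torus_scalar [Fintype C] (h : C → ℂ) [DecidablePred fun c : C => Ell (c : SL2)] :
    ∑ c : C, (if Ell (c : SL2) then 0 else h c) =
      ∑ e ∈ (scal F).attach, h ⟨bor e.1 0, bor_scalar_mem C hC hcard e.1 (mem_scal.mp e.2)⟩ := by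
  classical
  rw [← Finset.sum_filter_add_sum_filter_not Finset.univ (fun c : C => Ell (c : SL2)),
    Finset.sum_eq_zero (fun c hc => if_pos (Finset.mem_filter.mp hc).2), zero_add]
  refine (Finset.sum_bij (fun e _ => (⟨bor e.1 0, bor_scalar_mem C hC hcard e.1 (mem_scal.mp e.2)⟩ : C))
    (fun e _ => Finset.mem_filter.mpr ⟨Finset.mem_univ _, not_ell_bor e.1 0⟩)
    (fun a _ b _ hab => Subtype.ext (bor_injective (congrArg Subtype.val hab)).1)
    (fun c hc => ?_) (fun e _ => ?_)).symm
  · obtain ⟨e, he, hce⟩ := (torus_cases C hcard c.2).resolve_left (Finset.mem_filter.mp hc).2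
    exact ⟨⟨e, mem_scal.mpr he⟩, Finset.mem_attach _ _, Subtype.ext hce.symm⟩
  · rw [if_neg (not_ell_bor e.1 0)]

include hC hcard hα hα' in
theorem classInner_dsA_dsA [Decidable (θ = θ')] [Decidable (θ = θ'⁻¹)] :
    classInner (dsA C θ α) (dsA C θ' α') =
      (if θ = θ' then 1 else 0) + (if θ = θ'⁻¹ then 1 else 0) := by
  classical
  set S : ℂ := ∑ e ∈ scal F, α (e : F) * conj (α' (e : F)) with hS
  have hb : classInner (ps α) (st * dsA C θ' α') = S := by
    rw [classInner_ps α (isClassFunction_mul st_classFun (dsA_classFun C θ' α'))]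
    have e : ∀ a : Fˣ, α (a : F) * conj (∑ x : F, (st * dsA C θ' α' : SL2 → ℂ) (bor a x)) =
        if a ^ 2 = 1 then (qC - 1) * qC * (α (a : F) * conj (α' (a : F))) else 0 := by
      intro a
      by_cases ha : a ^ 2 = 1
      · rw [if_pos ha, Finset.sum_eq_single (0 : F) (fun x _ hx => by
            rw [Pi.mul_apply, st_bor_unip ha hx, zero_mul]) (fun h => absurd (Finset.mem_univ _) h),
          Pi.mul_apply, st_bor_scalar ha, dsA_bor_scalar C θ' hC hcard α' hα' ha]
        simp only [map_mul, map_sub, map_one, Complex.conj_natCast]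
        ring
      · rw [if_neg ha]
        simp only [Pi.mul_apply, dsA_bor_ne C θ' hcard α' ha, mul_zero, Finset.sum_const_zero, map_zero]
    simp only [e]
    rw [← Finset.sum_filter, show (Finset.univ.filter fun a : Fˣ => a ^ 2 = 1) = scal F from
      Finset.ext fun a => by simp [mem_scal], ← Finset.mul_sum, ← mul_assoc, inv_mul_cancel₀
      (mul_ne_zero qC_sub_ne qC_ne), one_mul]
  have hr : classInner (rc C θ) (dsA C θ' α') =
      S - (if θ = θ' then 1 else 0) - (if θ = θ'⁻¹ then 1 else 0) := by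
    rw [rc, frobenius_reciprocity C _ (dsA_classFun C θ' α'), classInner]
    have ec : ∀ c : C, dsA C θ' α' c =
        (if Ell (c : SL2) then 0 else (qC + 1) * ((θ' c : ℂˣ) : ℂ)) -
          (((θ' c : ℂˣ) : ℂ) + ((θ' c⁻¹ : ℂˣ) : ℂ)) := by
      intro c
      rcases torus_cases C hcard c.2 with hc | ⟨e, he, hce⟩
      · rw [if_pos hc, dsA_ell C θ' hC hcard α' c hc, zero_sub]
      · have hm : bor e 0 ∈ C := hce ▸ c.2
        have hc' : c = ⟨bor e 0, hm⟩ := Subtype.ext hce
        have hinv : (⟨bor e 0, hm⟩ : C)⁻¹ = ⟨bor e 0, hm⟩ := by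
          refine inv_eq_of_mul_eq_one_right (Subtype.ext ?_)
          show bor e 0 * bor e 0 = 1
          rw [bor_mul, ← sq, he]; simp [bor_one]
        rw [hc', if_neg (not_ell_bor e 0), dsA_bor_scalar C θ' hC hcard α' hα' he, ← hα' e he hm, hinv,
          ← hα' e he hm]
        ring
    have hsplit : ∀ c : C, ((θ c : ℂˣ) : ℂ) * conj (dsA C θ' α' c) =
        (if Ell (c : SL2) then 0 else (qC + 1) * (((θ c : ℂˣ) : ℂ) * conj ((θ' c : ℂˣ) : ℂ))) -
          ((((θ * θ'⁻¹) c : ℂˣ) : ℂ) + (((θ * θ') c : ℂˣ) : ℂ)) := by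
      intro c
      rw [ec c]
      split_ifs
      all_goals simp only [map_sub, map_add, map_zero, map_mul, map_one, conj_hom, inv_inv,
        Complex.conj_natCast, MonoidHom.mul_apply, MonoidHom.inv_apply, Units.val_mul]
      all_goals rw [map_inv θ' c]
      all_goals ring
    have hsum : ∀ φ : C →* ℂˣ, ∑ c : C, ((φ c : ℂˣ) : ℂ) = if φ = 1 then qC + 1 else 0 := by
      intro φ
      split_ifs with h
      · subst h
        simp only [MonoidHom.one_apply, Units.val_one, Finset.sum_const, Finset.card_univ,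
          nsmul_eq_mul, mul_one, ← Nat.card_eq_fintype_card, hcard]
        push_cast; rfl
      · have e := sum_hom_units_eq_zero ((Units.coeHom ℂ).comp φ) (fun he => h ?_)
        · simpa using e
        · exact MonoidHom.ext fun c => Units.ext (DFunLike.congr_fun he c)
    have hS' : ∑ e ∈ (scal F).attach, (qC + 1) *
        (((θ ⟨bor e.1 0, bor_scalar_mem C hC hcard e.1 (mem_scal.mp e.2)⟩ : ℂˣ) : ℂ) *
          conj ((θ' ⟨bor e.1 0, bor_scalar_mem C hC hcard e.1 (mem_scal.mp e.2)⟩ : ℂˣ) : ℂ)) =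
        (qC + 1) * S := by
      rw [← Finset.mul_sum, hS, ← Finset.sum_attach (scal F)]
      congr 1
      exact Finset.sum_congr rfl fun e _ => by
        rw [← hα e.1 (mem_scal.mp e.2) _, ← hα' e.1 (mem_scal.mp e.2) _]
    have e1 : θ * θ'⁻¹ = 1 ↔ θ = θ' := by
      simp only [MonoidHom.ext_iff, MonoidHom.mul_apply, MonoidHom.inv_apply, MonoidHom.one_apply,
        mul_inv_eq_one]
    have e2 : θ * θ' = 1 ↔ θ = θ'⁻¹ := by
      simp only [MonoidHom.ext_iff, MonoidHom.mul_apply, MonoidHom.inv_apply, MonoidHom.one_apply,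
        mul_eq_one_iff_eq_inv]
    simp only [hsplit, Finset.sum_sub_distrib, Finset.sum_add_distrib,
      sum_torus_scalar C hC hcard, hS', hsum, hcard]
    rw [if_congr e1 rfl rfl, if_congr e2 rfl rfl]
    have := qC_add_ne (F := F)
    push_cast
    split_ifs <;> field_simp <;> ring
  rw [show dsA C θ α = st * ps α - ps α - rc C θ from rfl, classInner_sub_left, classInner_sub_left,
    classInner_st_mul, hb, hr, classInner_ps_dsA C θ' hC hcard α' hα']
  ring

end Torus

end CfsgLib.SL2Char
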