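import Cfsg.Agent.Lib.SL2Char.Values

/-!
Reading the character table of `SL₂(q)`: characters by degree, and elements in coordinates.
-/

set_option autoImplicit false

namespace CfsgLib.SL2Char

open Matrix Cfsg CfsgLib.CharTheory
open scoped ComplexConjugate Classical

variable {F : Type*} [Field F] [Fintype F] [DecidableEq F]

local notation "SL2" => Matrix.SpecialLinearGroup (Fin 2) F
local notation "qC" => (Fintype.card F : ℂ)

omit [Fintype F] [DecidableEq F] in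
theorem eq_bor_of_lower {g : SL2} (h10 : g.1 1 0 = 0) :
    ∃ (a : Fˣ) (x : F), (a : F) = g.1 0 0 ∧ ((a⁻¹ : Fˣ) : F) = g.1 1 1 ∧ x = g.1 0 1 ∧ g = bor a x := by
  have hm : g ∈ borel F := CfsgLib.SL2Borel.mem_borel.mpr h10
  obtain ⟨e1, e2, e3⟩ := CfsgLib.SL2Borel.equivBorel_fst ⟨g, hm⟩
  refine ⟨_, _, e1, e3, e2, ?_⟩
  exact (congrArg Subtype.val (CfsgLib.SL2Borel.equivBorel.symm_apply_apply ⟨g, hm⟩)).symm

theorem eq_bor_of_diag {g : SL2} (h01 : g.1 0 1 = 0) (h10 : g.1 1 0 = 0) (ha : g.1 0 0 ^ 2 ≠ 1) :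
    ∃ a : Fˣ, (a : F) = g.1 0 0 ∧ a ^ 2 ≠ 1 ∧ g = bor a 0 := by
  obtain ⟨a, x, ea, -, ex, rfl⟩ := eq_bor_of_lower h10
  rw [h01] at ex
  subst ex
  refine ⟨a, ea, fun h => ha ?_, rfl⟩
  rw [← ea, ← Units.val_pow_eq_pow_val, h, Units.val_one]

variable (C : Subgroup (Matrix.SpecialLinearGroup (Fin 2) F))
variable (hC : IsCyclic C) (hcard : Nat.card C = Fintype.card F + 1)

include hC hcard in
/-- The list of irreducible characters. -/
theorem irr_cases {χ : SL2 → ℂ} (hχ : IsIrrCharacter SL2 χ) :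
    χ ∈ baseSet C ∨ ((2 : F) ≠ 0 ∧ ∃ H : Halves C, χ ∈ ({H.p₁, H.p₂, H.m₁, H.m₂} : Finset (SL2 → ℂ))) := by
  by_cases h2 : (2 : F) = 0
  · exact Or.inl (mem_baseSet_of_even C hC hcard h2 hχ)
  · obtain ⟨H⟩ := nonempty_halves C hC hcard h2
    rcases Finset.mem_union.mp (H.complete χ hχ) with h | h
    · exact Or.inl h
    · exact Or.inr ⟨h2, H, h⟩

/-- Twice the degree, as a natural number, in each of the six cases. -/
theorem natCast_inj' {m n : ℕ} (h : (m : ℂ) = (n : ℂ)) : m = n := by exact_mod_cast h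

theorem half_odd_eq (h2 : (2 : F) ≠ 0) :
    2 * (((Fintype.card F + 1) / 2 : ℕ) : ℂ) = qC + 1 ∧ 2 * (((Fintype.card F - 1) / 2 : ℕ) : ℂ) = qC - 1 := by
  obtain ⟨k, hk⟩ : ∃ k, Fintype.card F = 2 * k + 1 :=
    ⟨Fintype.card F / 2, by have := odd_card h2; omega⟩
  rw [hk, show (2 * k + 1 + 1) / 2 = k + 1 by omega, show (2 * k + 1 - 1) / 2 = k by omega]
  constructor <;> push_cast <;> ring

include hC hcard in
/-- Every irreducible character, with its degree. -/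
theorem degree_cases {χ : SL2 → ℂ} (hχ : IsIrrCharacter SL2 χ) :
    (χ = (fun _ => 1) ∧ χ 1 = 1) ∨ (χ = st ∧ χ 1 = qC) ∨
      (∃ α : MulChar F ℂ, α ^ 2 ≠ 1 ∧ χ = ps α ∧ χ 1 = qC + 1) ∨
      (∃ θ : C →* ℂˣ, θ ^ 2 ≠ 1 ∧ χ = ds C θ ∧ χ 1 = qC - 1) ∨
      ((2 : F) ≠ 0 ∧ ∃ H : Halves C, (χ = H.p₁ ∨ χ = H.p₂) ∧ 2 * χ 1 = qC + 1) ∨
      ((2 : F) ≠ 0 ∧ ∃ H : Halves C, (χ = H.m₁ ∨ χ = H.m₂) ∧ 2 * χ 1 = qC - 1) := by
  rcases irr_cases C hC hcard hχ with h | ⟨h2, H, h⟩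
  · rcases (mem_baseSet C).mp h with rfl | rfl | ⟨α, hα, rfl⟩ | ⟨θ, hθ, rfl⟩
    · exact Or.inl ⟨rfl, rfl⟩
    · exact Or.inr (Or.inl ⟨rfl, st_one⟩)
    · exact Or.inr (Or.inr (Or.inl ⟨α, hα, rfl, ps_one α⟩))
    · exact Or.inr (Or.inr (Or.inr (Or.inl ⟨θ, hθ, rfl, ds_one C hC hcard θ⟩)))
  · simp only [Finset.mem_insert, Finset.mem_singleton] at h
    rcases h with rfl | rfl | rfl | rfl
    · exact Or.inr (Or.inr (Or.inr (Or.inr (Or.inl ⟨h2, H, Or.inl rfl, by rw [H.p₁_one]; ring⟩))))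
    · exact Or.inr (Or.inr (Or.inr (Or.inr (Or.inl ⟨h2, H, Or.inr rfl, by rw [H.p₂_one]; ring⟩))))
    · exact Or.inr (Or.inr (Or.inr (Or.inr (Or.inr ⟨h2, H, Or.inl rfl, by rw [H.m₁_one]; ring⟩))))
    · exact Or.inr (Or.inr (Or.inr (Or.inr (Or.inr ⟨h2, H, Or.inr rfl, by rw [H.m₂_one]; ring⟩))))

theorem cast_ne {a b c d : ℕ} (h : a * Fintype.card F + b ≠ c * Fintype.card F + d) :
    (a : ℂ) * qC + b ≠ (c : ℂ) * qC + d := fun e => h (by exact_mod_cast e)

include hC hcard in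
theorem eq_st_of_degree {χ : SL2 → ℂ} (hχ : IsIrrCharacter SL2 χ) (hd : χ 1 = qC) : χ = st := by
  have hq := Fintype.one_lt_card (α := F)
  rcases degree_cases C hC hcard hχ with ⟨-, h⟩ | ⟨h, -⟩ | ⟨α, -, -, h⟩ | ⟨θ, -, -, h⟩ | ⟨-, H, -, h⟩ | ⟨-, H, -, h⟩
  · rw [hd] at h
    exact absurd (natCast_inj' (n := 1) (by rw [h, Nat.cast_one])) (by omega : ¬ Fintype.card F = 1)
  · exact h
  · rw [hd] at h; exact absurd (by linear_combination h : (0 : ℂ) = 1) zero_ne_one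
  · rw [hd] at h; exact absurd (by linear_combination -h : (0 : ℂ) = 1) zero_ne_one
  · rw [hd] at h
    exact absurd (natCast_inj' (n := 1) (by rw [Nat.cast_one]; linear_combination h))
      (by omega : ¬ Fintype.card F = 1)
  · rw [hd] at h
    have e : ((Fintype.card F + 1 : ℕ) : ℂ) = ((0 : ℕ) : ℂ) := by push_cast; linear_combination h
    have := natCast_inj' e
    omega

include hC hcard in
theorem eq_ps_of_degree {χ : SL2 → ℂ} (hχ : IsIrrCharacter SL2 χ) (hd : χ 1 = qC + 1) :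
    ∃ α : MulChar F ℂ, α ^ 2 ≠ 1 ∧ χ = ps α := by
  have hq := Fintype.one_lt_card (α := F)
  rcases degree_cases C hC hcard hχ with ⟨-, h⟩ | ⟨-, h⟩ | ⟨α, hα, h, -⟩ | ⟨θ, -, -, h⟩ | ⟨-, H, -, h⟩ | ⟨-, H, -, h⟩
  · rw [hd] at h; exact absurd (by linear_combination h : qC = 0) (qC_ne (F := F))
  · rw [hd] at h; exact absurd (by linear_combination h : (1 : ℂ) = 0) one_ne_zero
  · exact ⟨α, hα, h⟩
  · rw [hd] at h
    exact absurd (by linear_combination h / 2 : (1 : ℂ) = 0) one_ne_zero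
  · rw [hd] at h
    exact absurd (by linear_combination h : qC + 1 = 0) (qC_add_ne (F := F))
  · rw [hd] at h
    have e : ((Fintype.card F + 3 : ℕ) : ℂ) = ((0 : ℕ) : ℂ) := by push_cast; linear_combination h
    have := natCast_inj' e
    omega

include hC hcard in
theorem eq_ds_of_degree {χ : SL2 → ℂ} (hχ : IsIrrCharacter SL2 χ) (hd : χ 1 = qC - 1) :
    (∃ θ : C →* ℂˣ, θ ^ 2 ≠ 1 ∧ χ = ds C θ) ∨
      (Fintype.card F = 2 ∧ χ = fun _ => 1) ∨
      (Fintype.card F = 3 ∧ ∃ H : Halves C, χ = H.p₁ ∨ χ = H.p₂) := by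
  have hq := Fintype.one_lt_card (α := F)
  rcases degree_cases C hC hcard hχ with ⟨h', h⟩ | ⟨-, h⟩ | ⟨α, -, -, h⟩ | ⟨θ, hθ, h, -⟩ | ⟨-, H, h', h⟩ | ⟨-, H, -, h⟩
  · rw [hd] at h
    exact Or.inr (Or.inl ⟨natCast_inj' (n := 2) (by push_cast; linear_combination h), h'⟩)
  · rw [hd] at h; exact absurd (by linear_combination -h : (1 : ℂ) = 0) one_ne_zero
  · rw [hd] at h
    exact absurd (by linear_combination -h / 2 : (1 : ℂ) = 0) one_ne_zero
  · exact Or.inl ⟨θ, hθ, h⟩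
  · rw [hd] at h
    exact Or.inr (Or.inr ⟨natCast_inj' (n := 3) (by push_cast; linear_combination h), H, h'⟩)
  · rw [hd] at h
    exact absurd (by linear_combination h : qC - 1 = 0) (qC_sub_ne (F := F))

include hC hcard in
theorem eq_p_of_degree (h2 : (2 : F) ≠ 0) {χ : SL2 → ℂ} (hχ : IsIrrCharacter SL2 χ)
    (hd : χ 1 = (((Fintype.card F + 1) / 2 : ℕ) : ℂ)) :
    (∃ H : Halves C, χ = H.p₁ ∨ χ = H.p₂) ∨
      (Fintype.card F = 3 ∧ ∃ θ : C →* ℂˣ, θ ^ 2 ≠ 1 ∧ χ = ds C θ) := by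
  have hq := Fintype.one_lt_card (α := F)
  have ho := odd_card h2
  have hd2 : 2 * χ 1 = qC + 1 := by rw [hd, (half_odd_eq h2).1]
  rcases degree_cases C hC hcard hχ with ⟨-, h⟩ | ⟨-, h⟩ | ⟨α, -, -, h⟩ | ⟨θ, hθ, h', h⟩ | ⟨-, H, h', -⟩ | ⟨-, H, -, h⟩
  · rw [h] at hd2
    exact absurd (natCast_inj' (n := 1) (by rw [Nat.cast_one]; linear_combination -hd2))
      (by omega : ¬ Fintype.card F = 1)
  · rw [h] at hd2
    exact absurd (natCast_inj' (n := 1) (by rw [Nat.cast_one]; linear_combination hd2))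
      (by omega : ¬ Fintype.card F = 1)
  · rw [h] at hd2
    exact absurd (by linear_combination hd2 : qC + 1 = 0) (qC_add_ne (F := F))
  · rw [h] at hd2
    exact Or.inr ⟨natCast_inj' (n := 3) (by push_cast; linear_combination hd2), θ, hθ, h'⟩
  · exact Or.inl ⟨H, h'⟩
  · rw [h] at hd2
    exact absurd (by linear_combination -hd2 / 2 : (1 : ℂ) = 0) one_ne_zero

include hC hcard in
theorem eq_m_of_degree (h2 : (2 : F) ≠ 0) {χ : SL2 → ℂ} (hχ : IsIrrCharacter SL2 χ)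
    (hd : χ 1 = (((Fintype.card F - 1) / 2 : ℕ) : ℂ)) :
    (∃ H : Halves C, χ = H.m₁ ∨ χ = H.m₂) ∨ (Fintype.card F = 3 ∧ χ = fun _ => 1) := by
  have hq := Fintype.one_lt_card (α := F)
  have ho := odd_card h2
  have hd2 : 2 * χ 1 = qC - 1 := by rw [hd, (half_odd_eq h2).2]
  rcases degree_cases C hC hcard hχ with ⟨h', h⟩ | ⟨-, h⟩ | ⟨α, -, -, h⟩ | ⟨θ, hθ, h', h⟩ | ⟨-, H, -, h⟩ | ⟨-, H, h', -⟩
  · rw [h] at hd2
    exact Or.inr ⟨natCast_inj' (n := 3) (by push_cast; linear_combination -hd2), h'⟩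
  · rw [h] at hd2
    exact absurd (by linear_combination hd2 : qC + 1 = 0) (qC_add_ne (F := F))
  · rw [h] at hd2
    have e : ((Fintype.card F + 3 : ℕ) : ℂ) = ((0 : ℕ) : ℂ) := by push_cast; linear_combination hd2
    have := natCast_inj' e
    omega
  · rw [h] at hd2
    exact absurd (by linear_combination hd2 : qC - 1 = 0) (qC_sub_ne (F := F))
  · rw [h] at hd2
    exact absurd (by linear_combination hd2 / 2 : (1 : ℂ) = 0) one_ne_zero
  · exact Or.inl ⟨H, h'⟩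

/-- In `SL₂(3)` the discrete series vanishes on elliptic elements. -/
theorem theta_add_inv_eq_zero {θ : C →* ℂˣ} (hcard : Nat.card C = Fintype.card F + 1)
    (hC : IsCyclic C) (h3 : Fintype.card F = 3) (hθ : θ ^ 2 ≠ 1) (c : C) (hc : Ell (c : SL2)) :
    ((θ c : ℂˣ) : ℂ) + ((θ c⁻¹ : ℂˣ) : ℂ) = 0 := by
  have hne2 : c ^ 2 ≠ 1 := fun h => ell_ne_inv hc (by
    have h' : (c : SL2) * c = 1 := by rw [← Subgroup.coe_mul, ← sq, h, Subgroup.coe_one]
    exact inv_eq_of_mul_eq_one_right h')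
  have h4 : orderOf c = 4 := by
    have hp : c ^ (2 ^ (1 + 1)) = 1 := by
      rw [show (2 : ℕ) ^ (1 + 1) = Nat.card C by rw [hcard, h3]; norm_num]
      exact pow_card_eq_one'
    have := orderOf_eq_prime_pow (p := 2) (n := 1) (by simpa using hne2) hp
    simpa using this
  have hgen : ∀ y : C, y ∈ Subgroup.zpowers c := by
    intro y
    have htop : Subgroup.zpowers c = ⊤ := Subgroup.eq_top_of_card_eq _ (by rw [Nat.card_zpowers, h4, hcard, h3])
    rw [htop]; exact Subgroup.mem_top y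
  have h4' : ((θ c : ℂˣ) : ℂ) ^ 4 = 1 := by
    rw [← Units.val_pow_eq_pow_val, ← map_pow, ← h4, pow_orderOf_eq_one, map_one, Units.val_one]
  have h2' : ((θ c : ℂˣ) : ℂ) ^ 2 ≠ 1 := fun h => hθ (MonoidHom.ext fun y => by
    obtain ⟨k, rfl⟩ := Subgroup.mem_zpowers_iff.mp (hgen y)
    show (θ (c ^ k)) ^ 2 = 1
    have hu : (θ c) ^ 2 = 1 := Units.ext (by rw [Units.val_pow_eq_pow_val, h, Units.val_one])
    rw [map_zpow, ← zpow_natCast, ← _root_.zpow_mul, mul_comm, _root_.zpow_mul, zpow_natCast, hu,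
      _root_.one_zpow])
  have hm : ((θ c : ℂˣ) : ℂ) * ((θ c : ℂˣ) : ℂ) = -1 := by
    have h' : (((θ c : ℂˣ) : ℂ) ^ 2 - 1) * (((θ c : ℂˣ) : ℂ) ^ 2 + 1) = 0 := by linear_combination h4'
    rcases mul_eq_zero.mp h' with h | h
    · exact absurd (sub_eq_zero.mp h) h2'
    · linear_combination h
  have hi := hom_mul_inv θ c
  linear_combination ((θ c⁻¹ : ℂˣ) : ℂ) * hm - ((θ c : ℂˣ) : ℂ) * hi

include hC hcard in
theorem eq_one_of_degree (hq4 : 4 ≤ Fintype.card F) {χ : SL2 → ℂ} (hχ : IsIrrCharacter SL2 χ)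
    (hd : χ 1 = 1) : χ = fun _ => 1 := by
  rcases degree_cases C hC hcard hχ with ⟨h, -⟩ | ⟨-, h⟩ | ⟨α, -, -, h⟩ | ⟨θ, -, -, h⟩ | ⟨-, H, -, h⟩ | ⟨-, H, -, h⟩
  · exact h
  · rw [hd] at h
    exact absurd (natCast_inj' (n := 1) (by rw [Nat.cast_one]; linear_combination -h)) (by omega : ¬ Fintype.card F = 1)
  · rw [hd] at h
    exact absurd (by linear_combination -h : qC = 0) (qC_ne (F := F))
  · rw [hd] at h
    exact absurd (natCast_inj' (n := 2) (by push_cast; linear_combination -h)) (by omega : ¬ Fintype.card F = 2)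
  · rw [hd] at h
    exact absurd (natCast_inj' (n := 1) (by rw [Nat.cast_one]; linear_combination -h)) (by omega : ¬ Fintype.card F = 1)
  · rw [hd] at h
    exact absurd (natCast_inj' (n := 3) (by push_cast; linear_combination -h)) (by omega : ¬ Fintype.card F = 3)

omit [Field F] [Fintype F] [DecidableEq F] in
theorem card_irr_of_mem {G : Type*} [Group G] [Fintype G] (S : Finset (G → ℂ))
    (hS : ∀ f ∈ S, IsIrrCharacter G f) (P : (G → ℂ) → Prop)
    (hP : ∀ f : G → ℂ, IsIrrCharacter G f → (P f ↔ f ∈ S)) :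
    Nat.card {χ : IrrCharacter G // P (χ : G → ℂ)} = S.card := by
  rw [← Nat.card_eq_finsetCard]
  exact Nat.card_congr
    { toFun := fun χ => ⟨χ.1.1, (hP _ χ.1.2).mp χ.2⟩
      invFun := fun f => ⟨⟨f.1, hS _ f.2⟩, (hP _ (hS _ f.2)).mpr f.2⟩
      left_inv := fun χ => rfl
      right_inv := fun f => rfl }

include hC hcard in
theorem eq_torus_of_ell {g : SL2} (hg : Ell g) :
    ∃ c : C, Ell (c : SL2) ∧ IsConj g (c : SL2) := by
  obtain ⟨c, hc, he, hcon⟩ := exists_conj_mem C hC hcard hg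
  exact ⟨⟨c, hc⟩, he, hcon⟩

include hC hcard in
/-- The half-size characters of a fixed `H`, recognised by degree. -/
theorem Halves.mem_of_degree (H : Halves C) (h2 : (2 : F) ≠ 0) (hq : 5 ≤ Fintype.card F) {χ : SL2 → ℂ}
    (hχ : IsIrrCharacter SL2 χ) :
    (χ 1 = (((Fintype.card F + 1) / 2 : ℕ) : ℂ) → χ = H.p₁ ∨ χ = H.p₂) ∧
    (χ 1 = (((Fintype.card F - 1) / 2 : ℕ) : ℂ) → χ = H.m₁ ∨ χ = H.m₂) := by
  have ho := odd_card h2
  have hbase : ∀ f ∈ baseSet C, ∃ n : ℕ, f 1 = (n : ℂ) ∧ n ≠ (Fintype.card F + 1) / 2 ∧ n ≠ (Fintype.card F - 1) / 2 := by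
    intro f hf
    rcases (mem_baseSet C).mp hf with rfl | rfl | ⟨α, -, rfl⟩ | ⟨θ, -, rfl⟩
    · exact ⟨1, by simp, by omega, by omega⟩
    · exact ⟨Fintype.card F, st_one, by omega, by omega⟩
    · exact ⟨Fintype.card F + 1, by rw [ps_one]; push_cast; rfl, by omega, by omega⟩
    · exact ⟨Fintype.card F - 1, by rw [ds_one C hC hcard, Nat.cast_sub Fintype.card_pos]; simp,
        by omega, by omega⟩
  obtain ⟨d1, d2, d3, d4⟩ := H.deg h2
  constructor
  · intro hd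
    rcases Finset.mem_union.mp (H.complete χ hχ) with hb | hb
    · obtain ⟨n, hn, hn1, -⟩ := hbase χ hb
      rw [hd] at hn
      exact absurd (natCast_inj' hn).symm hn1
    · simp only [Finset.mem_insert, Finset.mem_singleton] at hb
      rcases hb with h | h | h | h
      · exact Or.inl h
      · exact Or.inr h
      · rw [h, d3] at hd; have := natCast_inj' hd; omega
      · rw [h, d4] at hd; have := natCast_inj' hd; omega
  · intro hd
    rcases Finset.mem_union.mp (H.complete χ hχ) with hb | hb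
    · obtain ⟨n, hn, -, hn1⟩ := hbase χ hb
      rw [hd] at hn
      exact absurd (natCast_inj' hn).symm hn1
    · simp only [Finset.mem_insert, Finset.mem_singleton] at hb
      rcases hb with h | h | h | h
      · rw [h, d1] at hd; have := natCast_inj' hd; omega
      · rw [h, d2] at hd; have := natCast_inj' hd; omega
      · exact Or.inl h
      · exact Or.inr h

include hC hcard in
theorem mem_center_iff_not_ell (c : C) :
    (c : SL2) ∈ Subgroup.center SL2 ↔ ¬ Ell (c : SL2) := by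
  constructor
  · intro hc he
    have htop : C = ⊤ := by
      rw [← centralizer_eq C hC hcard c.2 he, eq_top_iff]
      intro y _
      rw [Subgroup.mem_centralizer_singleton_iff]
      exact Subgroup.mem_center_iff.mp hc y
    refine not_ell_bor (1 : Fˣ) (1 : F) ?_
    rcases torus_cases C hcard (show bor (1 : Fˣ) (1 : F) ∈ C by rw [htop]; exact Subgroup.mem_top _) with h | ⟨e, he', h⟩
    · exact h
    · exact absurd (bor_injective h).2 one_ne_zero
  · intro hn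
    obtain ⟨e, he, hce⟩ := (torus_cases C hcard c.2).resolve_left hn
    rw [Subgroup.mem_center_iff, hce]
    exact fun g => (scalar_comm e he g).eq.symm

/-- Sum over the unitriangular group. -/
theorem sum_unitriangular (f : SL2 → ℂ) :
    (∑ g : SL2, if g.1 1 0 = 0 ∧ g.1 0 0 = 1 ∧ g.1 1 1 = 1 then f g else 0) = ∑ x : F, f (bor 1 x) := by
  rw [← Finset.sum_filter]
  refine Finset.sum_bij' (fun g _ => g.1 0 1) (fun x _ => bor 1 x) (fun _ _ => Finset.mem_univ _)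
    (fun x _ => by simp) (fun g hg => ?_) (fun x _ => by simp) (fun g hg => ?_)
  all_goals
    obtain ⟨h10, h00, h11⟩ := (Finset.mem_filter.mp hg).2
    obtain ⟨a, x, ea, -, ex, rfl⟩ := eq_bor_of_lower h10
    have ha : a = 1 := Units.ext (by rw [ea, h00, Units.val_one])
    subst ha
    simp

theorem sum_line_eq (f : SL2 → ℂ) (v : ℂ) (hf : ∀ x : F, x ≠ 0 → f (bor 1 x) = v) :
    ∑ x : F, f (bor 1 x) = f 1 + (qC - 1) * v := by
  rw [Finset.sum_eq_add_sum_sdiff_singleton_of_mem (Finset.mem_univ (0 : F)), bor_one,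
    Finset.sum_congr rfl (fun x hx => hf x (by simpa using hx)), Finset.sum_const,
    Finset.card_sdiff_of_subset (Finset.subset_univ _), Finset.card_singleton, Finset.card_univ,
    nsmul_eq_mul, Nat.cast_sub Fintype.card_pos, Nat.cast_one]

theorem sum_line_half (h2 : (2 : F) ≠ 0) (f : SL2 → ℂ) (c D : ℂ)
    (hf : ∀ x : F, x ≠ 0 → f (bor 1 x) = (c + eta F x * D) / 2) :
    ∑ x : F, f (bor 1 x) = f 1 + (qC - 1) * (c / 2) := by
  have h0 : ∀ x : F, f (bor 1 x) = (if x = 0 then f 1 - c / 2 else 0) + (c / 2 + eta F x * D / 2) := by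
    intro x
    by_cases hx : x = 0
    · subst hx; rw [if_pos rfl, bor_one, eta_apply, MulChar.map_zero]; simp
    · rw [if_neg hx, hf x hx]; ring
  simp only [h0, Finset.sum_add_distrib, ← Finset.sum_div, ← Finset.sum_mul, eta_sum_zero h2,
    Finset.sum_ite_eq', Finset.mem_univ, if_true, Finset.sum_const, Finset.card_univ, nsmul_eq_mul]
  ring

end CfsgLib.SL2Char
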