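import Cfsg.Agent.Lib.SL2Char.Halves

/-!
Values of the half-size characters of `SL₂(q)`, `q` odd.
-/

set_option autoImplicit false

namespace CfsgLib.SL2Char

open Matrix Cfsg CfsgLib.CharTheory
open scoped ComplexConjugate Classical

variable {F : Type*} [Field F] [Fintype F] [DecidableEq F]

local notation "SL2" => Matrix.SpecialLinearGroup (Fin 2) F
local notation "qC" => (Fintype.card F : ℂ)

theorem normSq_pair {X Y A B : ℂ} {s : ℝ} (hs : s * s = 1) (hsum : X + Y = 2 * (s : ℂ))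
    (hn : X * conj X + Y * conj Y + A * conj A + B * conj B = 2) :
    X = s ∧ Y = s ∧ A = 0 ∧ B = 0 := by
  have hre := congrArg Complex.re hsum
  have him := congrArg Complex.im hsum
  have hn' := congrArg Complex.re hn
  simp at hre him hn'
  have k1 : (X.re - s) ^ 2 + (Y.re - s) ^ 2 + X.im ^ 2 + Y.im ^ 2 + A.re ^ 2 + A.im ^ 2 + B.re ^ 2 +
      B.im ^ 2 = 0 := by
    linear_combination hn' - (2 * s) * hre - 2 * hs
  have a1 := sq_nonneg (X.re - s); have a2 := sq_nonneg (Y.re - s)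
  have a3 := sq_nonneg X.im; have a4 := sq_nonneg Y.im
  have a5 := sq_nonneg A.re; have a6 := sq_nonneg A.im
  have a7 := sq_nonneg B.re; have a8 := sq_nonneg B.im
  refine ⟨Complex.ext ?_ ?_, Complex.ext ?_ ?_, Complex.ext ?_ ?_, Complex.ext ?_ ?_⟩ <;>
    simp only [Complex.ofReal_re, Complex.ofReal_im, Complex.zero_re, Complex.zero_im]
  all_goals first
    | exact pow_eq_zero_iff two_ne_zero |>.mp (by linarith)
    | exact sub_eq_zero.mp (pow_eq_zero_iff two_ne_zero |>.mp (by linarith))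

theorem central_pair {X Y : ℂ} {d : ℕ} {s : ℝ} (hs : s * s = 1) (hX : ‖X‖ ≤ d) (hY : ‖Y‖ ≤ d)
    (hsum : X + Y = 2 * (s : ℂ) * d) : X = s * d ∧ Y = s * d := by
  have hre := congrArg Complex.re hsum
  have him := congrArg Complex.im hsum
  simp at hre him
  have bX : X.re * X.re + X.im * X.im ≤ (d : ℝ) ^ 2 := by
    rw [← Complex.normSq_apply, Complex.normSq_eq_norm_sq]
    exact pow_le_pow_left₀ (norm_nonneg _) hX 2
  have bY : Y.re * Y.re + Y.im * Y.im ≤ (d : ℝ) ^ 2 := by
    rw [← Complex.normSq_apply, Complex.normSq_eq_norm_sq]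
    exact pow_le_pow_left₀ (norm_nonneg _) hY 2
  have k1 : (X.re - s * d) ^ 2 + (Y.re - s * d) ^ 2 + X.im ^ 2 + Y.im ^ 2 ≤ 0 := by
    have e1 : (X.re - s * d) ^ 2 + (Y.re - s * d) ^ 2 + X.im ^ 2 + Y.im ^ 2 =
        (X.re * X.re + X.im * X.im) + (Y.re * Y.re + Y.im * Y.im) - 2 * (d : ℝ) ^ 2 := by
      linear_combination (-2 * s * (d : ℝ)) * hre + (-2 * (d : ℝ) ^ 2) * hs
    linarith
  have a1 := sq_nonneg (X.re - s * d); have a2 := sq_nonneg (Y.re - s * d)
  have a3 := sq_nonneg X.im; have a4 := sq_nonneg Y.im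
  refine ⟨Complex.ext ?_ ?_, Complex.ext ?_ ?_⟩ <;>
    simp only [Complex.mul_re, Complex.mul_im, Complex.ofReal_re, Complex.ofReal_im, Complex.natCast_re,
      Complex.natCast_im, mul_zero, zero_mul, sub_zero, add_zero]
  all_goals first
    | exact pow_eq_zero_iff two_ne_zero |>.mp (by linarith)
    | exact sub_eq_zero.mp (pow_eq_zero_iff two_ne_zero |>.mp (by linarith))

variable {C : Subgroup (Matrix.SpecialLinearGroup (Fin 2) F)}
variable (hC : IsCyclic C) (hcard : Nat.card C = Fintype.card F + 1)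

theorem Halves.θ₀_val (H : Halves C) (c : C) :
    ((H.θ₀ c : ℂˣ) : ℂ) = 1 ∨ ((H.θ₀ c : ℂˣ) : ℂ) = -1 := by
  have h : (H.θ₀ c) ^ 2 = 1 := DFunLike.congr_fun H.θ₀_sq c
  have h' : ((H.θ₀ c : ℂˣ) : ℂ) ^ 2 = 1 := by
    rw [← Units.val_pow_eq_pow_val, h, Units.val_one]
  exact sq_eq_one_iff.mp h'

theorem Halves.θ₀_real (H : Halves C) (c : C) :
    ∃ s : ℝ, s * s = 1 ∧ ((H.θ₀ c : ℂˣ) : ℂ) = (s : ℂ) := by
  rcases H.θ₀_val c with h | h
  · exact ⟨1, by norm_num, by rw [h]; norm_num⟩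
  · exact ⟨-1, by norm_num, by rw [h]; norm_num⟩

theorem eta_real (a : Fˣ) : ∃ s : ℝ, s * s = 1 ∧ eta F (a : F) = (s : ℂ) := by
  rcases eta_unit a with h | h
  · exact ⟨1, by norm_num, by rw [h]; norm_num⟩
  · exact ⟨-1, by norm_num, by rw [h]; norm_num⟩

include hC hcard in
theorem Halves.θ₀_eq_one_iff (H : Halves C) (h2 : (2 : F) ≠ 0) (c : C) :
    H.θ₀ c = 1 ↔ c ^ ((Fintype.card F + 1) / 2) = 1 := by
  obtain ⟨g, hg⟩ := hC.exists_generator
  have hodd := odd_card h2
  have hg1 : H.θ₀ g ≠ 1 := fun h => H.θ₀_ne (MonoidHom.ext fun x => by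
    obtain ⟨k, rfl⟩ := Subgroup.mem_zpowers_iff.mp (hg x)
    rw [map_zpow, h, _root_.one_zpow, MonoidHom.one_apply])
  have hgm : ((H.θ₀ g : ℂˣ) : ℂ) = -1 :=
    (H.θ₀_val g).resolve_left fun h => hg1 (Units.ext h)
  have hord : orderOf g = Fintype.card F + 1 := by
    rw [← hcard, orderOf_eq_card_of_forall_mem_zpowers hg]
  obtain ⟨k, rfl⟩ := Subgroup.mem_zpowers_iff.mp (hg c)
  rw [map_zpow, ← Units.val_eq_one, Units.val_zpow_eq_zpow_val, hgm, ← zpow_natCast, ← _root_.zpow_mul,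
    ← orderOf_dvd_iff_zpow_eq_one, hord]
  obtain ⟨t, ht⟩ : ∃ t, Fintype.card F + 1 = 2 * t := ⟨(Fintype.card F + 1) / 2, by omega⟩
  rw [ht, Nat.mul_div_cancel_left _ (by norm_num : 0 < 2)]
  have ht0 : (t : ℤ) ≠ 0 := by omega
  rw [show (((2 * t : ℕ)) : ℤ) = 2 * (t : ℤ) by push_cast; rfl, mul_dvd_mul_iff_right ht0]
  rcases Int.even_or_odd k with hk | hk
  · exact ⟨fun _ => even_iff_two_dvd.mp hk, fun _ => hk.neg_one_zpow⟩
  · refine ⟨fun h => ?_, fun h => absurd (even_iff_two_dvd.mpr h) (Int.not_even_iff_odd.mpr hk)⟩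
    rw [hk.neg_one_zpow] at h
    norm_num at h

include hC hcard in
/-- Column orthogonality, split into the base part and the four halves. -/
theorem Halves.column (H : Halves C) (g : SL2) :
    ∑ f ∈ baseSet C, f g * conj (f g) + (H.p₁ g * conj (H.p₁ g) + H.p₂ g * conj (H.p₂ g) +
      H.m₁ g * conj (H.m₁ g) + H.m₂ g * conj (H.m₂ g)) =
        (Nat.card (Subgroup.centralizer ({g} : Set SL2)) : ℂ) := by
  have h := sum_irr_mul_conj g g
  rw [if_pos (IsConj.refl g), sum_irr_eq (baseSet C ∪ {H.p₁, H.p₂, H.m₁, H.m₂}) ?_ H.complete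
    (fun f => f g * conj (f g)), Finset.sum_union H.not_base] at h
  · obtain ⟨n1, n2, n3, n4⟩ := H.distinct
    rw [Finset.sum_insert (by simp [H.p_ne, n1, n2]), Finset.sum_insert (by simp [n3, n4]),
      Finset.sum_pair H.m_ne] at h
    rw [← h]; ring
  · intro f hf
    rcases Finset.mem_union.mp hf with hf | hf
    · exact isIrr_baseSet C hC hcard hf
    · simp only [Finset.mem_insert, Finset.mem_singleton] at hf
      rcases hf with rfl | rfl | rfl | rfl
      exacts [H.irr_p₁, H.irr_p₂, H.irr_m₁, H.irr_m₂]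

include hC hcard in
theorem Halves.values_reg (H : Halves C) (h2 : (2 : F) ≠ 0) {a : Fˣ} (ha : a ^ 2 ≠ 1) (x : F) :
    H.p₁ (bor a x) = eta F (a : F) ∧ H.p₂ (bor a x) = eta F (a : F) ∧
      H.m₁ (bor a x) = 0 ∧ H.m₂ (bor a x) = 0 := by
  obtain ⟨s, hs, hse⟩ := eta_real a
  have hsum : H.p₁ (bor a x) + H.p₂ (bor a x) = 2 * (s : ℂ) := by
    have : eta F ((a⁻¹ : Fˣ) : F) = eta F (a : F) := by
      rw [← conj_mulChar, eta_conj]
    rw [← Pi.add_apply, ← H.p_sum, ps_bor_ne _ ha, this, hse]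
    ring
  rw [hse]
  refine normSq_pair hs hsum ?_
  have hcol := H.column hC hcard (bor a x)
  rw [card_centralizer_bor ha, Nat.cast_sub Fintype.card_pos] at hcol
  have hb : ∑ f ∈ baseSet C, f (bor a x) * conj (f (bor a x)) = qC - 3 := by
    rw [sum_baseSet C hC hcard (fun f => f (bor a x) * conj (f (bor a x))),
      Finset.sum_eq_zero (s := dsImg C) (fun f hf => by
        obtain ⟨θ, -, rfl⟩ := (mem_dsImg C).mp hf
        rw [ds_bor_ne C hcard θ ha, zero_mul]), st_bor_ne ha]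
    have e := two_sum_psImg (fun f => f (bor a x) * conj (f (bor a x))) (F := F)
    have hval : ∀ α : MulChar F ℂ, ps α (bor a x) * conj (ps α (bor a x)) =
        2 + α ((a * a : Fˣ) : F) + α ((a⁻¹ * a⁻¹ : Fˣ) : F) := by
      intro α
      rw [ps_bor_ne α ha, map_add, conj_mulChar, conj_mulChar, inv_inv, Units.val_mul, Units.val_mul,
        map_mul, map_mul]
      linear_combination 2 * mulChar_mul_inv α a
    have hne1 : a * a ≠ 1 := by rwa [← sq]
    have hne2 : a⁻¹ * a⁻¹ ≠ 1 := by rw [← _root_.mul_inv_rev, ne_eq, inv_eq_one]; exact hne1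
    simp only [hval, Finset.sum_add_distrib, sum_mulChar_apply hne1, sum_mulChar_apply hne2,
      Finset.sum_const, Finset.card_univ, card_mulChar, nsmul_eq_mul, add_zero, quadSet_eq h2,
      Finset.sum_pair (eta_ne_one h2).symm, Finset.card_pair (eta_ne_one h2).symm, MulChar.one_apply_coe] at e
    simp only [Units.val_mul, map_mul] at e
    rw [Nat.cast_sub Fintype.card_pos] at e
    have he2 : ∀ b : Fˣ, eta F (b : F) * eta F (b : F) = 1 := fun b => by
      rcases eta_unit b with h | h <;> rw [h] <;> norm_num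
    rw [he2 a, he2 a⁻¹] at e
    push_cast at e
    rw [map_one, one_mul]
    linear_combination e / 2
  rw [hb] at hcol
  push_cast at hcol
  linear_combination hcol

include hC hcard in
theorem Halves.values_ell (H : Halves C) (h2 : (2 : F) ≠ 0) (c : C) (hc : Ell (c : SL2)) :
    H.p₁ c = 0 ∧ H.p₂ c = 0 ∧ H.m₁ c = -((H.θ₀ c : ℂˣ) : ℂ) ∧ H.m₂ c = -((H.θ₀ c : ℂˣ) : ℂ) := by
  obtain ⟨s, hs, hse⟩ := H.θ₀_real c
  have hinv : H.θ₀ c⁻¹ = H.θ₀ c := by
    rw [map_inv]
    exact (DFunLike.congr_fun (hom_eq_inv C H.θ₀_sq) c).symm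
  have hsum : H.m₁ c + H.m₂ c = 2 * ((-s : ℝ) : ℂ) := by
    rw [← Pi.add_apply, ← H.m_sum, ds_ell C hC hcard _ c hc, hinv, hse]
    push_cast; ring
  rw [hse, ← Complex.ofReal_neg]
  suffices h : H.m₁ c = ((-s : ℝ) : ℂ) ∧ H.m₂ c = ((-s : ℝ) : ℂ) ∧ H.p₁ c = 0 ∧ H.p₂ c = 0 from
    ⟨h.2.2.1, h.2.2.2, h.1, h.2.1⟩
  refine normSq_pair (by linear_combination hs) hsum ?_
  have hcol := H.column hC hcard (c : SL2)
  rw [card_centralizer_ell hc] at hcol
  have hb : ∑ f ∈ baseSet C, f (c : SL2) * conj (f (c : SL2)) = qC - 1 := by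
    rw [sum_baseSet C hC hcard (fun f => f (c : SL2) * conj (f (c : SL2))),
      Finset.sum_eq_zero (s := psImg F) (fun f hf => by
        obtain ⟨α, -, rfl⟩ := mem_psImg.mp hf
        rw [ps_ell α hc, zero_mul]), st_ell hc]
    have e := two_sum_dsImg C hC hcard (fun f => f (c : SL2) * conj (f (c : SL2)))
    have hval : ∀ θ : C →* ℂˣ, ds C θ c * conj (ds C θ c) =
        2 + ((θ (c * c) : ℂˣ) : ℂ) + ((θ (c⁻¹ * c⁻¹) : ℂˣ) : ℂ) := by
      intro θ
      rw [ds_ell C hC hcard θ c hc, map_neg, map_add, conj_hom, conj_hom, inv_inv, map_mul, map_mul,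
        Units.val_mul, Units.val_mul]
      linear_combination 2 * hom_mul_inv θ c
    have hne1 : c * c ≠ 1 := fun h => ell_ne_inv hc (by
      have h' : (c : SL2) * c = 1 := congrArg Subtype.val h
      exact inv_eq_of_mul_eq_one_right h')
    have hne2 : c⁻¹ * c⁻¹ ≠ 1 := by rw [← _root_.mul_inv_rev, ne_eq, inv_eq_one]; exact hne1
    simp only [hval, Finset.sum_add_distrib, sum_torusDual_apply C hC hne1, sum_torusDual_apply C hC hne2,
      Finset.sum_const, Finset.card_univ, card_torusDual C hC hcard, nsmul_eq_mul, add_zero,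
      H.quad_eq, Finset.sum_pair H.θ₀_ne.symm, Finset.card_pair H.θ₀_ne.symm, MonoidHom.one_apply,
      Units.val_one] at e
    simp only [map_mul, Units.val_mul, hinv, hse] at e
    push_cast at e
    rw [map_one, one_mul, map_neg, map_one]
    have hs' : (s : ℂ) * (s : ℂ) = 1 := by rw [← Complex.ofReal_mul, hs]; norm_num
    linear_combination e / 2 - hs'
  rw [hb] at hcol
  push_cast at hcol
  linear_combination hcol

theorem Halves.deg (H : Halves C) (h2 : (2 : F) ≠ 0) :
    H.p₁ 1 = (((Fintype.card F + 1) / 2 : ℕ) : ℂ) ∧ H.p₂ 1 = (((Fintype.card F + 1) / 2 : ℕ) : ℂ) ∧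
      H.m₁ 1 = (((Fintype.card F - 1) / 2 : ℕ) : ℂ) ∧ H.m₂ 1 = (((Fintype.card F - 1) / 2 : ℕ) : ℂ) := by
  obtain ⟨k, hk⟩ : ∃ k, Fintype.card F = 2 * k + 1 :=
    ⟨Fintype.card F / 2, by have := odd_card h2; omega⟩
  rw [H.p₁_one, H.p₂_one, H.m₁_one, H.m₂_one, hk, show (2 * k + 1 + 1) / 2 = k + 1 by omega,
    show (2 * k + 1 - 1) / 2 = k by omega]
  refine ⟨?_, ?_, ?_, ?_⟩ <;> push_cast <;> ring

include hC hcard in
theorem Halves.values_scalar (H : Halves C) (h2 : (2 : F) ≠ 0) {e : Fˣ} (he : e ^ 2 = 1) :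
    H.p₁ (bor e 0) = eta F (e : F) * H.p₁ 1 ∧ H.p₂ (bor e 0) = eta F (e : F) * H.p₂ 1 ∧
      H.m₁ (bor e 0) = ((H.θ₀ ⟨bor e 0, bor_scalar_mem C hC hcard e he⟩ : ℂˣ) : ℂ) * H.m₁ 1 ∧
      H.m₂ (bor e 0) = ((H.θ₀ ⟨bor e 0, bor_scalar_mem C hC hcard e he⟩ : ℂˣ) : ℂ) * H.m₂ 1 := by
  obtain ⟨d1, d2, d3, d4⟩ := H.deg h2
  rw [d1, d2, d3, d4]
  have bnd : ∀ f : SL2 → ℂ, IsIrrCharacter SL2 f → ∀ d : ℕ, f 1 = d → ∀ g : SL2, ‖f g‖ ≤ d := by
    intro f hf d hd g
    have h := norm_char_le (isCharacter_of_irr hf) g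
    rwa [hd, Complex.norm_natCast] at h
  constructor
  · obtain ⟨s, hs, hse⟩ := eta_real e
    rw [hse]
    refine (central_pair hs (bnd _ H.irr_p₁ _ d1 (bor e 0)) (bnd _ H.irr_p₂ _ d2 (bor e 0)) ?_).1
    rw [← Pi.add_apply, ← H.p_sum, ps_bor_scalar _ he, hse]
    have : qC + 1 = 2 * (((Fintype.card F + 1) / 2 : ℕ) : ℂ) := by
      rw [← d1, H.p₁_one]; ring
    rw [this]; ring
  constructor
  · obtain ⟨s, hs, hse⟩ := eta_real e
    rw [hse]
    refine (central_pair hs (bnd _ H.irr_p₁ _ d1 (bor e 0)) (bnd _ H.irr_p₂ _ d2 (bor e 0)) ?_).2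
    rw [← Pi.add_apply, ← H.p_sum, ps_bor_scalar _ he, hse]
    have : qC + 1 = 2 * (((Fintype.card F + 1) / 2 : ℕ) : ℂ) := by
      rw [← d1, H.p₁_one]; ring
    rw [this]; ring
  · obtain ⟨s, hs, hse⟩ := H.θ₀_real ⟨bor e 0, bor_scalar_mem C hC hcard e he⟩
    rw [hse]
    refine central_pair hs (bnd _ H.irr_m₁ _ d3 (bor e 0)) (bnd _ H.irr_m₂ _ d4 (bor e 0)) ?_
    rw [← Pi.add_apply, ← H.m_sum, ds_bor_scalar C hC hcard _ he, hse]
    have : qC - 1 = 2 * (((Fintype.card F - 1) / 2 : ℕ) : ℂ) := by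
      rw [← d3, H.m₁_one]; ring
    rw [this]; ring

theorem bor_one_sum_eq_zero_of_pair {D : F → ℂ} (h2 : (2 : F) ≠ 0) (h0 : D 0 = 0)
    (hcl : ∀ (c : Fˣ) (y : F), D ((c : F) ^ 2 * y) = D y) (hT : ∑ y : F, D y = 0) :
    ∀ y : F, D y = eta F y * D 1 := by
  obtain ⟨ν, hν⟩ := quadraticChar_exists_neg_one (ringChar_ne h2)
  have hν0 : ν ≠ 0 := fun h => by rw [h, MulChar.map_zero] at hν; norm_num at hν
  have hsq : ∀ w : F, w ≠ 0 → quadraticChar F w = 1 → ∀ y : F, D (w * y) = D y := by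
    intro w hw0 hw y
    obtain ⟨r, hr⟩ := (quadraticChar_one_iff_isSquare hw0).mp hw
    have hr0 : r ≠ 0 := fun h => hw0 (by rw [hr, h, zero_mul])
    rw [hr, ← sq, ← hcl (Units.mk0 r hr0) y, Units.val_mk0]
  have key : ∀ y : F, 2 * D y = (eta F y * eta F y) * (D 1 + D ν) + eta F y * (D 1 - D ν) := by
    intro y
    by_cases hy : y = 0
    · rw [hy, h0, eta_apply, MulChar.map_zero]; simp
    · rcases quadraticChar_dichotomy hy with h | h
      · have e := hsq y hy h 1
        rw [mul_one] at e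
        rw [eta_apply, h, e]; push_cast; ring
      · have hw : quadraticChar F (y * ν⁻¹) = 1 := by
          have h' : quadraticChar F ν⁻¹ = -1 := by
            rcases quadraticChar_dichotomy (inv_ne_zero hν0) with k | k
            · have := map_mul (quadraticChar F) ν ν⁻¹
              rw [mul_inv_cancel₀ hν0, map_one, hν, k] at this
              norm_num at this
            · exact k
          rw [map_mul, h, h']; norm_num
        have e := hsq (y * ν⁻¹) (mul_ne_zero hy (inv_ne_zero hν0)) hw ν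
        rw [inv_mul_cancel_right₀ hν0] at e
        rw [eta_apply, h, e]; push_cast; ring
  have hsum : (D 1 + D ν) = 0 := by
    have h := congrArg (fun z : ℂ => 2 * z) hT
    simp only [Finset.mul_sum, mul_zero, key, Finset.sum_add_distrib, ← Finset.sum_mul,
      eta_sum_zero h2, zero_mul, add_zero] at h
    rcases mul_eq_zero.mp h with h' | h'
    · exfalso
      have hn : ∀ y : F, eta F y * eta F y = if y = 0 then 0 else 1 := by
        intro y
        by_cases hy : y = 0
        · rw [if_pos hy, hy, eta_apply, MulChar.map_zero]; simp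
        · rw [if_neg hy]
          rcases eta_unit (Units.mk0 y hy) with k | k <;> rw [Units.val_mk0] at k <;> rw [k] <;> norm_num
      simp only [hn, Finset.sum_ite, Finset.sum_const_zero, zero_add, Finset.sum_const, nsmul_eq_mul,
        mul_one, Nat.cast_eq_zero, Finset.card_eq_zero, Finset.filter_eq_empty_iff] at h'
      exact (h' (Finset.mem_univ (1 : F))) one_ne_zero
    · exact h'
  intro y
  have h := key y
  rw [hsum, mul_zero, zero_add, show D ν = -D 1 by linear_combination hsum] at h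
  linear_combination h / 2

set_option maxHeartbeats 800000 in
include hC hcard in
/-- Two irreducible characters that differ only on the parabolic classes. -/
theorem pair_difference (h2 : (2 : F) ≠ 0) {P Q : SL2 → ℂ} (hP : IsIrrCharacter SL2 P)
    (hQ : IsIrrCharacter SL2 Q) (hne : P ≠ Q)
    (hreg : ∀ (a : Fˣ), a ^ 2 ≠ 1 → ∀ x : F, P (bor a x) = Q (bor a x))
    (hell : ∀ c : C, Ell (c : SL2) → P c = Q c) (h1 : P 1 = Q 1)
    (α : MulChar F ℂ) (hzP : ∀ e : Fˣ, e ^ 2 = 1 → P (bor e 0) = α (e : F) * P 1)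
    (hzQ : ∀ e : Fˣ, e ^ 2 = 1 → Q (bor e 0) = α (e : F) * Q 1)
    (hα : classInner (ps α) P = classInner (ps α) Q) :
    ∃ D : ℂ, D ^ 2 = eta F (-1 : F) * qC ∧ D ≠ 0 ∧
      ∀ (e : Fˣ), e ^ 2 = 1 → ∀ x : F, P (bor e x) - Q (bor e x) = α (e : F) * eta F ((e : F) * x) * D := by
  have hcP := isClassFunction_irr hP
  have hcQ := isClassFunction_irr hQ
  have hα1 : ∀ e : Fˣ, e ^ 2 = 1 → α (e : F) * conj (α (e : F)) = 1 := fun e he => by
    rw [conj_mulChar, mulChar_mul_inv]
  have hmove : ∀ e : Fˣ, e ^ 2 = 1 → ∀ x : F,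
      P (bor e x) = α (e : F) * P (bor 1 ((e : F) * x)) ∧
      Q (bor e x) = α (e : F) * Q (bor 1 ((e : F) * x)) := by
    intro e he x
    have hs : ‖α (e : F)‖ = 1 := by
      have h := hα1 e he
      rw [Complex.mul_conj'] at h
      have h' : ‖α (e : F)‖ ^ 2 = 1 := by exact_mod_cast h
      exact (sq_eq_one_iff.mp h').resolve_right (by linarith [norm_nonneg (α (e : F))])
    have hsplit : bor e x = bor e 0 * bor 1 ((e : F) * x) := by
      rw [bor_mul, mul_one, zero_mul, add_zero, ← mul_assoc, ← Units.val_mul, ← sq, he, Units.val_one, one_mul]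
    rw [hsplit]
    exact ⟨char_central_mul hP hs (hzP e he) _, char_central_mul hQ hs (hzQ e he) _⟩
  set D : F → ℂ := fun y => P (bor 1 y) - Q (bor 1 y) with hD
  have hD0 : D 0 = 0 := by simp [hD, bor_one, h1]
  have hcl : ∀ (c : Fˣ) (y : F), D ((c : F) ^ 2 * y) = D y := by
    intro c y
    simp only [hD]
    rw [← cl_eq hcP (isConj_bor_sq 1 c y), ← cl_eq hcQ (isConj_bor_sq 1 c y)]
  have hdiff : ∀ e : Fˣ, e ^ 2 = 1 → ∀ x : F,
      P (bor e x) - Q (bor e x) = α (e : F) * D ((e : F) * x) := by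
    intro e he x
    obtain ⟨k1, k2⟩ := hmove e he x
    simp only [hD]
    rw [k1, k2]; ring
  have hshift : ∀ e : Fˣ, ∑ x : F, D ((e : F) * x) = ∑ y : F, D y := fun e =>
    Fintype.sum_equiv (Equiv.mulLeft₀ (e : F) (Units.ne_zero _)) _ _ (fun x => rfl)
  have hT : ∑ y : F, D y = 0 := by
    have h := sub_eq_zero.mpr hα
    rw [← classInner_sub_right, classInner_ps α (isClassFunction_sub hcP hcQ)] at h
    have hterm : ∀ a : Fˣ, α (a : F) * conj (∑ x : F, (P - Q) (bor a x)) =
        if a ^ 2 = 1 then conj (∑ y : F, D y) else 0 := by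
      intro a
      by_cases ha : a ^ 2 = 1
      · rw [if_pos ha]
        simp only [Pi.sub_apply, hdiff a ha, ← Finset.mul_sum, hshift, map_mul, ← mul_assoc, hα1 a ha,
          one_mul]
      · rw [if_neg ha]
        simp only [Pi.sub_apply, hreg a ha, sub_self, Finset.sum_const_zero, map_zero, mul_zero]
    simp only [hterm] at h
    rw [← Finset.sum_filter, Finset.sum_const, nsmul_eq_mul] at h
    have hne0 : ((qC - 1) * qC)⁻¹ ≠ 0 := inv_ne_zero (mul_ne_zero qC_sub_ne qC_ne)
    have hcard0 : ((Finset.univ.filter fun a : Fˣ => a ^ 2 = 1).card : ℂ) ≠ 0 := by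
      rw [Nat.cast_ne_zero]
      exact (Finset.card_pos.mpr ⟨1, by simp⟩).ne'
    exact (map_eq_zero (starRingEnd ℂ)).mp ((mul_eq_zero.mp ((mul_eq_zero.mp h).resolve_left hne0)).resolve_left hcard0)
  have hDy := bor_one_sum_eq_zero_of_pair h2 hD0 hcl hT
  have hall : ∀ e : Fˣ, e ^ 2 = 1 → ∀ x : F,
      P (bor e x) - Q (bor e x) = α (e : F) * eta F ((e : F) * x) * D 1 := by
    intro e he x
    rw [hdiff e he, hDy]; ring
  -- the norm
  have hnorm : classInner (P - Q) (P - Q) = 2 := by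
    rw [classInner_sub_left, classInner_sub_right, classInner_sub_right, classInner_irr_self hP,
      classInner_irr_self hQ, classInner_irr_ne hP hQ hne, classInner_irr_ne hQ hP (Ne.symm hne)]
    norm_num
  set h : SL2 → ℂ := (P - Q) * fun g => conj ((P - Q) g) with hh
  have hhcl : IsClassFunction SL2 h := fun g k => by
    simp only [hh, Pi.mul_apply, Pi.sub_apply, hcP g k, hcQ g k]
  have hh1 : classInner h (fun _ => 1) = classInner (P - Q) (P - Q) := by
    simp only [classInner, hh, Pi.mul_apply, map_one, mul_one]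
  have hps1 : classInner h (ps 1) = classInner h (fun _ => 1) := by
    simp only [classInner]
    congr 1
    refine Finset.sum_congr rfl fun g _ => ?_
    rcases elem_cases g with hg | ⟨a, x, hg⟩
    · obtain ⟨c, hc, hce, hconj⟩ := exists_conj_mem C hC hcard hg
      have : h g = 0 := by
        rw [cl_eq hhcl hconj, hh]
        simp [hell ⟨c, hc⟩ hce]
      rw [this, zero_mul, zero_mul]
    · rw [cl_eq hhcl hg, cl_eq (ps_classFun 1) hg]
      by_cases ha : a ^ 2 = 1
      · by_cases hx : x = 0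
        · subst hx
          have : h (bor a 0) = 0 := by
            rw [hh]; simp [hall a ha 0, eta_apply]
          rw [this, zero_mul, zero_mul]
        · rw [ps_bor_unip 1 ha hx, MulChar.one_apply_coe]
      · have : h (bor a x) = 0 := by
          rw [hh]; simp [hreg a ha x]
        rw [this, zero_mul, zero_mul]
  have hval : conj (classInner h (ps 1)) = (2 : ℂ) / qC * (D 1 * conj (D 1)) := by
    rw [classInner_comm, classInner_ps 1 hhcl]
    have hterm : ∀ a : Fˣ, (1 : MulChar F ℂ) (a : F) * conj (∑ x : F, h (bor a x)) =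
        if a ^ 2 = 1 then (qC - 1) * (D 1 * conj (D 1)) else 0 := by
      intro a
      by_cases ha : a ^ 2 = 1
      · rw [if_pos ha, MulChar.one_apply_coe, one_mul]
        have hx : ∀ x : F, h (bor a x) = (eta F ((a : F) * x) * eta F ((a : F) * x)) * (D 1 * conj (D 1)) := by
          intro x
          rw [hh]
          simp only [Pi.mul_apply, Pi.sub_apply]
          rw [hall a ha x]
          generalize hz : eta F ((a : F) * x) = z
          rw [map_mul, map_mul, ← hz, eta_conj, hz]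
          linear_combination (z * z * D 1 * conj (D 1)) * hα1 a ha
        simp only [hx, ← Finset.sum_mul]
        have he : ∑ x : F, eta F ((a : F) * x) * eta F ((a : F) * x) = qC - 1 := by
          rw [Fintype.sum_equiv (Equiv.mulLeft₀ (a : F) (Units.ne_zero _))
            (fun x => eta F ((a : F) * x) * eta F ((a : F) * x)) (fun y => eta F y * eta F y) (fun x => rfl),
            Finset.sum_eq_add_sum_sdiff_singleton_of_mem (Finset.mem_univ (0 : F)),
            Finset.sum_congr (s₁ := Finset.univ \ {(0 : F)}) rfl (fun y hy => show eta F y * eta F y = 1 by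
              have hy0 : y ≠ 0 := by simpa using hy
              rcases eta_unit (Units.mk0 y hy0) with k | k <;> rw [Units.val_mk0] at k <;> rw [k] <;> norm_num),
            Finset.sum_const, Finset.card_sdiff_of_subset (Finset.subset_univ _), Finset.card_singleton,
            Finset.card_univ, nsmul_eq_mul, Nat.cast_sub Fintype.card_pos, eta_apply, MulChar.map_zero]
          push_cast; ring
        rw [he]
        simp only [map_mul, map_sub, map_one, Complex.conj_natCast, Complex.conj_conj]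
        ring
      · rw [if_neg ha]
        have hx : ∀ x : F, h (bor a x) = 0 := fun x => by rw [hh]; simp [hreg a ha x]
        simp only [hx, Finset.sum_const_zero, map_zero, mul_zero]
    simp only [hterm]
    rw [← Finset.sum_filter, Finset.sum_const, nsmul_eq_mul,
      show (Finset.univ.filter fun a : Fˣ => a ^ 2 = 1).card = 2 from
        (congrArg Finset.card (Finset.ext fun a => by simp [mem_scal])).trans (card_scal_odd h2)]
    have := qC_ne (F := F); have := qC_sub_ne (F := F)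
    push_cast
    field_simp
  have hDD : D 1 * conj (D 1) = qC := by
    have h3 : conj (classInner h (ps 1)) = 2 := by
      rw [hps1, hh1, hnorm, map_ofNat]
    rw [hval] at h3
    have := qC_ne (F := F)
    field_simp at h3
    exact h3
  refine ⟨D 1, ?_, fun hz => qC_ne (F := F) (by rw [← hDD, hz, zero_mul]), hall⟩
  have hconj : conj (D 1) = eta F (-1 : F) * D 1 := by
    rw [← hDy (-1)]
    simp only [hD, map_sub, ← char_apply_inv (isCharacter_of_irr hP), ← char_apply_inv (isCharacter_of_irr hQ)]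
    have hb : (bor 1 (1 : F))⁻¹ = bor 1 (-1) := by
      refine inv_eq_of_mul_eq_one_right ?_
      rw [bor_mul]; simp [bor_one]
    rw [hb]
  rw [hconj] at hDD
  have hee : eta F (-1 : F) * eta F (-1 : F) = 1 := by
    have := eta_unit (-1 : Fˣ)
    rw [Units.val_neg, Units.val_one] at this
    rcases this with k | k <;> rw [k] <;> norm_num
  linear_combination eta F (-1 : F) * hDD - D 1 ^ 2 * hee

theorem classInner_ps_halves (H : Halves C) (h2 : (2 : F) ≠ 0) (α : MulChar F ℂ) (hC : IsCyclic C)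
    (hcard : Nat.card C = Fintype.card F + 1) :
    classInner (ps α) H.m₁ = classInner (ps α) H.m₂ := by
  have h := classInner_ps_ds C hC hcard α H.θ₀
  rw [H.m_sum, classInner_add_right] at h
  obtain ⟨m, hm⟩ := classInner_char_nat (isCharacter_ps α) (isCharacter_of_irr H.irr_m₁)
  obtain ⟨n, hn⟩ := classInner_char_nat (isCharacter_ps α) (isCharacter_of_irr H.irr_m₂)
  rw [hm, hn] at h ⊢
  have h' : m + n = 0 := by exact_mod_cast h
  rw [show m = 0 by omega, show n = 0 by omega]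

include hC hcard in
/-- Values at the parabolic elements. -/
theorem Halves.values_unip (H : Halves C) (h2 : (2 : F) ≠ 0) :
    ∃ D E : ℂ, D ^ 2 = eta F (-1 : F) * qC ∧ E ^ 2 = eta F (-1 : F) * qC ∧ D ≠ 0 ∧ E ≠ 0 ∧
      ∀ (e : Fˣ) (he : e ^ 2 = 1) (x : F), x ≠ 0 →
        H.p₁ (bor e x) = eta F (e : F) * (1 + eta F ((e : F) * x) * D) / 2 ∧
        H.p₂ (bor e x) = eta F (e : F) * (1 - eta F ((e : F) * x) * D) / 2 ∧
        H.m₁ (bor e x) = ((H.θ₀ ⟨bor e 0, bor_scalar_mem C hC hcard e he⟩ : ℂˣ) : ℂ) *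
            (-1 + eta F ((e : F) * x) * E) / 2 ∧
        H.m₂ (bor e x) = ((H.θ₀ ⟨bor e 0, bor_scalar_mem C hC hcard e he⟩ : ℂˣ) : ℂ) *
            (-1 - eta F ((e : F) * x) * E) / 2 := by
  obtain ⟨D, hD2, hD0, hD⟩ := pair_difference hC hcard h2 H.irr_p₁ H.irr_p₂ H.p_ne
    (fun a ha x => by rw [(H.values_reg hC hcard h2 ha x).1, (H.values_reg hC hcard h2 ha x).2.1])
    (fun c hc => by rw [(H.values_ell hC hcard h2 c hc).1, (H.values_ell hC hcard h2 c hc).2.1])
    (by rw [H.p₁_one, H.p₂_one]) (eta F) (fun e he => (H.values_scalar hC hcard h2 he).1)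
    (fun e he => (H.values_scalar hC hcard h2 he).2.1) (by
      rw [H.p_sum, classInner_add_left, classInner_add_left, classInner_irr_self H.irr_p₁,
        classInner_irr_self H.irr_p₂, classInner_irr_ne H.irr_p₂ H.irr_p₁ H.p_ne.symm,
        classInner_irr_ne H.irr_p₁ H.irr_p₂ H.p_ne, add_comm])
  have hcompat := compatChar_spec C hC hcard H.θ₀
  obtain ⟨E, hE2, hE0, hE⟩ := pair_difference hC hcard h2 H.irr_m₁ H.irr_m₂ H.m_ne
    (fun a ha x => by rw [(H.values_reg hC hcard h2 ha x).2.2.1, (H.values_reg hC hcard h2 ha x).2.2.2])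
    (fun c hc => by rw [(H.values_ell hC hcard h2 c hc).2.2.1, (H.values_ell hC hcard h2 c hc).2.2.2])
    (by rw [H.m₁_one, H.m₂_one]) (compatChar C H.θ₀)
    (fun e he => by
      rw [hcompat e he (bor_scalar_mem C hC hcard e he)]; exact (H.values_scalar hC hcard h2 he).2.2.1)
    (fun e he => by
      rw [hcompat e he (bor_scalar_mem C hC hcard e he)]; exact (H.values_scalar hC hcard h2 he).2.2.2)
    (classInner_ps_halves H h2 _ hC hcard)
  refine ⟨D, E, hD2, hE2, hD0, hE0, fun e he x hx => ?_⟩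
  have s1 : H.p₁ (bor e x) + H.p₂ (bor e x) = eta F (e : F) := by
    rw [← Pi.add_apply, ← H.p_sum, ps_bor_unip _ he hx]
  have s2 : H.m₁ (bor e x) + H.m₂ (bor e x) =
      -((H.θ₀ ⟨bor e 0, bor_scalar_mem C hC hcard e he⟩ : ℂˣ) : ℂ) := by
    rw [← Pi.add_apply, ← H.m_sum, ds_bor_unip C hC hcard _ he hx]
  have d1 := hD e he x
  have d2 := hE e he x
  rw [hcompat e he (bor_scalar_mem C hC hcard e he)] at d2
  exact ⟨by linear_combination (s1 + d1) / 2, by linear_combination (s1 - d1) / 2,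
    by linear_combination (s2 + d2) / 2, by linear_combination (s2 - d2) / 2⟩

end CfsgLib.SL2Char
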